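import Cfsg.Agent.Lib.MaxSub.UFrameCoord

/-!
The monomial subgroup is maximal in the four-dimensional special unitary group.

A column without zeros is sent to a line orthogonal to it by a double transposition with balanced
norm-one coefficients; the resulting two-point quasi-reflection cannot be monomial.
-/

set_option autoImplicit false
set_option linter.unusedSectionVars false

namespace CfsgLib.MaxSub.SuFour.Frame

open Matrix CfsgLib.MaxSub CfsgLib.MaxSub.DecompMax CfsgLib.MaxSub.UFrame CfsgLib.MaxSub.UFrame.Mono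
open scoped MatrixGroups

variable {F : Type*} [Field F] [Fintype F] [DecidableEq F] {q : ℕ} (hF : Fintype.card F = q ^ 2)
variable {M : Subgroup (GL (Fin 4) F)}

include hF in
theorem norm_scale {w A : F} (hw : w ∈ circ hF) : w * A * qConj hF (w * A) = A * qConj hF A := by
  rw [map_mul]; linear_combination (A * qConj hF A) * (mem_circ hF).1 hw

/-- the traces on a norm circle -/
noncomputable def traces (A : F) : Finset F := (circ hF).image fun w => w * A + qConj hF (w * A)

include hF in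
theorem card_traces {A : F} (hA : A ≠ 0) {s : Finset F} (hs : s ⊆ circ hF) :
    s.card ≤ 2 * (s.image fun w => w * A + qConj hF (w * A)).card := by
  refine Finset.card_le_mul_card_image (s := s) (f := fun w => w * A + qConj hF (w * A)) 2 fun t _ => ?_
  by_contra hlt
  obtain ⟨x₁, x₂, x₃, h₁, h₂, h₃, n12, n13, n23⟩ := Finset.two_lt_card_iff.1 (not_le.1 hlt)
  have heq : ∀ x ∈ s.filter (fun w => w * A + qConj hF (w * A) = t),
      x * A * (x * A) - t * (x * A) + A * qConj hF A = 0 := fun x hx => by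
    obtain ⟨hx', hxt⟩ := Finset.mem_filter.1 hx
    rw [← hxt]
    linear_combination -(norm_scale hF (hs hx') (A := A))
  have q1 := heq _ h₁; have q2 := heq _ h₂; have q3 := heq _ h₃
  have f12 : x₁ * A + x₂ * A - t = 0 := (mul_eq_zero.1 (show (x₁ * A - x₂ * A) * (x₁ * A + x₂ * A - t) = 0 by
    linear_combination q1 - q2)).resolve_left (sub_ne_zero.2 fun e => n12 (mul_right_cancel₀ hA e))
  have f13 : x₁ * A + x₃ * A - t = 0 := (mul_eq_zero.1 (show (x₁ * A - x₃ * A) * (x₁ * A + x₃ * A - t) = 0 by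
    linear_combination q1 - q3)).resolve_left (sub_ne_zero.2 fun e => n13 (mul_right_cancel₀ hA e))
  exact n23 (mul_right_cancel₀ hA (by linear_combination f12 - f13))

include hF in
/-- a balanced pair of points on two circles, not both real -/
theorem exists_balanced (hq : 4 ≤ q) {A B : F} (hA : A ≠ 0) (hB : B ≠ 0)
    (hreal : ∃ w ∈ circ hF, qConj hF (w * A) = w * A) :
    ∃ w ∈ circ hF, ∃ w' ∈ circ hF, w * A + qConj hF (w * A) + (w' * B + qConj hF (w' * B)) = 0 ∧
      w * A + qConj hF (w * A) ≠ 0 ∧ (qConj hF (w * A) ≠ w * A ∨ qConj hF (w' * B) ≠ w' * B) := by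
  classical
  obtain ⟨w₀, hw₀, hw₀r⟩ := hreal
  obtain ⟨R, hR⟩ : ∃ R : Finset F, R = Finset.univ.filter fun x : F => qConj hF x = x := ⟨_, rfl⟩
  have hRc : R.card = q := hR ▸ fixed_card hF
  have hTA : q + 2 ≤ 2 * (traces hF A).card := by
    have h0 : w₀ * A + qConj hF (w₀ * A) ∈ traces hF A := Finset.mem_image_of_mem _ hw₀
    have h1 := card_traces hF hA (s := (circ hF).erase w₀) (Finset.erase_subset _ _)
    rw [Finset.card_erase_of_mem hw₀, card_circ] at h1
    have h2 : ((circ hF).erase w₀).image (fun w => w * A + qConj hF (w * A)) ⊆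
        (traces hF A).erase (w₀ * A + qConj hF (w₀ * A)) := by
      intro t ht
      obtain ⟨w, hw, rfl⟩ := Finset.mem_image.1 ht
      refine Finset.mem_erase.2 ⟨fun e => Finset.ne_of_mem_erase hw ?_,
        Finset.mem_image_of_mem _ (Finset.mem_of_mem_erase hw)⟩
      have n1 := norm_scale hF (A := A) (Finset.mem_of_mem_erase hw)
      have n0 := norm_scale hF (A := A) hw₀
      refine mul_right_cancel₀ hA (sub_eq_zero.1 ((mul_self_eq_zero (a := w * A - w₀ * A)).1 ?_))
      linear_combination (w * A) * e - n1 + n0 - (w₀ * A - w * A) * hw₀r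
    have h3 := Finset.card_le_card h2
    rw [Finset.card_erase_of_mem h0] at h3
    have := Finset.card_pos.2 ⟨_, h0⟩
    omega
  have hTB : q + 1 ≤ 2 * (traces hF B).card := by
    have h1 := card_traces hF hB (s := circ hF) subset_rfl
    rwa [card_circ] at h1
  have hsub : traces hF A ∪ (traces hF B).image (fun t => -t) ⊆ R := by
    intro t ht
    rw [hR, Finset.mem_filter]
    refine ⟨Finset.mem_univ _, ?_⟩
    rcases Finset.mem_union.1 ht with h | h
    · obtain ⟨w, -, rfl⟩ := Finset.mem_image.1 h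
      rw [map_add, qConj_qConj, add_comm]
    · obtain ⟨t', h', e⟩ := Finset.mem_image.1 h
      obtain ⟨w, -, e'⟩ := Finset.mem_image.1 h'
      rw [← e, ← e', map_neg, map_add, qConj_qConj, add_comm]
  obtain ⟨t, ht, ht0⟩ := Finset.exists_mem_notMem_of_card_lt_card (s := ({0} : Finset F))
    (t := traces hF A ∩ (traces hF B).image fun t => -t) (by
      have h1 := Finset.card_union_add_card_inter (traces hF A) ((traces hF B).image fun t => -t)
      have h2 := Finset.card_le_card hsub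
      rw [Finset.card_image_of_injective _ neg_injective] at h1
      rw [Finset.card_singleton]
      omega)
  rw [Finset.mem_singleton] at ht0
  obtain ⟨h1, h2⟩ := Finset.mem_inter.1 ht
  obtain ⟨w, hw, rfl⟩ := Finset.mem_image.1 h1
  obtain ⟨t', ht', he⟩ := Finset.mem_image.1 h2
  obtain ⟨w', hw', rfl⟩ := Finset.mem_image.1 ht'
  have hsum : w * A + qConj hF (w * A) + (w' * B + qConj hF (w' * B)) = 0 := by linear_combination -he
  by_cases hboth : qConj hF (w * A) = w * A ∧ qConj hF (w' * B) = w' * B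
  swap
  · exact ⟨w, hw, w', hw', hsum, ht0, by tauto⟩
  obtain ⟨hr, hr'⟩ := hboth
  have h20 : (2 : F) ≠ 0 := fun e => ht0 (by rw [hr]; linear_combination (w * A) * e)
  have hopp : w' * B = -(w * A) :=
    mul_left_cancel₀ h20 (by linear_combination hsum - hr - hr')
  obtain ⟨μ, hμ, hμn⟩ := Finset.exists_mem_notMem_of_card_lt_card
    (s := ({1, -1} : Finset F) ∪ ((circ hF).filter fun μ => μ * μ = -1)) (t := circ hF) (by
      refine (Finset.card_union_le _ _).trans_lt ?_
      rw [card_circ]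
      have h3 : ((circ hF).filter fun μ => μ * μ = -1).card ≤ 2 := by
        by_contra hlt
        obtain ⟨x₁, x₂, x₃, k₁, k₂, k₃, n12, n13, n23⟩ := Finset.two_lt_card_iff.1 (not_le.1 hlt)
        simp only [Finset.mem_filter] at k₁ k₂ k₃
        have f12 : x₁ + x₂ = 0 := (mul_eq_zero.1 (show (x₁ - x₂) * (x₁ + x₂) = 0 by
          linear_combination k₁.2 - k₂.2)).resolve_left (sub_ne_zero.2 n12)
        have f13 : x₁ + x₃ = 0 := (mul_eq_zero.1 (show (x₁ - x₃) * (x₁ + x₃) = 0 by
          linear_combination k₁.2 - k₃.2)).resolve_left (sub_ne_zero.2 n13)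
        exact n23 (by linear_combination f12 - f13)
      have h4 := Finset.card_le_two (a := (1 : F)) (b := -1)
      omega)
  simp only [Finset.mem_union, Finset.mem_insert, Finset.mem_singleton, Finset.mem_filter, not_or, not_and] at hμn
  have hwA : w * A ≠ 0 := mul_ne_zero (circ_ne_zero hF hw) hA
  have hnr := conj_ne_self hF hμ hμn.1.1 hμn.1.2
  refine ⟨μ * w, mul_mem_circ hF hμ hw, μ * w', mul_mem_circ hF hμ hw', ?_, ?_, Or.inl ?_⟩
  · rw [mul_assoc μ w', mul_assoc μ w, hopp, mul_neg, map_neg]; ring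
  · rw [mul_assoc, map_mul, hr]
    intro e
    have e' : μ + qConj hF μ = 0 :=
      (mul_eq_zero.1 (show (μ + qConj hF μ) * (w * A) = 0 by linear_combination e)).resolve_right hwA
    exact hμn.2 hμ (by linear_combination μ * e' - (mem_circ hF).1 hμ)
  · rw [mul_assoc, map_mul, hr]
    exact fun e => hnr (mul_right_cancel₀ hwA e)

include hF in
/-- among three norms two have a square product -/
theorem exists_square_pair (N : Fin 3 → F) (hN : ∀ i, qConj hF (N i) = N i) (hN0 : ∀ i, N i ≠ 0) :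
    ∃ i j, i ≠ j ∧ ∃ m, qConj hF m = m ∧ m * m = N i * N j := by
  classical
  by_contra hcon
  push Not at hcon
  obtain ⟨R, hR⟩ : ∃ R : Finset F, R = (Finset.univ.filter fun x : F => qConj hF x = x).erase 0 := ⟨_, rfl⟩
  have hRc : R.card + 1 = q := by
    rw [hR, Finset.card_erase_of_mem (by simp), fixed_card hF]
    have := two_le_q hF; omega
  obtain ⟨Sq, hSq⟩ : ∃ Sq : Finset F, Sq = R.image fun m => m * m := ⟨_, rfl⟩
  have hSqc : R.card ≤ 2 * Sq.card := by
    rw [hSq]
    refine Finset.card_le_mul_card_image (s := R) (f := fun m => m * m) 2 fun v _ => ?_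
    by_contra hlt
    obtain ⟨x₁, x₂, x₃, k₁, k₂, k₃, n12, n13, n23⟩ := Finset.two_lt_card_iff.1 (not_le.1 hlt)
    simp only [Finset.mem_filter] at k₁ k₂ k₃
    have f12 : x₁ + x₂ = 0 := (mul_eq_zero.1 (show (x₁ - x₂) * (x₁ + x₂) = 0 by
      linear_combination k₁.2 - k₂.2)).resolve_left (sub_ne_zero.2 n12)
    have f13 : x₁ + x₃ = 0 := (mul_eq_zero.1 (show (x₁ - x₃) * (x₁ + x₃) = 0 by
      linear_combination k₁.2 - k₃.2)).resolve_left (sub_ne_zero.2 n13)
    exact n23 (by linear_combination f12 - f13)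
  have hmemR : ∀ {x : F}, x ∈ R ↔ x ≠ 0 ∧ qConj hF x = x := fun {x} => by simp [hR]
  obtain ⟨C, hC⟩ : ∃ C : Fin 3 → Finset F, C = fun i => Sq.image fun x => N i * x := ⟨_, rfl⟩
  have hsub : ∀ i, C i ⊆ R := fun i x hx => by
    simp only [hC, hSq, Finset.mem_image] at hx
    obtain ⟨_, ⟨m, hm, rfl⟩, rfl⟩ := hx
    rw [hmemR] at hm ⊢
    exact ⟨mul_ne_zero (hN0 i) (mul_ne_zero hm.1 hm.1), by rw [map_mul, map_mul, hN, hm.2]⟩
  have hdis : Set.PairwiseDisjoint ↑(Finset.univ : Finset (Fin 3)) C := fun i _ j _ hij => by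
    simp only [Function.onFun, Finset.disjoint_left, hC, hSq, Finset.mem_image]
    rintro _ ⟨_, ⟨a, ha, rfl⟩, rfl⟩ ⟨_, ⟨b, hb, rfl⟩, he⟩
    rw [hmemR] at ha hb
    refine hcon i j hij (N j * b / a) (by rw [map_div₀, map_mul, hN, ha.2, hb.2]) ?_
    have := ha.1
    field_simp
    linear_combination (N j) * he
  have h1 := Finset.card_le_card (Finset.biUnion_subset.2 fun i _ => hsub i : Finset.univ.biUnion C ⊆ R)
  rw [Finset.card_biUnion hdis] at h1
  simp only [hC, Finset.card_image_of_injective _ (mul_right_injective₀ (hN0 _)), Finset.sum_const,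
    Finset.card_univ, Fintype.card_fin, smul_eq_mul] at h1
  have := two_le_q hF
  omega

include hF in
/-- the two-point quasi-reflection of a twisted pair of columns is not monomial -/
theorem no_twist (st : MSetting 4 q M)
    (hmono : ∀ x ∈ M, (∃ a o, (x : Matrix (Fin 4) (Fin 4) F) a o = 0) → IsMono x) {g : GL (Fin 4) F} (hg : g ∈ M)
    (hfull : ∀ a o, (g : Matrix (Fin 4) (Fin 4) F) a o ≠ 0) {p b i j : Fin 4} (hpb : p ≠ b) (hij : i ≠ j) {ν : F}
    (hν : ν ∈ circ hF) (hνr : qConj hF ν ≠ ν)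
    (hr : (g : Matrix (Fin 4) (Fin 4) F) i b * qConj hF ((g : Matrix (Fin 4) (Fin 4) F) j b) =
      ν * ((g : Matrix (Fin 4) (Fin 4) F) i p * qConj hF ((g : Matrix (Fin 4) (Fin 4) F) j p))) : False := by
  classical
  have hf := isUnitaryForm_hermForm hF 4
  obtain ⟨s, hs, hsr⟩ := exists_pair_diag hF st hpb hν
  have hy := hsr.conj hF st hg
  rw [single_column, single_column] at hy
  have hyM : g * s * g⁻¹ ∈ M := mul_mem (mul_mem hg hs) (inv_mem hg)
  obtain ⟨y, hye⟩ : ∃ y, y = g * s * g⁻¹ := ⟨_, rfl⟩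
  rw [← hye] at hy hyM
  have hνν := (mem_circ hF).1 hν
  have hij0 : (y : Matrix (Fin 4) (Fin 4) F) i j = 0 := by
    rw [hy.entry hF, if_neg hij]
    linear_combination (qConj hF ν - 1) * hr +
      ((g : Matrix (Fin 4) (Fin 4) F) i p * qConj hF ((g : Matrix (Fin 4) (Fin 4) F) j p)) * hνν
  have hr' := congrArg (qConj hF) hr
  simp only [map_mul, qConj_qConj] at hr'
  have hji0 : (y : Matrix (Fin 4) (Fin 4) F) j i ≠ 0 := by
    rw [hy.entry hF, if_neg hij.symm]
    intro e
    have e1 : (ν - 1 + (qConj hF ν - 1) * qConj hF ν) *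
        (qConj hF ((g : Matrix (Fin 4) (Fin 4) F) i p) * (g : Matrix (Fin 4) (Fin 4) F) j p) = 0 := by
      linear_combination e - (qConj hF ν - 1) * hr'
    have e2 := (mul_eq_zero.1 e1).resolve_right (mul_ne_zero ((map_ne_zero _).2 (hfull i p)) (hfull j p))
    have e3 : (ν - 1) * ((ν - 1) * (ν + 1)) = 0 := by
      linear_combination ν * ν * e2 + (ν - ν * qConj hF ν - 1) * hνν
    rcases mul_eq_zero.1 e3 with h | h
    · exact hνr (by rw [sub_eq_zero.1 h, map_one])
    rcases mul_eq_zero.1 h with h | h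
    · exact hνr (by rw [sub_eq_zero.1 h, map_one])
    · exact hνr (by rw [eq_neg_of_add_eq_zero_left h, map_neg, map_one])
  have hdiag : ∀ l, (y : Matrix (Fin 4) (Fin 4) F) l l ≠ 1 := by
    intro l
    rw [hy.entry hF, if_pos rfl]
    intro e
    obtain ⟨a, ha⟩ : ∃ a, a = qConj hF ((g : Matrix (Fin 4) (Fin 4) F) l p) *
        (g : Matrix (Fin 4) (Fin 4) F) l p := ⟨_, rfl⟩
    obtain ⟨c, hc⟩ : ∃ c, c = qConj hF ((g : Matrix (Fin 4) (Fin 4) F) l b) *
        (g : Matrix (Fin 4) (Fin 4) F) l b := ⟨_, rfl⟩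
    have ha0 : a ≠ 0 := ha ▸ mul_ne_zero ((map_ne_zero _).2 (hfull l p)) (hfull l p)
    rw [mul_assoc (ν - 1), mul_assoc (qConj hF ν - 1), ← ha, ← hc] at e
    have e1 : (ν - 1) * (a * ν - c) = 0 := by linear_combination ν * e - c * hνν
    rcases mul_eq_zero.1 e1 with h | h
    · exact hνr (by rw [sub_eq_zero.1 h, map_one])
    · refine hνr ?_
      rw [show ν = c / a by rw [eq_div_iff ha0]; linear_combination h, map_div₀, ha, hc]
      simp only [map_mul, qConj_qConj, mul_comm]
  have hym : IsMono y := hmono y hyM ⟨i, j, hij0⟩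
  have hiso := iso_of_mem hF st.le hyM
  -- column `i` is supported at `j`, and row `j` at `i`
  have hcol_i : ∀ m, m ≠ j → (y : Matrix (Fin 4) (Fin 4) F) m i = 0 := by
    obtain ⟨t, ht⟩ := hym.col i
    obtain rfl : t = j := by
      by_contra h
      exact hji0 (ht j (Ne.symm h))
    exact ht
  have hrow : ∀ {i j : Fin 4}, (y : Matrix (Fin 4) (Fin 4) F) j i ≠ 0 →
      (∀ m, m ≠ j → (y : Matrix (Fin 4) (Fin 4) F) m i = 0) → ∀ m, m ≠ i → (y : Matrix (Fin 4) (Fin 4) F) j m = 0 := by
    intro i j h0 hc m hm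
    have h := hiso (Pi.single m 1) (Pi.single i 1)
    rw [single_column, single_column, f_single_left hF, Pi.single_eq_of_ne hm, map_zero, mul_zero, f_apply hF,
      Finset.sum_eq_single j (fun r _ hr => by rw [hc r hr, map_zero, mul_zero]) (by simp)] at h
    exact (mul_eq_zero.1 h).resolve_right ((map_ne_zero _).2 h0)
  have hrow_j := hrow hji0 hcol_i
  obtain ⟨k, hk⟩ := hym.col j
  have hkj0 : (y : Matrix (Fin 4) (Fin 4) F) k j ≠ 0 := fun e => by
    have h := hiso (Pi.single j 1) (Pi.single j 1)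
    rw [single_column, f_single_left hF, Pi.single_eq_same, map_one, mul_one, f_apply hF,
      Finset.sum_eq_single k (fun r _ hr => by rw [hk r hr, zero_mul]) (by simp), e, zero_mul] at h
    exact zero_ne_one h
  have hki : k ≠ i := fun e => hkj0 (e ▸ hij0)
  have hkj : k ≠ j := fun e => hkj0 (by rw [e]; exact hrow_j j hij.symm)
  have hrow_k := hrow hkj0 hk
  -- a fixed vector vanishing at `i`
  let L : (Fin 4 → F) →ₗ[F] (Fin 3 → F) := LinearMap.pi
    ![LinearMap.proj i, hLin hf fun r => (g : Matrix (Fin 4) (Fin 4) F) r p,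
      hLin hf fun r => (g : Matrix (Fin 4) (Fin 4) F) r b]
  obtain ⟨z, hz, hz0⟩ := Submodule.exists_mem_ne_zero_of_ne_bot (p := LinearMap.ker L) fun e => by
    have := LinearMap.finrank_le_finrank_of_injective (LinearMap.ker_eq_bot.1 e)
    simp [Module.finrank_fin_fun] at this
  rw [LinearMap.mem_ker] at hz
  have hzi : z i = 0 := congrFun hz 0
  have hzv : Cfsg.hermForm 4 F q z (fun r => (g : Matrix (Fin 4) (Fin 4) F) r p) = 0 := congrFun hz 1
  have hzu : Cfsg.hermForm 4 F q z (fun r => (g : Matrix (Fin 4) (Fin 4) F) r b) = 0 := congrFun hz 2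
  have hfix : (y : Matrix (Fin 4) (Fin 4) F) *ᵥ z = z := by rw [hy, hzv, hzu]; simp
  have hzj : z j = 0 := by
    rw [← congrFun hfix j, mulVec, dotProduct,
      Finset.sum_eq_single i (fun m _ hm => by rw [hrow_j m hm, zero_mul]) (by simp), hzi, mul_zero]
  have hzk : z k = 0 := by
    rw [← congrFun hfix k, mulVec, dotProduct,
      Finset.sum_eq_single j (fun m _ hm => by rw [hrow_k m hm, zero_mul]) (by simp), hzj, mul_zero]
  refine hz0 (funext fun l => ?_)
  by_cases hl : l = i ∨ l = j ∨ l = k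
  · rcases hl with rfl | rfl | rfl <;> assumption
  simp only [not_or] at hl
  have huniv : ∀ i j k l : Fin 4, i ≠ j → k ≠ i → k ≠ j → l ≠ i → l ≠ j → l ≠ k →
      ∀ m, m ≠ l → m = i ∨ m = j ∨ m = k := by decide
  have h := congrFun hfix l
  rw [mulVec, dotProduct, Finset.sum_eq_single l (fun m _ hm => by
    rcases huniv i j k l hij hki hkj hl.1 hl.2.1 hl.2.2 m hm with rfl | rfl | rfl <;>
      simp [hzi, hzj, hzk]) (by simp)] at h
  exact (mul_eq_zero.1 (show ((y : Matrix (Fin 4) (Fin 4) F) l l - 1) * z l = 0 by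
    linear_combination h)).resolve_left (sub_ne_zero.2 (hdiag l))

include hF in
theorem exists_zero_four (st : MSetting 4 q M) (hq : 4 ≤ q) {g : GL (Fin 4) F} (hg : g ∈ M) (hgm : ¬ IsMono g) :
    ∃ y ∈ M, ¬ IsMono y ∧ ∃ a o, (y : Matrix (Fin 4) (Fin 4) F) a o = 0 := by
  classical
  by_contra hcon
  simp only [not_exists, not_and] at hcon
  have hfull : ∀ a o, (g : Matrix (Fin 4) (Fin 4) F) a o ≠ 0 := hcon g hg hgm
  have hmono : ∀ x ∈ M, (∃ a o, (x : Matrix (Fin 4) (Fin 4) F) a o = 0) → IsMono x := fun x hx ⟨a, o, h⟩ => by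
    by_contra hxm
    exact hcon x hx hxm a o h
  obtain ⟨p, hpe⟩ : ∃ p : Fin 4, p = 0 := ⟨_, rfl⟩
  obtain ⟨v, hv⟩ : ∃ v : Fin 4 → F, ∀ l, v l = (g : Matrix (Fin 4) (Fin 4) F) l p := ⟨_, fun _ => rfl⟩
  have hv0 : ∀ l, v l ≠ 0 := fun l => by rw [hv]; exact hfull l p
  obtain ⟨i', j', hij', m, hm, hm2⟩ := exists_square_pair hF (fun i => v i.castSucc * qConj hF (v i.castSucc))
    (fun i => norm_fixed hF _) fun i => mul_ne_zero (hv0 _) ((map_ne_zero _).2 (hv0 _))
  have hperm : ∀ i j : Fin 4, i ≠ j → ∃ k l : Fin 4, k ≠ l ∧ k ≠ i ∧ k ≠ j ∧ l ≠ i ∧ l ≠ j ∧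
      ∀ r, r = i ∨ r = j ∨ r = k ∨ r = l := by decide
  obtain ⟨i, hie⟩ : ∃ i : Fin 4, i = i'.castSucc := ⟨_, rfl⟩
  obtain ⟨j, hje⟩ : ∃ j : Fin 4, j = j'.castSucc := ⟨_, rfl⟩
  have hij : i ≠ j := hie ▸ hje ▸ fun e => hij' (Fin.castSucc_injective _ e)
  rw [← hie, ← hje] at hm2
  obtain ⟨k, l, hkl, hki, hkj, hli, hlj, hall⟩ := hperm i j hij
  obtain ⟨A, hA⟩ : ∃ A, A = qConj hF (v j) * v i := ⟨_, rfl⟩
  obtain ⟨B, hB⟩ : ∃ B, B = qConj hF (v l) * v k := ⟨_, rfl⟩
  have hA0 : A ≠ 0 := hA ▸ mul_ne_zero ((map_ne_zero _).2 (hv0 _)) (hv0 _)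
  have hB0 : B ≠ 0 := hB ▸ mul_ne_zero ((map_ne_zero _).2 (hv0 _)) (hv0 _)
  obtain ⟨w, hw, w', hw', hsum, ht0, hnr⟩ := exists_balanced hF hq hA0 hB0 ⟨m / A, by
    rw [mem_circ, map_div₀, hm, div_mul_div_comm, hm2, hA, map_mul, qConj_qConj]
    have := hv0 i; have := hv0 j
    have := (map_ne_zero (qConj hF)).2 (hv0 i); have := (map_ne_zero (qConj hF)).2 (hv0 j)
    field_simp, by rw [div_mul_cancel₀ _ hA0, hm]⟩
  -- the monomial element
  obtain ⟨π, hπ⟩ : ∃ π : Equiv.Perm (Fin 4), π = Equiv.swap i j * Equiv.swap k l := ⟨_, rfl⟩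
  have hπi : π i = j := by
    rw [hπ, Equiv.Perm.mul_apply, Equiv.swap_apply_of_ne_of_ne hki.symm hli.symm, Equiv.swap_apply_left]
  have hπj : π j = i := by
    rw [hπ, Equiv.Perm.mul_apply, Equiv.swap_apply_of_ne_of_ne hkj.symm hlj.symm, Equiv.swap_apply_right]
  have hπk : π k = l := by
    rw [hπ, Equiv.Perm.mul_apply, Equiv.swap_apply_left, Equiv.swap_apply_of_ne_of_ne hli hlj]
  have hπl : π l = k := by
    rw [hπ, Equiv.Perm.mul_apply, Equiv.swap_apply_right, Equiv.swap_apply_of_ne_of_ne hki hkj]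
  obtain ⟨d, hd⟩ : ∃ d : Fin 4 → F, d = fun r => if r = i then w else if r = j then qConj hF w else
      if r = k then w' else qConj hF w' := ⟨_, rfl⟩
  have di : d i = w := by simp [hd]
  have dj : d j = qConj hF w := by simp [hd, hij.symm]
  have dk : d k = w' := by simp [hd, hki, hkj]
  have dl : d l = qConj hF w' := by simp [hd, hli, hlj, hkl.symm]
  have huniv : (Finset.univ : Finset (Fin 4)) = {i, j, k, l} := (Finset.eq_univ_iff_forall.2 fun r => by
    simpa using hall r).symm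
  have hins : ∀ (f : Fin 4 → F), ∑ r, f r = f i + (f j + (f k + f l)) := fun f => by
    rw [huniv, Finset.sum_insert (by simp [hij, hki.symm, hli.symm]),
      Finset.sum_insert (by simp [hkj.symm, hlj.symm]), Finset.sum_pair hkl]
  have hins' : ∀ (f : Fin 4 → F), ∏ r, f r = f i * (f j * (f k * f l)) := fun f => by
    rw [huniv, Finset.prod_insert (by simp [hij, hki.symm, hli.symm]),
      Finset.prod_insert (by simp [hkj.symm, hlj.symm]), Finset.prod_pair hkl]
  have hdc : ∀ r, d r * qConj hF (d r) = 1 := fun r => by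
    rcases hall r with rfl | rfl | rfl | rfl
    · rw [di, (mem_circ hF).1 hw]
    · rw [dj, qConj_qConj, mul_comm, (mem_circ hF).1 hw]
    · rw [dk, (mem_circ hF).1 hw']
    · rw [dl, qConj_qConj, mul_comm, (mem_circ hF).1 hw']
  obtain ⟨h, hh, hhe, -⟩ := mon_mem hF st.mons π π (fun _ => rfl) d hdc (by
    rw [hins', di, dj, dk, dl, hπ, map_mul, Equiv.Perm.sign_swap hij, Equiv.Perm.sign_swap hkl,
      ← mul_assoc w, (mem_circ hF).1 hw, one_mul, (mem_circ hF).1 hw']
    simp)
  obtain ⟨x', hx'e⟩ : ∃ x', x' = g⁻¹ * h * g := ⟨_, rfl⟩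
  have hx' : x' ∈ M := hx'e ▸ mul_mem (mul_mem (inv_mem hg) hh) hg
  have hgx : g * x' = h * g := by rw [hx'e]; group
  have hrowh : ∀ r, ((h * g : GL (Fin 4) F) : Matrix (Fin 4) (Fin 4) F) (π r) p = d r * v r := fun r => by
    rw [Units.val_mul, hhe, hv]
    have := monMat_mulVec π d (fun r => (g : Matrix (Fin 4) (Fin 4) F) r p) r
    rw [← this]; rfl
  have hxaa : (x' : Matrix (Fin 4) (Fin 4) F) p p = 0 := by
    have e : x' = g⁻¹ * (h * g) := by rw [hx'e, mul_assoc]
    rw [e, Units.val_mul, Matrix.mul_apply, ← Equiv.sum_comp π, ← hsum, hins]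
    simp only [hrowh]
    simp only [inv_entry hF st hg, ← hv, hπi, hπj, hπk, hπl, di, dj, dk, dl, hA, hB, map_mul, qConj_qConj]
    ring
  obtain ⟨b, hb⟩ := (hmono x' hx' ⟨p, p, hxaa⟩).col p
  obtain ⟨e, he⟩ : ∃ e, e = (x' : Matrix (Fin 4) (Fin 4) F) b p := ⟨_, rfl⟩
  have hcol : ∀ r, (g : Matrix (Fin 4) (Fin 4) F) (π r) b * e = d r * v r := fun r => by
    rw [← hrowh, ← hgx, Units.val_mul, Matrix.mul_apply,
      Finset.sum_eq_single b (fun m _ hm => by rw [hb m hm, mul_zero]) (by simp), he]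
  have hbp : p ≠ b := by
    rintro rfl
    rw [hxaa] at he
    have h := hcol i
    rw [he, mul_zero, di] at h
    exact mul_ne_zero (circ_ne_zero hF hw) (hv0 i) h.symm
  have hec : e * qConj hF e = 1 := by
    have h := orth_rows hF st (inv_mem hx') p p
    simp only [inv_entry hF st hx', qConj_qConj, if_true] at h
    rw [Finset.sum_eq_single b (fun m _ hm => by rw [hb m hm]; simp) (by simp), ← he] at h
    linear_combination h
  -- one of the two pairs is twisted
  have hkey : ∀ {i j : Fin 4} {w : F}, i ≠ j → w ∈ circ hF → π i = j → π j = i → d i = w → d j = qConj hF w →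
      w * (qConj hF (v j) * v i) + qConj hF (w * (qConj hF (v j) * v i)) ≠ 0 →
      qConj hF (w * (qConj hF (v j) * v i)) ≠ w * (qConj hF (v j) * v i) → False := by
    intro i j w hij hw hi hj hdi hdj ht hn
    obtain ⟨X, hX⟩ : ∃ X, X = w * (qConj hF (v j) * v i) := ⟨_, rfl⟩
    rw [← hX] at ht hn
    have hX0 : X ≠ 0 := hX ▸ mul_ne_zero (circ_ne_zero hF hw) (mul_ne_zero ((map_ne_zero _).2 (hv0 _)) (hv0 _))
    have hXσ : qConj hF X ≠ 0 := (map_ne_zero _).2 hX0
    refine no_twist hF st hmono hg hfull hbp hij (ν := qConj hF X / X) (rat_mem_circ hF hX0) (fun E => ?_) ?_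
    · rw [map_div₀, qConj_qConj, div_eq_div_iff hXσ hX0] at E
      rcases mul_eq_zero.1 (show (X - qConj hF X) * (X + qConj hF X) = 0 by linear_combination E) with h | h
      · exact hn (by linear_combination -h)
      · exact ht h
    have h1 := hcol j
    rw [hj, hdj] at h1
    have h2 := congrArg (qConj hF) (hcol i)
    rw [hi, hdi] at h2
    simp only [map_mul] at h2
    have hw1 := (mem_circ hF).1 hw
    rw [← hv, ← hv, div_mul_eq_mul_div, eq_div_iff hX0, hX]
    simp only [map_mul, qConj_qConj]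
    linear_combination (w * (qConj hF (v j) * v i)) *
        ((qConj hF e * qConj hF ((g : Matrix (Fin 4) (Fin 4) F) j b)) * h1 + (qConj hF w * v j) * h2 -
          ((g : Matrix (Fin 4) (Fin 4) F) i b * qConj hF ((g : Matrix (Fin 4) (Fin 4) F) j b)) * hec) +
      (qConj hF w * v j * qConj hF (v i) * qConj hF (v j) * v i) * hw1
  rcases hnr with h | h
  · exact hkey hij hw hπi hπj di dj (hA ▸ ht0) (hA ▸ h)
  · refine hkey hkl hw' hπk hπl dk dl (fun E => ht0 ?_) (hB ▸ h)
    rw [hB] at hsum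
    linear_combination hsum - E

include hF in
theorem exists_kappa (hq : q ≠ 3) : ∃ κ ∈ circ hF, κ ^ 4 ≠ 1 := by
  by_contra hno
  simp only [not_exists, not_and, not_not] at hno
  have hd := exists_circ_gen hF hno
  have := Nat.le_of_dvd (by norm_num) hd
  have := two_le_q hF
  have : q = 2 := by omega
  subst this
  norm_num at hd

include hF in
theorem odd_supp (hq : q = 2) (v : Fin 4 → F) : Cfsg.hermForm 4 F q v v = ((supp v).card : F) := by
  rw [f_sum_supp hF, Finset.sum_congr rfl (fun i hi => two_norm hF hq (mem_supp.1 hi)), Finset.sum_const,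
    nsmul_eq_mul, mul_one]

include hF in
theorem two_eq_zero (hq : q = 2) : (2 : F) = 0 := by
  have : (-1 : F) = 1 := two_fixed hF hq (by simp) (by simp)
  linear_combination -this

include hF in
theorem supp_two (hq : q = 2) {v : Fin 4 → F} (hv : Cfsg.hermForm 4 F q v v = 1) :
    (supp v).card = 1 ∨ (supp v).card = 3 := by
  have h := odd_supp hF hq v
  rw [hv] at h
  have h4 : (supp v).card ≤ 4 := (Finset.card_le_univ _).trans_eq (Fintype.card_fin 4)
  have h2 := two_eq_zero hF hq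
  generalize (supp v).card = m at h h4
  interval_cases m
  · simp at h
  · exact Or.inl rfl
  · exact absurd (h.trans (by push_cast; linear_combination h2)) one_ne_zero
  · exact Or.inr rfl
  · exact absurd (h.trans (by push_cast; linear_combination 2 * h2)) one_ne_zero

include hF in
theorem no_nofix_four (st : MSetting 4 q M) (hq : q ≠ 3) {g₀ : GL (Fin 4) F} (hg₀ : g₀ ∈ M) (hgm₀ : ¬ IsMono g₀) :
    ¬ NoFix M := by
  classical
  intro hN
  obtain ⟨κ, hκ, hκn⟩ := exists_kappa hF hq
  by_cases hq2 : q = 2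
  · obtain ⟨l, hl⟩ : ∃ l, 2 ≤ (supp fun j => (g₀ : Matrix (Fin 4) (Fin 4) F) j l).card := by
      by_contra hcon
      simp only [not_exists, not_le] at hcon
      refine hgm₀ fun l => ?_
      rcases (supp fun j => (g₀ : Matrix (Fin 4) (Fin 4) F) j l).eq_empty_or_nonempty with he | ⟨b, hb⟩
      · refine ⟨l, fun i j hi _ => ?_⟩
        rw [id] at hi; subst hi
        by_contra hne
        exact Finset.notMem_empty j (he ▸ mem_supp.2 hne)
      · refine ⟨b, fun i j hi hj => ?_⟩
        rw [id] at hi hj; subst hi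
        by_contra hne
        exact hj (Finset.card_le_one.1 (by have := hcon i; omega) j (mem_supp.2 hne) b hb)
    have h3 := supp_two hF hq2 (v := fun j => (g₀ : Matrix (Fin 4) (Fin 4) F) j l) (by
      rw [← single_column, iso_of_mem hF st.le hg₀, f_single_left hF]; simp)
    obtain ⟨o, -, ho⟩ := Finset.exists_mem_notMem_of_card_lt_card
      (s := supp fun j => (g₀ : Matrix (Fin 4) (Fin 4) F) j l) (t := Finset.univ)
      (by rw [Finset.card_univ, Fintype.card_fin]; omega)
    rw [mem_supp, not_not] at ho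
    refine kappa_row hF st hN (inv_mem hg₀) hκ hκn (a := l) (o := o) (by rw [inv_entry hF st hg₀, ho, map_zero]) ?_
    rw [show (fun r => qConj hF (((g₀⁻¹ : GL (Fin 4) F) : Matrix (Fin 4) (Fin 4) F) l r)) =
      fun j => (g₀ : Matrix (Fin 4) (Fin 4) F) j l from funext fun r => by rw [inv_entry hF st hg₀, qConj_qConj]]
    omega
  have := two_le_q hF
  obtain ⟨g, hg, hgm, a, o, hao⟩ := exists_zero_four hF st (by omega) hg₀ hgm₀
  refine kappa_row hF st hN hg hκ hκn hao ?_
  by_contra h3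
  obtain ⟨o', ho', hne⟩ := Finset.exists_mem_ne (s := (supp fun l => qConj hF ((g : Matrix (Fin 4) (Fin 4) F) a l))ᶜ)
    (by rw [Finset.card_compl, Fintype.card_fin]; omega) o
  rw [Finset.mem_compl, mem_supp, not_not] at ho'
  exact no_two_zero hF st hN (by omega) hg hgm hne ((map_eq_zero _).1 ho') hao

include hF in
theorem exists_unit_three (st : MSetting 4 q M) (hq : q ≠ 3) {g : GL (Fin 4) F} (hg : g ∈ M) (hgm : ¬ IsMono g) :
    ∃ a, Unit' hF M a ∧ (supp a).card = 3 := by
  classical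
  obtain ⟨x, hx, o, ho, hxm⟩ : ∃ x ∈ M, ∃ o, (∀ j, j ≠ o → (x : Matrix (Fin 4) (Fin 4) F) j o = 0) ∧ ¬ IsMono x := by
    have h := no_nofix_four hF st hq hg hgm
    simp only [NoFix, not_forall] at h
    obtain ⟨x, hx, o, ho, hxm⟩ := h
    exact ⟨x, hx, o, ho, hxm⟩
  obtain ⟨l, hlo, hl2⟩ : ∃ l, l ≠ o ∧ 2 ≤ (supp ((x : Matrix (Fin 4) (Fin 4) F) *ᵥ Pi.single l 1)).card := by
    by_contra hcon
    simp only [not_exists, not_and, not_le] at hcon
    apply hxm
    intro l
    by_cases hlo : l = o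
    · exact ⟨o, fun i j hi hj => by rw [id] at hi hj; subst hi; rw [hlo]; exact ho j hj⟩
    · have hle := hcon l hlo
      rcases (supp ((x : Matrix (Fin 4) (Fin 4) F) *ᵥ Pi.single l 1)).eq_empty_or_nonempty with he | ⟨b, hb⟩
      · refine ⟨o, fun i j hi _ => ?_⟩
        rw [id] at hi; subst hi
        by_contra hne
        have : j ∈ supp ((x : Matrix (Fin 4) (Fin 4) F) *ᵥ Pi.single i 1) := mem_supp.2 (by rw [single_column]; exact hne)
        rw [he] at this
        exact Finset.notMem_empty j this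
      · refine ⟨b, fun i j hi hj => ?_⟩
        rw [id] at hi hj; subst hi
        by_contra hne
        exact hj (Finset.card_le_one.1 (by omega) j (mem_supp.2 (by rw [single_column]; exact hne)) b hb)
  have h0 := unit_of_fix hF st hx hlo ho
  have hle : ∀ {a : Fin 4 → F}, Unit' hF M a → (supp a).card ≤ 3 := by
    rintro a ⟨-, c, hc, -⟩
    have : supp a ⊆ Finset.univ.erase c := fun r hr => Finset.mem_erase.2 ⟨fun e => mem_supp.1 hr (e ▸ hc), Finset.mem_univ _⟩
    simpa using Finset.card_le_card this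
  rcases Nat.lt_or_ge (supp ((x : Matrix (Fin 4) (Fin 4) F) *ᵥ Pi.single l 1)).card 3 with h | h
  · obtain ⟨a, ha, hc⟩ := grow hF st h0 hl2 (by omega) (by omega)
    exact ⟨a, ha, by omega⟩
  · exact ⟨_, h0, le_antisymm (hle h0) h⟩

include hF in
/-- three norm-one coefficients, two different, bringing a sum to the circle -/
theorem exists_three_ne {A B C : F} (hA : A ≠ 0) (hB : B ≠ 0) (hC : C ≠ 0) :
    ∃ e₁ ∈ circ hF, ∃ e₂ ∈ circ hF, ∃ e₃ ∈ circ hF, e₁ * A + e₂ * B + e₃ * C ∈ circ hF ∧ e₁ ≠ e₂ := by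
  have hX := card_circSum hF hA hB
  have hY := card_circSum hF (one_ne_zero (α := F)) (neg_ne_zero.2 hC)
  have hD := (Finset.card_image_le (s := circ hF) (f := fun e => e * (A + B))).trans_eq (card_circ hF)
  have hu := Finset.card_le_univ (circSum hF A B ∪ circSum hF 1 (-C))
  have hui := Finset.card_union_add_card_inter (circSum hF A B) (circSum hF 1 (-C))
  rw [hF, pow_two] at hu
  obtain ⟨x, hx, hxD⟩ := Finset.exists_mem_notMem_of_card_lt_card (s := (circ hF).image fun e => e * (A + B))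
    (t := circSum hF A B ∩ circSum hF 1 (-C)) (by omega)
  obtain ⟨hx1, hx2⟩ := Finset.mem_inter.1 hx
  obtain ⟨e₁, he₁, e₂, he₂, rfl⟩ := exists_of_mem_circSum hF hx1
  obtain ⟨η, hη, e₃, he₃, hη'⟩ := exists_of_mem_circSum hF hx2
  refine ⟨e₁, he₁, e₂, he₂, e₃, he₃, ?_, fun e => hxD (Finset.mem_image.2 ⟨e₁, he₁, by rw [e]; ring⟩)⟩
  rw [show e₁ * A + e₂ * B + e₃ * C = η by linear_combination -hη']
  exact hη

include hF in
theorem exists_full_zero_three (st : MSetting 4 q M) {a : Fin 4 → F} (ha : Unit' hF M a) (h3 : (supp a).card = 3) :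
    ∃ z, UFull (qConj hF) (Cfsg.hermForm 4 F q) M z ∧ z ≠ 0 ∧ ∃ c, z c = 0 := by
  classical
  obtain ⟨-, c, hc, -⟩ := id ha
  obtain ⟨i, j, k, hij, hik, hjk, hS⟩ := Finset.card_eq_three.1 h3
  have hi : a i ≠ 0 := mem_supp.1 (by simp [hS])
  have hj : a j ≠ 0 := mem_supp.1 (by simp [hS])
  have hk : a k ≠ 0 := mem_supp.1 (by simp [hS])
  have hN : ∀ {x : F}, x ≠ 0 → x * qConj hF x ≠ 0 := fun hx => mul_ne_zero hx ((map_ne_zero _).2 hx)
  obtain ⟨e₁, he₁, e₂, he₂, e₃, he₃, hη, hne⟩ := exists_three_ne hF (hN hi) (hN hj) (hN hk)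
  obtain ⟨e, hee⟩ : ∃ e : Fin 4 → F, e = fun r => if r = i then e₁ else if r = j then e₂ else
      if r = k then e₃ else 1 := ⟨_, rfl⟩
  have he : ∀ r, e r ∈ circ hF := fun r => by
    rw [hee]; simp only
    split_ifs <;> first | assumption | exact one_mem_circ hF
  have v1 : e i = e₁ := by simp [hee]
  have v2 : e j = e₂ := by simp [hee, hij.symm]
  have v3 : e k = e₃ := by simp [hee, hik.symm, hjk.symm]
  have hsum : ∑ r, e r * (a r * qConj hF (a r)) =
      e₁ * (a i * qConj hF (a i)) + e₂ * (a j * qConj hF (a j)) + e₃ * (a k * qConj hF (a k)) := by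
    rw [← Finset.sum_subset (Finset.subset_univ (supp a)) (fun r _ hr => by
      rw [mem_supp, not_not] at hr; rw [hr, zero_mul, mul_zero]), hS,
      Finset.sum_insert (by simp [hij, hik]), Finset.sum_pair hjk, v1, v2, v3, add_assoc]
  refine ⟨_, exists_seed hF st ha e he (hsum ▸ hη), fun h => hne ?_, c, by simp [hc]⟩
  have h1 := congrFun h i
  have h2 := congrFun h j
  simp only [Pi.zero_apply, mul_eq_zero, hi, hj, false_or, sub_eq_zero, v1, v2] at h1 h2
  exact mul_right_cancel₀ (inv_ne_zero (circ_ne_zero hF (hsum ▸ hη))) (by rw [← div_eq_mul_inv, ← div_eq_mul_inv, h1, h2])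

/-! ### two elements -/

include hF in
theorem short_two_two (st : MSetting 4 q M) (hq : q = 2) : Short hF M 2 := by
  classical
  have hf := isUnitaryForm_hermForm hF 4
  intro x hxx hxs
  refine ⟨hxx, fun s hs => ?_⟩
  have hd : (s • hDual (Cfsg.hermForm 4 F q) x) ⬝ᵥ x = 0 := by rw [smul_dotProduct, hDual_dot hf, hxx, smul_zero]
  refine (hasTv_iff hd).2 (st.mons _ (uTv_mem_su hF hxx hs hd) ?_)
  rcases eq_or_ne s 0 with rfl | hs0
  · intro i
    refine ⟨i, fun r j hr hj => ?_⟩
    rw [id] at hr hj; subst hr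
    have := congrFun (uTv_mulVec hf x 0 (Pi.single r 1)) j
    rw [mulVec_single_one] at this
    rw [coe_tvGL]
    simpa [hj, Matrix.col_apply] using this
  have h2 := two_eq_zero hF hq
  have hs1 : s = 1 := two_fixed hF hq (by linear_combination hs - s * h2) hs0
  intro i
  by_cases hxi : x i = 0
  · refine ⟨i, fun r j hr hj => ?_⟩
    rw [id] at hr hj; subst hr
    have := congrFun (uTv_mulVec hf x s (Pi.single r 1)) j
    rw [mulVec_single_one, f_single_left hF, hxi, map_zero] at this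
    rw [coe_tvGL]
    simpa [hj, Matrix.col_apply] using this
  obtain ⟨i', hi'⟩ : ∃ i', ∀ r, r ≠ i → r ≠ i' → x r = 0 := by
    have hi : i ∈ supp x := mem_supp.2 hxi
    rcases (Finset.eq_empty_or_nonempty ((supp x).erase i)) with he | ⟨i', hi'⟩
    · exact ⟨i, fun r h1 _ => by
        by_contra h
        exact Finset.notMem_empty r (he ▸ Finset.mem_erase.2 ⟨h1, mem_supp.2 h⟩)⟩
    · refine ⟨i', fun r h1 h3 => ?_⟩
      by_contra h
      have := Finset.card_le_one.1 (show ((supp x).erase i).card ≤ 1 by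
        rw [Finset.card_erase_of_mem hi]; omega) r (Finset.mem_erase.2 ⟨h1, mem_supp.2 h⟩) i' hi'
      exact h3 this
  refine ⟨i', fun r j hr hj => ?_⟩
  rw [id] at hr hj; subst hr
  have := congrFun (uTv_mulVec hf x s (Pi.single r 1)) j
  rw [mulVec_single_one] at this
  rw [coe_tvGL]
  refine (show tvMat x (s • hDual (Cfsg.hermForm 4 F q) x) j r =
    ((tvMat x (s • hDual (Cfsg.hermForm 4 F q) x)).col r) j from rfl).trans (this.trans ?_)
  simp only [Pi.add_apply, Pi.smul_apply, smul_eq_mul, f_single_left hF, one_mul, hs1]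
  by_cases hjr : j = r
  · subst hjr
    rw [Pi.single_eq_same]
    linear_combination two_norm hF hq hxi + h2
  · rw [Pi.single_eq_of_ne hjr, hi' j hjr hj]; ring

include hF in
theorem short_all_two_four (st : MSetting 4 q M) (hq : q = 2) {a : Fin 4 → F} (ha : Unit' hF M a)
    (h3 : (supp a).card = 3) (x : Fin 4 → F) (hxx : Cfsg.hermForm 4 F q x x = 0) :
    UFull (qConj hF) (Cfsg.hermForm 4 F q) M x := by
  classical
  have hf := isUnitaryForm_hermForm hF 4
  have h2 := two_eq_zero hF hq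
  have heven : ∀ v : Fin 4 → F, Cfsg.hermForm 4 F q v v = 0 →
      (supp v).card = 0 ∨ (supp v).card = 2 ∨ (supp v).card = 4 := fun v hv => by
    have h := odd_supp hF hq v
    rw [hv] at h
    have h4 : (supp v).card ≤ 4 := (Finset.card_le_univ _).trans_eq (Fintype.card_fin 4)
    generalize (supp v).card = m at h h4
    interval_cases m
    · exact Or.inl rfl
    · exact absurd h (by rw [Nat.cast_one]; exact zero_ne_one)
    · exact Or.inr (Or.inl rfl)
    · exact absurd h fun h => one_ne_zero (α := F) (by push_cast at h; linear_combination -h - h2)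
    · exact Or.inr (Or.inr rfl)
  rcases heven x hxx with h | h | h
  · exact short_two_two hF st hq x hxx (by omega)
  · exact short_two_two hF st hq x hxx (by omega)
  obtain ⟨-, o, ho, -⟩ := id ha
  obtain ⟨i, hi⟩ := Finset.card_pos.1 (show 0 < (supp a).card by omega)
  have hai := mem_supp.1 hi
  have hio : i ≠ o := fun e => hai (e ▸ ho)
  obtain ⟨s, hse⟩ : ∃ s : Fin 4 → F, s = Pi.single i 1 + Pi.single o 1 := ⟨_, rfl⟩
  have hss : Cfsg.hermForm 4 F q s s = 0 := by
    rw [hse, hf.add_left, f_single_left hF, f_single_left hF]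
    simp [hio, hio.symm]
    linear_combination h2
  have hsfull := short_two_two hF st hq s hss (by
    refine (Finset.card_le_card (t := {i, o}) fun l hl => ?_).trans Finset.card_le_two
    by_contra h
    simp only [Finset.mem_insert, Finset.mem_singleton, not_or] at h
    exact mem_supp.1 hl (by simp [hse, h.1, h.2]))
  obtain ⟨μ, hμ, hμ1, -⟩ := exists_circ_ne hF
  obtain ⟨g, hg, hgr⟩ := unit_at hF st ha ho hμ
  obtain ⟨t, hte⟩ : ∃ t, t = (g : Matrix (Fin 4) (Fin 4) F) *ᵥ s := ⟨_, rfl⟩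
  have htfull : UFull (qConj hF) (Cfsg.hermForm 4 F q) M t := hte ▸ hsfull.conj hf hg (iso_of_mem hF st.le hg)
  have hfsa : Cfsg.hermForm 4 F q s a = qConj hF (a i) := by
    rw [hse, hf.add_left, f_single_left hF, f_single_left hF, ho]; simp
  have hto : t o = qConj hF μ := by
    rw [hte, hgr, hfsa, f_single_right hF, hse]
    simp [ho, hio.symm]
  have htr : ∀ r, r ≠ i → r ≠ o → t r = (μ - 1) * qConj hF (a i) * a r := fun r h1 h3 => by
    rw [hte, hgr, hfsa, hse]
    simp [h1, h3]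
  have h4 : (supp t).card = 4 := by
    have hge : 3 ≤ (supp t).card := by
      refine le_trans (le_of_eq ?_) (Finset.card_le_card (s := insert o ((supp a).erase i)) fun r hr => ?_)
      · rw [Finset.card_insert_of_notMem (by simp [ho, mem_supp]), Finset.card_erase_of_mem hi, h3]
      · rw [Finset.mem_insert, Finset.mem_erase] at hr
        rw [mem_supp]
        rcases hr with rfl | ⟨h1, h3'⟩
        · rw [hto]; exact (map_ne_zero _).2 (circ_ne_zero hF hμ)
        · rw [htr r h1 fun e => mem_supp.1 h3' (e ▸ ho)]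
          exact mul_ne_zero (mul_ne_zero (sub_ne_zero.2 hμ1) ((map_ne_zero _).2 hai)) (mem_supp.1 h3')
    rcases heven t htfull.1 with h | h | h <;> omega
  have hall : ∀ v : Fin 4 → F, (supp v).card = 4 → ∀ r, v r ≠ 0 := fun v hv r => by
    have := Finset.eq_univ_of_card (supp v) (by rw [hv, Fintype.card_fin])
    exact mem_supp.1 (this ▸ Finset.mem_univ r)
  have ht0 := hall t h4
  have hx0 := hall x h
  obtain ⟨P, hP⟩ : ∃ P, P = ∏ r, x r / t r := ⟨_, rfl⟩
  have hP0 : P ≠ 0 := hP ▸ Finset.prod_ne_zero_iff.2 fun r _ => div_ne_zero (hx0 r) (ht0 r)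
  have hP4 : P ^ 4 = P := by
    have h3' := FiniteField.pow_card_sub_one_eq_one P hP0
    rw [hF, hq] at h3'
    linear_combination P * h3'
  obtain ⟨h, hh, hhe, -⟩ := mon_mem hF st.mons 1 id (fun _ => rfl) (fun r => x r / (P • t) r) (fun r => by
    have : (P • t) r ≠ 0 := mul_ne_zero hP0 (ht0 r)
    exact two_norm hF hq (div_ne_zero (hx0 r) this)) (by
    rw [Finset.prod_congr rfl (fun r _ => show x r / (P • t) r = (x r / t r) / P by
      rw [Pi.smul_apply, smul_eq_mul, div_mul_eq_div_div_swap]), Finset.prod_div_distrib, ← hP, Finset.prod_const,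
      Finset.card_univ, Fintype.card_fin, hP4, div_self hP0]
    simp)
  have hmap : (h : Matrix (Fin 4) (Fin 4) F) *ᵥ (P • t) = x := by
    rw [hhe, diag_mulVec]
    funext r
    exact div_mul_cancel₀ _ (mul_ne_zero hP0 (ht0 r))
  exact hmap ▸ (htfull.smul hf P).conj hf hh (iso_of_mem hF st.le hh)

include hF in
theorem all_full_four (hq : q ≠ 3) (M : Subgroup (GL (Fin 4) F))
    (hle : M ≤ Cfsg.GU 4 F q ⊓ Cfsg.Geo.specialLinear (Fin 4) F) (hover : IsOver (id : Fin 4 → Fin 4) M q)
    (g : GL (Fin 4) F) (hg : g ∈ M) (hgm : ¬ IsMono g) (x : Fin 4 → F)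
    (hxx : Cfsg.hermForm 4 F q x x = 0) : UFull (qConj hF) (Cfsg.hermForm 4 F q) M x := by
  have st : MSetting 4 q M := ⟨le_rfl, Or.inl rfl, hle, hover⟩
  obtain ⟨a, ha, h3⟩ := exists_unit_three hF st hq hg hgm
  by_cases hq2 : q = 2
  · exact short_all_two_four hF st hq2 ha h3 x hxx
  obtain ⟨z, hz, hz0, c, hc⟩ := exists_full_zero_three hF st ha h3
  have h2 : Short hF M 2 := fun v hv hs => supp_le_two_full hF st hz hz0 hc hv hs
  have := two_le_q hF
  exact short_all hF st (by omega) (short_three hF st h2) _ x hxx le_rfl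

end CfsgLib.MaxSub.SuFour.Frame

namespace CfsgLib.MaxSub.SuFour

variable {F : Type*} [Field F] [Fintype F] {q : ℕ}

theorem frame_maximal (hF : Fintype.card F = q ^ 2) (hq : q ≠ 3) (D : Fin 4 → Submodule F (Fin 4 → F))
    (hD : Cfsg.Geo.IsNondegenerateMDecomposition (Cfsg.hermForm 4 F q) 1 D) :
    Cfsg.Geo.IsMaximalIn (Cfsg.GU 4 F q ⊓ Cfsg.Geo.specialLinear (Fin 4) F)
      (Cfsg.Geo.decompositionStabilizer D ⊓ (Cfsg.GU 4 F q ⊓ Cfsg.Geo.specialLinear (Fin 4) F)) := by
  classical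
  exact UFrame.isMaximalIn_decomposition_of hF le_rfl (fun h => absurd rfl h)
    (fun _ M' hle hover g hg hgm => Frame.all_full_four hF hq M' hle hover g hg hgm) (fun h => by omega) hD

end CfsgLib.MaxSub.SuFour
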