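import Cfsg.Agent.Lib.MaxSub.SuFour.Shear
import Cfsg.Agent.Lib.MaxSub.UFrame
import Cfsg.Agent.Lib.Classical.SemiUnitaryClasses

/-!
The stabiliser of two totally isotropic lines spanning the space is maximal in the four-dimensional special unitary group.
-/

set_option autoImplicit false
set_option linter.unusedSectionVars false

namespace CfsgLib.MaxSub.SuFour

open Matrix CfsgLib.MaxSub
open scoped MatrixGroups

variable {F : Type*} [Field F] [Fintype F] {q : ℕ}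

/-- members carrying two skew totally isotropic lines to themselves or to one another -/
structure TwoTI (q : ℕ) (A B : Submodule F (Fin 4 → F)) : Prop where
  sup : A ⊔ B = ⊤
  disj : Disjoint A B
  rankA : Module.finrank F A = 2
  rankB : Module.finrank F B = 2
  tiA : ∀ x ∈ A, ∀ y ∈ A, Cfsg.hermForm 4 F q x y = 0
  tiB : ∀ x ∈ B, ∀ y ∈ B, Cfsg.hermForm 4 F q x y = 0

theorem TwoTI.symm {A B : Submodule F (Fin 4 → F)} (h : TwoTI q A B) : TwoTI q B A :=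
  ⟨by rw [sup_comm]; exact h.sup, h.disj.symm, h.rankB, h.rankA, h.tiB, h.tiA⟩

variable {A B : Submodule F (Fin 4 → F)}

theorem TwoTI.dec (h : TwoTI q A B) (x : Fin 4 → F) : ∃ a ∈ A, ∃ b ∈ B, a + b = x :=
  Submodule.mem_sup.1 (by rw [h.sup]; trivial)

theorem TwoTI.uniq (h : TwoTI q A B) {a a' b b' : Fin 4 → F} (ha : a ∈ A) (ha' : a' ∈ A) (hb : b ∈ B) (hb' : b' ∈ B)
    (e : a + b = a' + b') : a = a' ∧ b = b' := by
  have h1 : a - a' = b' - b := by linear_combination (norm := module) e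
  have h0 := Submodule.disjoint_def.1 h.disj _ (sub_mem ha ha') (h1 ▸ sub_mem hb' hb)
  exact ⟨sub_eq_zero.1 h0, (sub_eq_zero.1 (h1.symm.trans h0)).symm⟩

theorem TwoTI.li (h : TwoTI q A B) {a b : Fin 4 → F} (ha : a ∈ A) (hb : b ∈ B) (ha0 : a ≠ 0) (hb0 : b ≠ 0) :
    LinearIndependent F ![a, b] := by
  rw [LinearIndependent.pair_iff]
  intro s t hst
  obtain ⟨h1, h2⟩ := h.uniq (A.smul_mem s ha) A.zero_mem (B.smul_mem t hb) B.zero_mem
    (by rw [hst, add_zero])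
  exact ⟨(smul_eq_zero.1 h1).resolve_right ha0, (smul_eq_zero.1 h2).resolve_right hb0⟩

/-- dual bases -/
theorem TwoTI.pairs (hF : Fintype.card F = q ^ 2) (h : TwoTI q A B) {a b : Fin 4 → F} (ha : a ∈ A) (hb : b ∈ B)
    (ha0 : a ≠ 0) (hb0 : b ≠ 0) (hab : Cfsg.hermForm 4 F q a b = 0) :
    ∃ a₁ ∈ A, ∃ b₁ ∈ B, Cfsg.hermForm 4 F q a₁ b₁ = 0 ∧ Cfsg.hermForm 4 F q b₁ a = 1 ∧
      Cfsg.hermForm 4 F q a₁ b = 1 ∧ ∀ x ∈ A, ∃ s t : F, x = s • a + t • a₁ := by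
  have hf := isUnitaryForm_hermForm hF 4
  have hnd : ∀ {U W : Submodule F (Fin 4 → F)}, TwoTI q U W → ∀ {u : Fin 4 → F}, u ∈ U → u ≠ 0 →
      ∃ w ∈ W, Cfsg.hermForm 4 F q w u = 1 := by
    intro U W hUW u hu hu0
    obtain ⟨⟨z, hz⟩, -⟩ := hf.nondegenerate u hu0
    obtain ⟨x, hx, y, hy, rfl⟩ := hUW.dec z
    rw [hf.add_left, hUW.tiA x hx u hu, zero_add] at hz
    exact ⟨_, W.smul_mem (Cfsg.hermForm 4 F q y u)⁻¹ hy, by rw [hf.smul_left, inv_mul_cancel₀ hz]⟩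
  obtain ⟨b₁', hb₁', h1⟩ := hnd h ha ha0
  obtain ⟨a₁, ha₁, h2⟩ := hnd h.symm hb hb0
  obtain ⟨b₁, hb₁e⟩ : ∃ b₁, b₁ = b₁' + (-qConj hF (Cfsg.hermForm 4 F q a₁ b₁')) • b := ⟨_, rfl⟩
  have h1' : Cfsg.hermForm 4 F q b₁ a = 1 := by
    rw [hb₁e, hf.add_left, hf.smul_left, herm_eq_zero_comm hf hab, h1, mul_zero, add_zero]
  refine ⟨a₁, ha₁, b₁, hb₁e ▸ add_mem hb₁' (B.smul_mem _ hb), ?_, h1', h2, fun x hx => ?_⟩
  · rw [hb₁e, herm_add_right hf, herm_smul_right hf, h2, map_neg, qConj_qConj]; ring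
  · have hli : LinearIndependent F ![a, a₁] := by
      rw [LinearIndependent.pair_iff]
      intro s t hst
      have ht : t = 0 := by
        simpa [hf.add_left, hf.smul_left, hab, h2, herm_zero_left hf] using
          congrArg (fun v => Cfsg.hermForm 4 F q v b) hst
      rw [ht, zero_smul, add_zero] at hst
      exact ⟨(smul_eq_zero.1 hst).resolve_right ha0, ht⟩
    have h3 := finrank_span_eq_card hli
    rw [show Set.range ![a, a₁] = {a, a₁} by simp [Set.pair_comm], Fintype.card_fin] at h3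
    have hle : Submodule.span F {a, a₁} ≤ A := by
      rw [Submodule.span_le]; rintro _ (rfl | rfl)
      · exact ha
      · exact ha₁
    rw [← Submodule.eq_of_le_of_finrank_le hle (by rw [h.rankA, h3]), Submodule.mem_span_pair] at hx
    obtain ⟨s, t, e⟩ := hx
    exact ⟨s, t, e.symm⟩

/-- a point of the other line orthogonal to a given one -/
theorem TwoTI.exists_perp (hF : Fintype.card F = q ^ 2) (h : TwoTI q A B) (a : Fin 4 → F) :
    ∃ b ∈ B, b ≠ 0 ∧ Cfsg.hermForm 4 F q a b = 0 := by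
  have hf := isUnitaryForm_hermForm hF 4
  have h1 := finrank_le_inf_ker B (hLin hf a)
  rw [h.rankB] at h1
  obtain ⟨b, hb, hb0⟩ := (B ⊓ LinearMap.ker (hLin hf a)).exists_mem_ne_zero_of_ne_bot (fun e => by
    rw [e, finrank_bot] at h1; omega)
  exact ⟨b, hb.1, hb0, herm_eq_zero_comm hf hb.2⟩

/-- the Weyl element of a hyperbolic pair -/
theorem exists_weyl (hF : Fintype.card F = q ^ 2) {ζ : F} (hζ0 : ζ ≠ 0) (hζ : qConj hF ζ = -ζ)
    {a b : Fin 4 → F} (haa : Cfsg.hermForm 4 F q a a = 0) (hbb : Cfsg.hermForm 4 F q b b = 0)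
    (hba : Cfsg.hermForm 4 F q b a = 1) :
    ∃ w ∈ Cfsg.GU 4 F q ⊓ Cfsg.Geo.specialLinear (Fin 4) F,
      (w : Matrix (Fin 4) (Fin 4) F) *ᵥ a = (-ζ⁻¹) • b ∧ (w : Matrix (Fin 4) (Fin 4) F) *ᵥ b = ζ • a ∧
      ∀ x, Cfsg.hermForm 4 F q x a = 0 → Cfsg.hermForm 4 F q x b = 0 →
        (w : Matrix (Fin 4) (Fin 4) F) *ᵥ x = x := by
  have hf := isUnitaryForm_hermForm hF 4
  have hab : Cfsg.hermForm 4 F q a b = 1 := by rw [hf.herm a b, hba, map_one]
  have hd : ∀ v, Cfsg.hermForm 4 F q v v = 0 → ∀ c : F, (c • hDual (Cfsg.hermForm 4 F q) v) ⬝ᵥ v = 0 :=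
    fun v hv c => by rw [smul_dotProduct, hDual_dot hf, hv, smul_zero]
  have hc : ζ + qConj hF ζ = 0 := by rw [hζ, add_neg_cancel]
  have hc' : -ζ⁻¹ + qConj hF (-ζ⁻¹) = 0 := by rw [map_neg, map_inv₀, hζ]; field_simp; ring
  refine ⟨_, Subgroup.mul_mem _ (Subgroup.mul_mem _ (uTv_mem_su hF haa hc (hd a haa ζ))
    (uTv_mem_su hF hbb hc' (hd b hbb _))) (uTv_mem_su hF haa hc (hd a haa ζ)), ?_, ?_, fun x h1 h2 => ?_⟩
  · rw [Units.val_mul, Units.val_mul, ← mulVec_mulVec, ← mulVec_mulVec, coe_tvGL, coe_tvGL]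
    simp only [uTv_mulVec hf, hf.add_left, hf.smul_left, haa, hbb, hab, hba, mul_zero, zero_smul, add_zero, zero_add, mul_one]
    match_scalars <;> field_simp <;> ring
  · rw [Units.val_mul, Units.val_mul, ← mulVec_mulVec, ← mulVec_mulVec, coe_tvGL, coe_tvGL]
    simp only [uTv_mulVec hf, hf.add_left, hf.smul_left, haa, hbb, hab, hba, mul_zero, zero_smul, add_zero, zero_add, mul_one]
    match_scalars <;> field_simp <;> ring
  · rw [Units.val_mul, Units.val_mul, ← mulVec_mulVec, ← mulVec_mulVec, coe_tvGL, coe_tvGL]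
    simp only [uTv_mulVec hf, h1, h2, mul_zero, zero_smul, add_zero]

/-- an image of one line among the two -/
theorem image_eq (hF : Fintype.card F = q ^ 2) (h : TwoTI q A B) {T : Submodule F (Fin 4 → F)}
    (hT : Module.finrank F T = 2) (hti : ∀ x ∈ T, ∀ y ∈ T, Cfsg.hermForm 4 F q x y = 0)
    (hcomp : ∀ x ∈ T, ∀ a ∈ A, ∀ b ∈ B, x = a + b → Cfsg.hermForm 4 F q a b = 0)
    (hno : ∀ a ∈ A, ∀ b ∈ B, a ∈ T → b ∈ T → a ≠ 0 → b ≠ 0 → False) : T = A ∨ T = B := by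
  have hf := isUnitaryForm_hermForm hF 4
  obtain ⟨τ, hτ⟩ := UFrame.exists_nonreal hF
  have hX : ∀ x ∈ T, ∀ a ∈ A, ∀ b ∈ B, x = a + b → ∀ x' ∈ T, ∀ a' ∈ A, ∀ b' ∈ B, x' = a' + b' →
      Cfsg.hermForm 4 F q a b' = 0 := by
    intro x hx a ha b hb e x' hx' a' ha' b' hb' e'
    have h0 := hcomp x hx a ha b hb e
    have h0' := hcomp x' hx' a' ha' b' hb' e'
    have h1 := hcomp _ (add_mem hx hx') _ (add_mem ha ha') _ (add_mem hb hb') (by rw [e, e']; abel)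
    have h2 := hcomp _ (add_mem (T.smul_mem τ hx) hx') _ (add_mem (A.smul_mem τ ha) ha') _
      (add_mem (B.smul_mem τ hb) hb') (by rw [e, e']; module)
    simp only [hf.add_left, hf.smul_left, herm_add_right hf, herm_smul_right hf, h0, h0', mul_zero, add_zero,
      zero_add] at h1 h2
    have : (τ - qConj hF τ) * Cfsg.hermForm 4 F q a b' = 0 := by linear_combination h2 - qConj hF τ * h1
    exact (mul_eq_zero.1 this).resolve_left (sub_ne_zero.2 (Ne.symm hτ))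
  have key : ∀ {U W : Submodule F (Fin 4 → F)}, TwoTI q U W →
      (∀ x ∈ T, ∀ a ∈ U, ∀ b ∈ W, x = a + b → ∀ x' ∈ T, ∀ a' ∈ U, ∀ b' ∈ W, x' = a' + b' →
        Cfsg.hermForm 4 F q a b' = 0) → Disjoint T W → T = U := by
    intro U W hUW hX' hTW
    refine Submodule.eq_of_le_of_finrank_eq (fun x' hx' => ?_) (by rw [hT, hUW.rankA])
    obtain ⟨a', ha', b', hb', e'⟩ := hUW.dec x'
    suffices b' = 0 by rw [← e', this, add_zero]; exact ha'
    by_contra hb0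
    obtain ⟨⟨z, hz⟩, -⟩ := hf.nondegenerate b' hb0
    have htop : T ⊔ W = ⊤ := by
      refine Submodule.eq_top_of_finrank_eq ?_
      have h1 := Submodule.finrank_sup_add_finrank_inf_eq T W
      rw [hTW.eq_bot, finrank_bot, hT, hUW.rankB] at h1
      rw [Module.finrank_fin_fun]; omega
    obtain ⟨t, ht, w, hw, rfl⟩ := Submodule.mem_sup.1 (show z ∈ T ⊔ W by rw [htop]; trivial)
    obtain ⟨a, ha, b, hb, e⟩ := hUW.dec t
    apply hz
    rw [← e, hf.add_left, hf.add_left, hX' t ht a ha b hb e.symm x' hx' a' ha' b' hb' e'.symm, hUW.tiB b hb b' hb',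
      hUW.tiB w hw b' hb']
    ring
  by_cases hB : Disjoint T B
  · exact Or.inl (key h hX hB)
  by_cases hA : Disjoint T A
  · refine Or.inr (key h.symm (fun x hx a ha b hb e x' hx' a' ha' b' hb' e' => ?_) hA)
    exact herm_eq_zero_comm hf (hX x' hx' b' hb' a' ha' (by rw [e', add_comm]) x hx b hb a ha (by rw [e, add_comm]))
  exfalso
  simp only [Submodule.disjoint_def, not_forall] at hA hB
  obtain ⟨a, haT, haA, ha0⟩ := hA
  obtain ⟨b, hbT, hbB, hb0⟩ := hB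
  exact hno a haA b hbB haT hbT ha0 hb0

theorem halves_maximal (hF : Fintype.card F = q ^ 2) (hq : 4 ≤ q) (D : Fin 2 → Submodule F (Fin 4 → F))
    (hD : Cfsg.Geo.IsMDecomposition 2 D)
    (hti : ∀ i, Cfsg.Geo.IsTotallySingularFor (Cfsg.hermForm 4 F q) (D i)) :
    Cfsg.Geo.IsMaximalIn (Cfsg.GU 4 F q ⊓ Cfsg.Geo.specialLinear (Fin 4) F)
      (Cfsg.Geo.decompositionStabilizer D ⊓ (Cfsg.GU 4 F q ⊓ Cfsg.Geo.specialLinear (Fin 4) F)) := by
  classical
  have hf := isUnitaryForm_hermForm hF 4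
  have h01 : TwoTI q (D 0) (D 1) := by
    refine ⟨?_, hD.indep.pairwiseDisjoint zero_ne_one, hD.finrank_eq 0, hD.finrank_eq 1, hti 0, hti 1⟩
    rw [eq_top_iff, ← hD.iSup_eq_top, iSup_le_iff]
    intro i
    fin_cases i
    · exact le_sup_left
    · exact le_sup_right
  have hinj : ∀ g : GL (Fin 4) F,
      Function.Injective (Matrix.toLin' (g : Matrix (Fin 4) (Fin 4) F)) := fun g x y e => by
    have := congrArg (((g⁻¹ : GL (Fin 4) F) : Matrix (Fin 4) (Fin 4) F) *ᵥ ·) e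
    simpa [inv_mulVec_mulVec] using this
  have hmem : ∀ g : GL (Fin 4) F, ∀ π : Equiv.Perm (Fin 2),
      (∀ i, ∀ x ∈ D i, (g : Matrix (Fin 4) (Fin 4) F) *ᵥ x ∈ D (π i)) →
      g ∈ Cfsg.Geo.decompositionStabilizer D := by
    intro g π h
    refine ⟨π, fun i => ?_⟩
    refine Submodule.eq_of_le_of_finrank_eq (by rintro _ ⟨x, hx, rfl⟩; exact h i x hx) ?_
    rw [← (Submodule.equivMapOfInjective _ (hinj g) (D i)).finrank_eq, hD.finrank_eq, hD.finrank_eq]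
  obtain ⟨ζ, hζ0, hζ'⟩ := exists_trace_zero hf
  have hζ : qConj hF ζ = -ζ := by linear_combination hζ'
  have hd : ∀ z, (Cfsg.hermForm 4 F q) z z = 0 → ∀ c : F, (c • hDual (Cfsg.hermForm 4 F q) z) ⬝ᵥ z = 0 := fun z hz c => by
    rw [smul_dotProduct, hDual_dot hf, hz, smul_zero]
  obtain ⟨a₀, ha₀, ha₀0⟩ := (D 0).exists_mem_ne_zero_of_ne_bot (fun e => by
    have := h01.rankA; rw [e, finrank_bot] at this; omega)
  obtain ⟨b₀, hb₀, hb₀0, hab₀⟩ := h01.exists_perp hF a₀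
  obtain ⟨a₁, ha₁, b₁, hb₁, ha₁b₁, hb₁a₀, ha₁b₀, hspan₀⟩ := h01.pairs hF ha₀ hb₀ ha₀0 hb₀0 hab₀
  refine isMaximalIn_of_lt (lt_of_le_of_ne inf_le_right fun he => ?_) fun M hM hMS g hg hgH => ?_
  · have hmem := uTv_mem_su hF (h01.tiA a₀ ha₀ a₀ ha₀) hζ' (hd _ (h01.tiA a₀ ha₀ a₀ ha₀) ζ)
    rw [← he] at hmem
    obtain ⟨π, hπ⟩ := hmem.1
    have hA' : tvMat a₀ (ζ • hDual (Cfsg.hermForm 4 F q) a₀) *ᵥ a₀ ∈ D (π 0) := by rw [← hπ 0]; exact ⟨a₀, ha₀, rfl⟩
    have hB' : tvMat a₀ (ζ • hDual (Cfsg.hermForm 4 F q) a₀) *ᵥ b₁ ∈ D (π 1) := by rw [← hπ 1]; exact ⟨b₁, hb₁, rfl⟩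
    rw [uTv_mulVec hf, h01.tiA a₀ ha₀ a₀ ha₀, mul_zero, zero_smul, add_zero] at hA'
    rw [uTv_mulVec hf, hb₁a₀, mul_one] at hB'
    rcases Fin.exists_fin_two.1 ⟨π 0, rfl⟩ with h | h
    · have h1 : π 1 = 1 := by
        rcases Fin.exists_fin_two.1 ⟨π 1, rfl⟩ with k | k
        · exact absurd (π.injective (k.trans h.symm)) one_ne_zero
        · exact k
      rw [h1, Submodule.add_mem_iff_right _ hb₁, Submodule.smul_mem_iff _ hζ0] at hB'
      exact ha₀0 (Submodule.disjoint_def.1 h01.disj a₀ ha₀ hB')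
    · rw [h] at hA'
      exact ha₀0 (Submodule.disjoint_def.1 h01.disj a₀ ha₀ hA')
  have hiso : ∀ h ∈ M, ∀ x y, (Cfsg.hermForm 4 F q) ((h : Matrix (Fin 4) (Fin 4) F) *ᵥ x)
      ((h : Matrix (Fin 4) (Fin 4) F) *ᵥ y) = (Cfsg.hermForm 4 F q) x y := fun h hh x y => (hMS hh).1 x y
  have hSh : ∀ a ∈ D 0, ∀ b ∈ D 1, (Cfsg.hermForm 4 F q) a b = 0 → Shear hF ζ M a b := by
    intro a ha b hb hab lam
    have haa := h01.tiA a ha a ha
    have hbb := h01.tiB b hb b hb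
    have hla : (Cfsg.hermForm 4 F q) (lam • a) (lam • a) = 0 := by rw [hf.smul_left, herm_smul_right hf, haa, mul_zero, mul_zero]
    have hlab : (Cfsg.hermForm 4 F q) (lam • a + b) (lam • a + b) = 0 := by
      simp only [hf.add_left, hf.smul_left, herm_add_right hf, herm_smul_right hf, haa, hbb, hab,
        herm_eq_zero_comm hf hab, mul_zero, add_zero]
    have hcn : -ζ + qConj hF (-ζ) = 0 := by rw [map_neg, hζ]; ring
    have hu := Subgroup.mul_mem _ (Subgroup.mul_mem _ (uTv_mem_su hF hlab hζ' (hd _ hlab ζ))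
      (uTv_mem_su hF hla hcn (hd _ hla _))) (uTv_mem_su hF hbb hcn (hd _ hbb _))
    obtain ⟨u, hue⟩ : ∃ u, u = tvGL (lam • a + b) (ζ • hDual (Cfsg.hermForm 4 F q) (lam • a + b)) (hd _ hlab ζ) *
        tvGL (lam • a) ((-ζ) • hDual (Cfsg.hermForm 4 F q) (lam • a)) (hd _ hla _) * tvGL b ((-ζ) • hDual (Cfsg.hermForm 4 F q) b) (hd _ hbb _) := ⟨_, rfl⟩
    have hux : ∀ x, (u : Matrix (Fin 4) (Fin 4) F) *ᵥ x =
        x + (ζ * lam * (Cfsg.hermForm 4 F q) x b) • a + (ζ * qConj hF lam * (Cfsg.hermForm 4 F q) x a) • b := fun x => by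
      rw [hue, Units.val_mul, Units.val_mul, ← mulVec_mulVec, ← mulVec_mulVec, coe_tvGL, coe_tvGL, coe_tvGL,
        uTv_mulVec hf, uTv_mulVec hf, uTv_mulVec hf]
      simp only [hf.add_left, hf.smul_left, herm_add_right hf, herm_smul_right hf, haa, hbb, hab,
        herm_eq_zero_comm hf hab, mul_zero, add_zero]
      module
    refine ⟨u, hM ⟨hmem u 1 fun i x hx => ?_, hue ▸ hu⟩, hux⟩
    rw [hux, Equiv.Perm.one_apply]
    fin_cases i
    · rw [h01.tiA x hx a ha, mul_zero, zero_smul, add_zero]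
      exact add_mem hx ((D 0).smul_mem _ ha)
    · rw [h01.tiB x hx b hb, mul_zero, zero_smul, add_zero]
      exact add_mem hx ((D 1).smul_mem _ hb)
  -- one full vector gives a full line
  have htrans : ∀ {U W : Submodule F (Fin 4 → F)}, TwoTI q U W →
      (∀ a ∈ U, ∀ b ∈ W, (Cfsg.hermForm 4 F q) a b = 0 → Shear hF ζ M a b) →
      ∀ c ∈ U, c ≠ 0 → UFull (qConj hF) (Cfsg.hermForm 4 F q) M c → ∀ x ∈ U, UFull (qConj hF) (Cfsg.hermForm 4 F q) M x := by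
    intro U W hUW hS c hc hc0 hfull x hx
    obtain ⟨a, hae⟩ : ∃ a, a = x - c := ⟨_, rfl⟩
    have ha : a ∈ U := hae ▸ sub_mem hx hc
    by_cases hcol : ∃ k : F, k • c = a
    · obtain ⟨k, hk⟩ := hcol
      have := hfull.smul hf (k + 1)
      rwa [add_smul, one_smul, hk, hae, sub_add_cancel] at this
    obtain ⟨b, hb, hb0, hab⟩ := hUW.exists_perp hF a
    have ha0 : a ≠ 0 := fun e => hcol ⟨0, by rw [zero_smul, e]⟩
    obtain ⟨a₁, ha₁, b₁, hb₁, -, -, ha₁b, hsp⟩ := hUW.pairs hF ha hb ha0 hb0 hab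
    have hcb : (Cfsg.hermForm 4 F q) c b ≠ 0 := fun e => by
      obtain ⟨s, t, hst⟩ := hsp c hc
      rw [hst, hf.add_left, hf.smul_left, hf.smul_left, hab, ha₁b, mul_zero, zero_add, mul_one] at e
      rw [e, zero_smul, add_zero] at hst
      refine hcol ⟨s⁻¹, ?_⟩
      rw [hst, inv_smul_smul₀ (fun z => hc0 (by rw [hst, z, zero_smul]))]
    obtain ⟨u, hu, hux⟩ := hS a ha b hb hab (ζ * (Cfsg.hermForm 4 F q) c b)⁻¹
    have := hfull.conj hf hu (hiso u hu)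
    rwa [hux, hUW.tiA c hc a ha, mul_zero, zero_smul, add_zero,
      show ζ * (ζ * (Cfsg.hermForm 4 F q) c b)⁻¹ * (Cfsg.hermForm 4 F q) c b = 1 by field_simp, one_smul, hae, add_sub_cancel] at this
  -- the swap
  obtain ⟨w₁, hw₁, hw₁a, hw₁b, hw₁f⟩ :=
    exists_weyl hF hζ0 hζ (h01.tiA a₀ ha₀ a₀ ha₀) (h01.tiB b₁ hb₁ b₁ hb₁) hb₁a₀
  have hb₀a₁ : (Cfsg.hermForm 4 F q) b₀ a₁ = 1 := by rw [hf.herm, ha₁b₀, map_one]
  obtain ⟨w₂, hw₂, hw₂a, hw₂b, hw₂f⟩ :=
    exists_weyl hF hζ0 hζ (h01.tiA a₁ ha₁ a₁ ha₁) (h01.tiB b₀ hb₀ b₀ hb₀) hb₀a₁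
  have hS10 : ∀ a ∈ D 1, ∀ b ∈ D 0, (Cfsg.hermForm 4 F q) a b = 0 → Shear hF ζ M a b := fun a ha b hb hab =>
    (hSh b hb a ha (herm_eq_zero_comm hf hab)).symm hF
  obtain ⟨-, -, -, -, -, -, -, hspan₁⟩ : ∃ a₁' ∈ D 1, ∃ b₁' ∈ D 0, (Cfsg.hermForm 4 F q) a₁' b₁' = 0 ∧ (Cfsg.hermForm 4 F q) b₁' b₀ = 1 ∧
      (Cfsg.hermForm 4 F q) a₁' a₀ = 1 ∧ ∀ x ∈ D 1, ∃ s t : F, x = s • b₀ + t • a₁' :=
    h01.symm.pairs hF hb₀ ha₀ hb₀0 ha₀0 (herm_eq_zero_comm hf hab₀)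
  have hswapA : ∀ x ∈ D 0, ((w₁ * w₂ : GL (Fin 4) F) : Matrix (Fin 4) (Fin 4) F) *ᵥ x ∈ D 1 := by
    intro x hx
    obtain ⟨s, t, rfl⟩ := hspan₀ x hx
    rw [Units.val_mul, ← mulVec_mulVec, mulVec_add, mulVec_smul, mulVec_smul, hw₂a,
      hw₂f a₀ (h01.tiA a₀ ha₀ a₁ ha₁) hab₀, mulVec_add, mulVec_smul, mulVec_smul, mulVec_smul, hw₁a,
      hw₁f b₀ (herm_eq_zero_comm hf hab₀) (h01.tiB b₀ hb₀ b₁ hb₁)]
    exact add_mem ((D 1).smul_mem _ ((D 1).smul_mem _ hb₁)) ((D 1).smul_mem _ ((D 1).smul_mem _ hb₀))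
  have hswapB : ∀ x ∈ D 1, ((w₁ * w₂ : GL (Fin 4) F) : Matrix (Fin 4) (Fin 4) F) *ᵥ x ∈ D 0 := by
    have hb₁0 : b₁ ≠ 0 := fun e => by rw [e, herm_zero_left hf] at hb₁a₀; exact zero_ne_one hb₁a₀
    have hz : (w₁ * w₂ : GL (Fin 4) F).val *ᵥ b₀ = ζ • a₁ ∧ (w₁ * w₂ : GL (Fin 4) F).val *ᵥ b₁ = ζ • a₀ := by
      constructor
      · rw [Units.val_mul, ← mulVec_mulVec, hw₂b, mulVec_smul, hw₁f a₁ (h01.tiA a₁ ha₁ a₀ ha₀) ha₁b₁]
      · rw [Units.val_mul, ← mulVec_mulVec, hw₂f b₁ (herm_eq_zero_comm hf ha₁b₁) (h01.tiB b₁ hb₁ b₀ hb₀), hw₁b]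
    intro x hx
    have hli : LinearIndependent F ![b₀, b₁] := by
      rw [LinearIndependent.pair_iff]
      intro s t hst
      have ht : t = 0 := by
        simpa [hf.add_left, hf.smul_left, herm_eq_zero_comm hf hab₀, hb₁a₀, herm_zero_left hf] using
          congrArg (fun v => (Cfsg.hermForm 4 F q) v a₀) hst
      rw [ht, zero_smul, add_zero] at hst
      exact ⟨(smul_eq_zero.1 hst).resolve_right hb₀0, ht⟩
    have h3 := finrank_span_eq_card hli
    rw [show Set.range ![b₀, b₁] = {b₀, b₁} by simp [Set.pair_comm], Fintype.card_fin] at h3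
    have hle : Submodule.span F {b₀, b₁} ≤ D 1 := by
      rw [Submodule.span_le]; rintro _ (rfl | rfl)
      · exact hb₀
      · exact hb₁
    rw [← Submodule.eq_of_le_of_finrank_le hle (by rw [h01.rankB, h3]), Submodule.mem_span_pair] at hx
    obtain ⟨s, t, rfl⟩ := hx
    rw [mulVec_add, mulVec_smul, mulVec_smul, hz.1, hz.2]
    exact add_mem ((D 0).smul_mem _ ((D 0).smul_mem _ ha₁)) ((D 0).smul_mem _ ((D 0).smul_mem _ ha₀))
  have hswapM : w₁ * w₂ ∈ M := hM ⟨hmem _ (Equiv.swap 0 1) (fun i x hx => by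
    fin_cases i
    · exact hswapA x hx
    · exact hswapB x hx), Subgroup.mul_mem _ hw₁ hw₂⟩
  have hfinish : (∃ a ∈ D 0, a ≠ 0 ∧ UFull (qConj hF) (Cfsg.hermForm 4 F q) M a) ∨ (∃ b ∈ D 1, b ≠ 0 ∧ UFull (qConj hF) (Cfsg.hermForm 4 F q) M b) →
      Cfsg.GU 4 F q ⊓ Cfsg.Geo.specialLinear (Fin 4) F ≤ M := by
    intro h
    have hA : ∀ x ∈ D 0, UFull (qConj hF) (Cfsg.hermForm 4 F q) M x := by
      rcases h with ⟨a, ha, ha0, hfull⟩ | ⟨b, hb, hb0, hfull⟩
      · exact htrans h01 hSh a ha ha0 hfull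
      · exact htrans h01 hSh _ (hswapB b hb) (fun e => hb0 (hinj _ (e.trans (map_zero _).symm)))
          (hfull.conj hf hswapM (hiso _ hswapM))
    have hB : ∀ x ∈ D 1, UFull (qConj hF) (Cfsg.hermForm 4 F q) M x := htrans h01.symm hS10 _ (hswapA a₀ ha₀)
      (fun e => ha₀0 (hinj _ (e.trans (map_zero _).symm))) ((hA a₀ ha₀).conj hf hswapM (hiso _ hswapM))
    exact su_le_of_halves hF le_rfl hA hB h01.sup h01.tiA h01.tiB
  obtain ⟨k, hk, hk0, hk1, hk1'⟩ : ∃ k : F, qConj hF k = k ∧ k ≠ 0 ∧ k ≠ 1 ∧ k ≠ -1 := by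
    obtain ⟨k, hk, hk3⟩ := Finset.exists_mem_notMem_of_card_lt_card (s := ({0, 1, -1} : Finset F))
      (t := Finset.univ.filter fun x : F => qConj hF x = x) (Finset.card_le_three.trans_lt (by
        rw [← Fintype.card_subtype, ← Nat.card_eq_fintype_card]
        exact lt_of_lt_of_eq (by omega) (CfsgLib.Classical.SemiUnitaryClasses.natCard_fixed hF).symm))
    simp only [Finset.mem_filter, Finset.mem_univ, true_and] at hk
    simp only [Finset.mem_insert, Finset.mem_singleton, not_or] at hk3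
    exact ⟨k, hk, hk3.1, hk3.2.1, hk3.2.2⟩
  -- two commuting transvections suffice
  have hdiag : ∀ a ∈ D 0, ∀ b ∈ D 1, a ≠ 0 → b ≠ 0 → (Cfsg.hermForm 4 F q) a b = 0 → ∀ α β : F, qConj hF α = α → qConj hF β = β →
      (α ≠ 0 ∨ β ≠ 0) → Diag q ζ M a α b β → Cfsg.GU 4 F q ⊓ Cfsg.Geo.specialLinear (Fin 4) F ≤ M := by
    intro a ha b hb ha0 hb0 hab α β hα hβ hne hD0
    have haa := h01.tiA a ha a ha
    have hbb := h01.tiB b hb b hb
    obtain ⟨a', ha', b', hb', ha'b', hb'a, ha'b, hsp⟩ := h01.pairs hF ha hb ha0 hb0 hab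
    obtain ⟨-, -, -, -, -, -, -, hspB⟩ := h01.symm.pairs hF hb ha hb0 ha0 (herm_eq_zero_comm hf hab)
    have htor : ∀ μ ν : F, μ ≠ 0 → ν ≠ 0 → μ * ν = qConj hF (μ * ν) → ∃ h ∈ M,
        (h : Matrix (Fin 4) (Fin 4) F) *ᵥ a = μ • a ∧ (h : Matrix (Fin 4) (Fin 4) F) *ᵥ b = ν • b := by
      intro μ ν hμ hν hμν
      obtain ⟨h₁, h₁s, h₁d, h₁a, h₁b', h₁f⟩ := UnitFour.exists_torus hf haa (h01.tiB b' hb' b' hb') hb'a hμ
      obtain ⟨h₂, h₂s, h₂d, h₂b, h₂a', h₂f⟩ := UnitFour.exists_torus hf hbb (h01.tiA a' ha' a' ha') ha'b hν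
      obtain ⟨h, hhe⟩ : ∃ h, h = h₁ * h₂ := ⟨_, rfl⟩
      have hha : (h : Matrix (Fin 4) (Fin 4) F) *ᵥ a = μ • a := by
        rw [hhe, Units.val_mul, ← mulVec_mulVec, h₂f a hab (h01.tiA a ha a' ha'), h₁a]
      have hhb : (h : Matrix (Fin 4) (Fin 4) F) *ᵥ b = ν • b := by
        rw [hhe, Units.val_mul, ← mulVec_mulVec, h₂b, mulVec_smul,
          h₁f b (herm_eq_zero_comm hf hab) (h01.tiB b hb b' hb')]
      have hha' : (h : Matrix (Fin 4) (Fin 4) F) *ᵥ a' = (qConj hF ν)⁻¹ • a' := by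
        rw [hhe, Units.val_mul, ← mulVec_mulVec, h₂a', mulVec_smul, h₁f a' (h01.tiA a' ha' a ha) ha'b']
      have hhb' : (h : Matrix (Fin 4) (Fin 4) F) *ᵥ b' = (qConj hF μ)⁻¹ • b' := by
        rw [hhe, Units.val_mul, ← mulVec_mulVec, h₂f b' (h01.tiB b' hb' b hb) (herm_eq_zero_comm hf ha'b'), h₁b']
      refine ⟨h, hM ⟨hmem h 1 fun i x hx => ?_, ?_⟩, hha, hhb⟩
      · rw [Equiv.Perm.one_apply]
        fin_cases i
        · obtain ⟨s, t, rfl⟩ := hsp x hx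
          rw [mulVec_add, mulVec_smul, mulVec_smul, hha, hha']
          exact add_mem ((D 0).smul_mem _ ((D 0).smul_mem _ ha)) ((D 0).smul_mem _ ((D 0).smul_mem _ ha'))
        · have hli : LinearIndependent F ![b, b'] := by
            rw [LinearIndependent.pair_iff]
            intro s t hst
            have ht : t = 0 := by
              simpa [hf.add_left, hf.smul_left, herm_eq_zero_comm hf hab, hb'a, herm_zero_left hf] using
                congrArg (fun v => (Cfsg.hermForm 4 F q) v a) hst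
            rw [ht, zero_smul, add_zero] at hst
            exact ⟨(smul_eq_zero.1 hst).resolve_right hb0, ht⟩
          have h3 := finrank_span_eq_card hli
          rw [show Set.range ![b, b'] = {b, b'} by simp [Set.pair_comm], Fintype.card_fin] at h3
          have hle : Submodule.span F {b, b'} ≤ D 1 := by
            rw [Submodule.span_le]; rintro _ (rfl | rfl)
            · exact hb
            · exact hb'
          have hx' : x ∈ Submodule.span F {b, b'} := by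
            rw [Submodule.eq_of_le_of_finrank_le hle (by rw [h01.rankB, h3])]; exact hx
          obtain ⟨s, t, rfl⟩ := Submodule.mem_span_pair.1 hx'
          rw [mulVec_add, mulVec_smul, mulVec_smul, hhb, hhb']
          exact add_mem ((D 1).smul_mem _ ((D 1).smul_mem _ hb)) ((D 1).smul_mem _ ((D 1).smul_mem _ hb'))
      · refine ⟨fun u v => ?_, ?_⟩
        · show (Cfsg.hermForm 4 F q) ((h : Matrix (Fin 4) (Fin 4) F) *ᵥ u) ((h : Matrix (Fin 4) (Fin 4) F) *ᵥ v) = (Cfsg.hermForm 4 F q) u v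
          rw [hhe, Units.val_mul, ← mulVec_mulVec, ← mulVec_mulVec, h₁s, h₂s]
        · show h ∈ Cfsg.Geo.specialLinear (Fin 4) F
          rw [DecompMax.mem_sl_iff, hhe, Units.val_mul, det_mul, h₁d, h₂d, div_mul_div_comm, ← map_mul, ← hμν,
            div_self (mul_ne_zero hμ hν)]
    have hone : ∀ {u v : Fin 4 → F}, (Cfsg.hermForm 4 F q) u u = 0 → ∀ {γ : F}, γ ≠ 0 → qConj hF γ = γ →
        (∀ n : F, n ≠ 0 → Diag q ζ M u (γ * (n * qConj hF n)) v 0) → UFull (qConj hF) (Cfsg.hermForm 4 F q) M u := by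
      intro u v huu γ hγ0 hγ hsc
      refine ⟨huu, fun c hc => ?_⟩
      rcases eq_or_ne c 0 with rfl | hc0
      · exact hasTv_of_map hF huu (g := 1) M.one_mem fun x => by simp
      have hcσ : qConj hF c = -c := by linear_combination hc
      obtain ⟨n, hn⟩ := exists_norm_eq hf (e := c / (ζ * γ)) (by
        rw [map_div₀, map_mul, hζ, hγ, hcσ]; field_simp)
      have hn0 : n ≠ 0 := fun e => by
        rw [e, zero_mul, eq_comm, div_eq_zero_iff] at hn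
        exact hn.elim hc0 (mul_ne_zero hζ0 hγ0)
      obtain ⟨g, hg, hgx⟩ := hsc n hn0
      refine hasTv_of_map hF huu hg fun x => ?_
      rw [hgx, mul_zero, zero_mul, zero_smul, add_zero, hn]
      congr 2
      field_simp
    have hscale : ∀ γ δ : F, Diag q ζ M a γ b δ → ∀ n : F, n ≠ 0 →
        Diag q ζ M a (γ * (n * qConj hF n)) b (δ * (n * qConj hF n)) := by
      intro γ δ h n hn
      obtain ⟨t, ht, hta, htb⟩ := htor n (qConj hF n) hn ((map_ne_zero _).2 hn) (by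
        rw [map_mul, qConj_qConj, mul_comm])
      have := h.conj hF ht (hiso t ht) hta htb
      rwa [qConj_qConj, mul_comm (qConj hF n) n] at this
    apply hfinish
    rcases eq_or_ne β 0 with hβ0 | hβ0
    · left
      refine ⟨a, ha, ha0, hone (v := b) haa (hne.resolve_right (not_not.2 hβ0)) hα fun n hn => ?_⟩
      have := hscale α β hD0 n hn
      rwa [hβ0, zero_mul] at this
    right
    obtain ⟨t, ht, hta, htb⟩ := htor 1 k one_ne_zero hk0 (by rw [one_mul, hk])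
    have h1 := hD0.conj hF ht (hiso t ht) hta htb
    rw [map_one, one_mul, mul_one, hk] at h1
    have h2 := h1.add hF (hD0.neg hF haa hbb hab) haa hbb hab
    rw [add_neg_cancel] at h2
    have hkk : β * (k * k) + -β ≠ 0 := fun e => by
      have : β * ((k - 1) * (k + 1)) = 0 := by linear_combination e
      simp only [mul_eq_zero, sub_eq_zero, hβ0, false_or] at this
      exact this.elim hk1 (fun z => hk1' (eq_neg_of_add_eq_zero_left z))
    refine ⟨b, hb, hb0, hone (v := a) hbb hkk (by simp only [map_add, map_neg, map_mul, hk, hβ]) fun n hn => ?_⟩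
    have h3 := hscale _ _ h2 n hn
    rw [zero_mul] at h3
    exact h3.swap
  -- some image of a shear line is not a shear line
  obtain ⟨d, hdD, e, heD, hd0, he0, hde, hnot⟩ : ∃ d ∈ D 0, ∃ e ∈ D 1, d ≠ 0 ∧ e ≠ 0 ∧ (Cfsg.hermForm 4 F q) d e = 0 ∧
      ∀ a ∈ D 0, ∀ b ∈ D 1, (Cfsg.hermForm 4 F q) a b = 0 → ¬ ((g : Matrix (Fin 4) (Fin 4) F) *ᵥ d ∈ Submodule.span F {a, b} ∧
        (g : Matrix (Fin 4) (Fin 4) F) *ᵥ e ∈ Submodule.span F {a, b}) := by
    by_contra hno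
    push Not at hno
    have himg : ∀ {U W : Submodule F (Fin 4 → F)}, TwoTI q U W →
        (∀ u ∈ U, ∀ w ∈ W, u ≠ 0 → w ≠ 0 → (Cfsg.hermForm 4 F q) u w = 0 → ∃ a ∈ D 0, ∃ b ∈ D 1, (Cfsg.hermForm 4 F q) a b = 0 ∧
          (g : Matrix (Fin 4) (Fin 4) F) *ᵥ u ∈ Submodule.span F {a, b} ∧
          (g : Matrix (Fin 4) (Fin 4) F) *ᵥ w ∈ Submodule.span F {a, b}) →
        U.map (Matrix.toLin' (g : Matrix (Fin 4) (Fin 4) F)) = D 0 ∨
          U.map (Matrix.toLin' (g : Matrix (Fin 4) (Fin 4) F)) = D 1 := by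
      intro U W hUW hfam
      refine image_eq hF h01 (by rw [← (Submodule.equivMapOfInjective _ (hinj g) U).finrank_eq, hUW.rankA]) ?_ ?_ ?_
      · rintro _ ⟨x, hx, rfl⟩ _ ⟨y, hy, rfl⟩
        exact (hiso g hg x y).trans (hUW.tiA x hx y hy)
      · rintro _ ⟨u, hu, rfl⟩ α hα β hβ hαβ
        rcases eq_or_ne u 0 with rfl | hu0
        · rw [map_zero] at hαβ
          rw [(h01.uniq (Submodule.zero_mem _) hα (Submodule.zero_mem _) hβ (by rw [add_zero, hαβ])).1.symm,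
            herm_zero_left hf]
        obtain ⟨w, hw, hw0, huw⟩ := hUW.exists_perp hF u
        obtain ⟨a, ha, b, hb, hab, hgu, -⟩ := hfam u hu w hw hu0 hw0 huw
        obtain ⟨s, t, hst⟩ := Submodule.mem_span_pair.1 hgu
        obtain ⟨h1, h2⟩ := h01.uniq ((D 0).smul_mem s ha) hα ((D 1).smul_mem t hb) hβ (hst.trans hαβ)
        rw [← h1, ← h2, hf.smul_left, herm_smul_right hf, hab, mul_zero, mul_zero]
      · intro a₂ ha₂ b₂ hb₂ ha₂T hb₂T ha₂0 hb₂0
        obtain ⟨u, hu, hue⟩ := add_mem ha₂T hb₂T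
        have hue' : (g : Matrix (Fin 4) (Fin 4) F) *ᵥ u = a₂ + b₂ := hue
        have hu0 : u ≠ 0 := fun z => ha₂0 ((h01.uniq ha₂ (Submodule.zero_mem _) hb₂ (Submodule.zero_mem _)
          (by rw [← hue', z, mulVec_zero, add_zero])).1)
        obtain ⟨w, hw, hw0, huw⟩ := hUW.exists_perp hF u
        obtain ⟨a, ha, b, hb, hab, hgu, hgw⟩ := hfam u hu w hw hu0 hw0 huw
        obtain ⟨s, t, hst⟩ := Submodule.mem_span_pair.1 hgu
        obtain ⟨h1, h2⟩ := h01.uniq ((D 0).smul_mem s ha) ha₂ ((D 1).smul_mem t hb) hb₂ (hst.trans hue')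
        obtain ⟨s', t', hst'⟩ := Submodule.mem_span_pair.1 hgw
        have hs : s ≠ 0 := fun z => ha₂0 (by rw [← h1, z, zero_smul])
        have ht : t ≠ 0 := fun z => hb₂0 (by rw [← h2, z, zero_smul])
        have hmemT : (g : Matrix (Fin 4) (Fin 4) F) *ᵥ w ∈ U.map (Matrix.toLin' (g : Matrix (Fin 4) (Fin 4) F)) := by
          rw [← hst']
          refine add_mem (Submodule.smul_mem _ _ ?_) (Submodule.smul_mem _ _ ?_)
          · have := Submodule.smul_mem _ s⁻¹ ha₂T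
            rwa [← h1, inv_smul_smul₀ hs] at this
          · have := Submodule.smul_mem _ t⁻¹ hb₂T
            rwa [← h2, inv_smul_smul₀ ht] at this
        obtain ⟨x, hx, hxe⟩ := hmemT
        obtain rfl : x = w := hinj g hxe
        exact hw0 (Submodule.disjoint_def.1 hUW.disj _ hx hw)
    have hAim := himg h01 fun u hu w hw hu0 hw0 h => hno u hu w hw hu0 hw0 h
    have hBim := himg h01.symm fun u hu w hw hu0 hw0 h => by
      obtain ⟨a, ha, b, hb, hab, h1, h2⟩ := hno w hw u hu hw0 hu0 (herm_eq_zero_comm hf h)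
      exact ⟨a, ha, b, hb, hab, h2, h1⟩
    have hne' : (D 0).map (Matrix.toLin' (g : Matrix (Fin 4) (Fin 4) F)) ≠
        (D 1).map (Matrix.toLin' (g : Matrix (Fin 4) (Fin 4) F)) := fun h => by
      have := Submodule.map_injective_of_injective (hinj g) h
      exact ha₀0 (Submodule.disjoint_def.1 h01.disj a₀ ha₀ (this ▸ ha₀))
    obtain ⟨π, hπ⟩ : ∃ π : Equiv.Perm (Fin 2),
        ∀ i, ∀ x ∈ D i, (g : Matrix (Fin 4) (Fin 4) F) *ᵥ x ∈ D (π i) := by
      rcases hAim with hA | hA <;> rcases hBim with hB | hB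
      · exact absurd (hA.trans hB.symm) hne'
      · refine ⟨1, fun i x hx => ?_⟩
        fin_cases i
        · exact hA.le ⟨x, hx, rfl⟩
        · exact hB.le ⟨x, hx, rfl⟩
      · refine ⟨Equiv.swap 0 1, fun i x hx => ?_⟩
        fin_cases i
        · exact hA.le ⟨x, hx, rfl⟩
        · exact hB.le ⟨x, hx, rfl⟩
      · exact absurd (hA.trans hB.symm) hne'
    exact hgH ⟨hmem g π hπ, hMS hg⟩
  -- the image line meets some shear line
  obtain ⟨a', ha'e⟩ : ∃ a', a' = (g : Matrix (Fin 4) (Fin 4) F) *ᵥ d := ⟨_, rfl⟩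
  obtain ⟨b', hb'e⟩ : ∃ b', b' = (g : Matrix (Fin 4) (Fin 4) F) *ᵥ e := ⟨_, rfl⟩
  rw [← ha'e, ← hb'e] at hnot
  have haa' : (Cfsg.hermForm 4 F q) a' a' = 0 := by rw [ha'e]; exact (hiso g hg d d).trans (h01.tiA d hdD d hdD)
  have hbb' : (Cfsg.hermForm 4 F q) b' b' = 0 := by rw [hb'e]; exact (hiso g hg e e).trans (h01.tiB e heD e heD)
  have hab' : (Cfsg.hermForm 4 F q) a' b' = 0 := by rw [ha'e, hb'e]; exact (hiso g hg d e).trans hde
  have hSh' : Shear hF ζ M a' b' := ha'e ▸ hb'e ▸ (hSh d hdD e heD hde).conj hF hg (hiso g hg)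
  have hli' : LinearIndependent F ![a', b'] := by
    rw [LinearIndependent.pair_iff]
    intro s t hst
    refine LinearIndependent.pair_iff.1 (h01.li hdD heD hd0 he0) s t (hinj g ?_)
    rw [map_zero, map_add, map_smul, map_smul, Matrix.toLin'_apply, Matrix.toLin'_apply, ← ha'e, ← hb'e, hst]
  obtain ⟨α₁, hα₁, β₁, hβ₁, h1e⟩ := h01.dec a'
  obtain ⟨α₂, hα₂, β₂, hβ₂, h2e⟩ := h01.dec b'
  obtain ⟨r', s', hrs, hzero⟩ : ∃ r' s' : F, (r' ≠ 0 ∨ s' ≠ 0) ∧
      (Cfsg.hermForm 4 F q) (r' • α₁ + s' • α₂) (r' • β₁ + s' • β₂) = 0 := by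
    have he11 : (Cfsg.hermForm 4 F q) α₁ β₁ + qConj hF ((Cfsg.hermForm 4 F q) α₁ β₁) = 0 := by
      have := haa'
      rw [← h1e, hf.add_left, herm_add_right hf, herm_add_right hf, h01.tiA α₁ hα₁ α₁ hα₁, h01.tiB β₁ hβ₁ β₁ hβ₁,
        hf.herm β₁ α₁] at this
      linear_combination this
    have he22 : (Cfsg.hermForm 4 F q) α₂ β₂ + qConj hF ((Cfsg.hermForm 4 F q) α₂ β₂) = 0 := by
      have := hbb'
      rw [← h2e, hf.add_left, herm_add_right hf, herm_add_right hf, h01.tiA α₂ hα₂ α₂ hα₂, h01.tiB β₂ hβ₂ β₂ hβ₂,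
        hf.herm β₂ α₂] at this
      linear_combination this
    have he12 : (Cfsg.hermForm 4 F q) α₁ β₂ + qConj hF ((Cfsg.hermForm 4 F q) α₂ β₁) = 0 := by
      have := hab'
      rw [← h1e, ← h2e, hf.add_left, herm_add_right hf, herm_add_right hf, h01.tiA α₁ hα₁ α₂ hα₂,
        h01.tiB β₁ hβ₁ β₂ hβ₂, hf.herm β₁ α₂] at this
      linear_combination this
    rcases eq_or_ne ((Cfsg.hermForm 4 F q) α₂ β₂) 0 with h0 | h0
    · exact ⟨0, 1, Or.inr one_ne_zero, by rw [zero_smul, zero_smul, one_smul, one_smul, zero_add, zero_add, h0]⟩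
    obtain ⟨c, hc⟩ : ∃ c, c = qConj hF ((Cfsg.hermForm 4 F q) α₂ β₁ / (Cfsg.hermForm 4 F q) α₂ β₂) := ⟨_, rfl⟩
    have h2σ : qConj hF ((Cfsg.hermForm 4 F q) α₂ β₂) = -(Cfsg.hermForm 4 F q) α₂ β₂ := by linear_combination he22
    have hc1 : (Cfsg.hermForm 4 F q) α₂ β₂ * qConj hF c = (Cfsg.hermForm 4 F q) α₂ β₁ := by rw [hc, qConj_qConj, mul_div_cancel₀ _ h0]
    have hc2 : (Cfsg.hermForm 4 F q) α₂ β₂ * c = (Cfsg.hermForm 4 F q) α₁ β₂ := by
      rw [hc, map_div₀, h2σ]; field_simp; linear_combination -he12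
    obtain ⟨w, hw⟩ := exists_norm_eq hf (e := c * qConj hF c - (Cfsg.hermForm 4 F q) α₁ β₁ / (Cfsg.hermForm 4 F q) α₂ β₂) (by
      rw [map_sub, map_mul, qConj_qConj, map_div₀, h2σ, show qConj hF ((Cfsg.hermForm 4 F q) α₁ β₁) = -(Cfsg.hermForm 4 F q) α₁ β₁ by
        linear_combination he11, neg_div_neg_eq]
      ring)
    have hw' : (Cfsg.hermForm 4 F q) α₂ β₂ * (w * qConj hF w) = (Cfsg.hermForm 4 F q) α₂ β₂ * (c * qConj hF c) - (Cfsg.hermForm 4 F q) α₁ β₁ := by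
      rw [hw, mul_sub, mul_div_cancel₀ _ h0]
    refine ⟨1, w - c, Or.inl one_ne_zero, ?_⟩
    rw [one_smul, one_smul, hf.add_left, hf.smul_left, herm_add_right hf, herm_add_right hf, herm_smul_right hf,
      herm_smul_right hf, map_sub]
    linear_combination hw' + (w - c) * hc1 * (-1) + (qConj hF w - qConj hF c) * hc2 * (-1)
  obtain ⟨y, hy'⟩ : ∃ y, y = r' • a' + s' • b' := ⟨_, rfl⟩
  have hy0 : y ≠ 0 := fun z => by
    obtain ⟨h1, h2⟩ := LinearIndependent.pair_iff.1 hli' r' s' (hy'.symm.trans z)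
    exact hrs.elim (fun k => k h1) (fun k => k h2)
  obtain ⟨a, ha, b, hb, ha0, hb0, hab, r, s, hy⟩ : ∃ a ∈ D 0, ∃ b ∈ D 1, a ≠ 0 ∧ b ≠ 0 ∧ (Cfsg.hermForm 4 F q) a b = 0 ∧
      ∃ r s : F, y = r • a + s • b := by
    obtain ⟨α, hαe⟩ : ∃ α, α = r' • α₁ + s' • α₂ := ⟨_, rfl⟩
    obtain ⟨β, hβe⟩ : ∃ β, β = r' • β₁ + s' • β₂ := ⟨_, rfl⟩
    rw [← hαe, ← hβe] at hzero
    have hyab : y = α + β := by rw [hy', ← h1e, ← h2e, hαe, hβe]; module
    have hα : α ∈ D 0 := hαe ▸ add_mem ((D 0).smul_mem _ hα₁) ((D 0).smul_mem _ hα₂)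
    have hβ : β ∈ D 1 := hβe ▸ add_mem ((D 1).smul_mem _ hβ₁) ((D 1).smul_mem _ hβ₂)
    rcases eq_or_ne α 0 with hα0 | hα0
    · have hβ0 : β ≠ 0 := fun z => hy0 (by rw [hyab, hα0, z, add_zero])
      obtain ⟨a, ha, ha0, hba⟩ := h01.symm.exists_perp hF β
      exact ⟨a, ha, β, hβ, ha0, hβ0, herm_eq_zero_comm hf hba, 0, 1, by
        rw [hyab, hα0, zero_smul, one_smul]⟩
    rcases eq_or_ne β 0 with hβ0 | hβ0
    · obtain ⟨b, hb, hb0, hab⟩ := h01.exists_perp hF α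
      exact ⟨α, hα, b, hb, hα0, hb0, hab, 1, 0, by rw [hyab, hβ0, zero_smul, one_smul]⟩
    exact ⟨α, hα, β, hβ, hα0, hβ0, hzero, 1, 1, by rw [one_smul, one_smul, hyab]⟩
  have hS := hSh a ha b hb hab
  have haa := h01.tiA a ha a ha
  have hbb := h01.tiB b hb b hb
  have hli := h01.li ha hb ha0 hb0
  have hout := hnot a ha b hb hab
  have hdiff : ∀ {u : Fin 4 → F}, y = u → ¬ (a ∈ Submodule.span F {a', b'} ∧ b ∈ Submodule.span F {a', b'}) := by
    intro u _ hin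
    have hle : Submodule.span F {a, b} ≤ Submodule.span F {a', b'} := by
      rw [Submodule.span_le]; rintro _ (rfl | rfl)
      · exact hin.1
      · exact hin.2
    have h3 := finrank_span_eq_card hli
    have h3' := finrank_span_eq_card hli'
    rw [show Set.range ![a, b] = {a, b} by simp [Set.pair_comm], Fintype.card_fin] at h3
    rw [show Set.range ![a', b'] = {a', b'} by simp [Set.pair_comm], Fintype.card_fin] at h3'
    have := Submodule.eq_of_le_of_finrank_le hle (by rw [h3, h3'])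
    exact hout ⟨this ▸ Submodule.subset_span (by simp), this ▸ Submodule.subset_span (by simp)⟩
  have hmem' : y ∈ Submodule.span F {a', b'} := Submodule.mem_span_pair.2 ⟨r', s', hy'.symm⟩
  rcases eq_or_ne s 0 with hs | hs
  · have hr : r ≠ 0 := fun z => hy0 (by rw [hy, hs, z, zero_smul, zero_smul, add_zero])
    rw [hs, zero_smul, add_zero] at hy
    have hain : a ∈ Submodule.span F {a', b'} := by
      have := Submodule.smul_mem _ r⁻¹ hmem'
      rwa [hy, inv_smul_smul₀ hr] at this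
    obtain ⟨r₁, s₁, hrs₁⟩ := Submodule.mem_span_pair.1 hain
    exact hfinish (Or.inl ⟨a, ha, ha0, uFull_of_share hF hζ0 hζ hiso hS hSh' haa hbb hab haa' hbb' hab' hli'
      (fun z => hdiff hy ⟨hain, z⟩) hrs₁.symm ha0⟩)
  rcases eq_or_ne r 0 with hr | hr
  · rw [hr, zero_smul, zero_add] at hy
    have hbin : b ∈ Submodule.span F {a', b'} := by
      have := Submodule.smul_mem _ s⁻¹ hmem'
      rwa [hy, inv_smul_smul₀ hs] at this
    obtain ⟨r₁, s₁, hrs₁⟩ := Submodule.mem_span_pair.1 hbin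
    exact hfinish (Or.inr ⟨b, hb, hb0, uFull_of_share hF hζ0 hζ hiso (hS.symm hF) hSh' hbb haa
      (herm_eq_zero_comm hf hab) haa' hbb' hab' hli' (fun z => hdiff hy ⟨z, hbin⟩) hrs₁.symm hb0⟩)
  have hmemL : y ∈ Submodule.span F {a, b} := Submodule.mem_span_pair.2 ⟨r, s, hy.symm⟩
  have hback : ∀ {u : Fin 4 → F}, UFull (qConj hF) (Cfsg.hermForm 4 F q) M ((g : Matrix (Fin 4) (Fin 4) F) *ᵥ u) →
      UFull (qConj hF) (Cfsg.hermForm 4 F q) M u := fun {u} h => by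
    have := h.conj hf (M.inv_mem hg) (hiso _ (M.inv_mem hg))
    rwa [inv_mulVec_mulVec] at this
  rcases eq_or_ne s' 0 with hs' | hs'
  · have hr' : r' ≠ 0 := hrs.resolve_right (not_not.2 hs')
    rw [hs', zero_smul, add_zero] at hy'
    have hain : a' ∈ Submodule.span F {a, b} := by
      have := Submodule.smul_mem _ r'⁻¹ hmemL
      rwa [hy', inv_smul_smul₀ hr'] at this
    obtain ⟨r₁, s₁, hrs₁⟩ := Submodule.mem_span_pair.1 hain
    refine hfinish (Or.inl ⟨d, hdD, hd0, hback ?_⟩)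
    rw [← ha'e]
    exact uFull_of_share hF hζ0 hζ hiso hSh' hS haa' hbb' hab' haa hbb hab hli
      (fun z => hout ⟨hain, z⟩) hrs₁.symm (by
        intro z; exact hy0 (by rw [hy', z, smul_zero]))
  rcases eq_or_ne r' 0 with hr' | hr'
  · rw [hr', zero_smul, zero_add] at hy'
    have hbin : b' ∈ Submodule.span F {a, b} := by
      have := Submodule.smul_mem _ s'⁻¹ hmemL
      rwa [hy', inv_smul_smul₀ hs'] at this
    obtain ⟨r₁, s₁, hrs₁⟩ := Submodule.mem_span_pair.1 hbin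
    refine hfinish (Or.inr ⟨e, heD, he0, hback ?_⟩)
    rw [← hb'e]
    exact uFull_of_share hF hζ0 hζ hiso (hSh'.symm hF) hS hbb' haa' (herm_eq_zero_comm hf hab') haa hbb hab hli
      (fun z => hout ⟨z, hbin⟩) hrs₁.symm (by
        intro z; exact hy0 (by rw [hy', z, smul_zero]))
  obtain ⟨α, β, hα, hβ, hne, hD0⟩ := diag_of_meet hF hζ0 hζ hiso hk hk0 hk1 hk1' hS hSh' haa hbb hab haa' hbb' hab'
    hli hout hy hy' hr hs hs' hr'
  exact hdiag a ha b hb ha0 hb0 hab α β hα hβ hne hD0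

end CfsgLib.MaxSub.SuFour
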