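import Cfsg.Agent.Lib.MaxSub.SuFour.Point
import Cfsg.Agent.Lib.MaxSub.UnitFour
import Cfsg.Agent.Lib.MaxSub.UFrameBlocks
import Cfsg.Agent.Lib.Classical.SemiUnitaryClasses

/-!
The stabiliser of two orthogonal non-degenerate planes is maximal in the four-dimensional special unitary group.
-/

set_option autoImplicit false
set_option linter.unusedSectionVars false

namespace CfsgLib.MaxSub.SuFour

open Matrix CfsgLib.MaxSub
open scoped MatrixGroups

variable {F : Type*} [Field F] [Fintype F] {q : ℕ}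

theorem planes_maximal (hF : Fintype.card F = q ^ 2) (hq : 3 ≤ q) (D : Fin 2 → Submodule F (Fin 4 → F))
    (hD : Cfsg.Geo.IsNondegenerateMDecomposition (Cfsg.hermForm 4 F q) 2 D) :
    Cfsg.Geo.IsMaximalIn (Cfsg.GU 4 F q ⊓ Cfsg.Geo.specialLinear (Fin 4) F)
      (Cfsg.Geo.decompositionStabilizer D ⊓ (Cfsg.GU 4 F q ⊓ Cfsg.Geo.specialLinear (Fin 4) F)) := by
  classical
  have hf := isUnitaryForm_hermForm hF 4
  set f := Cfsg.hermForm 4 F q with hfdef
  have hsup : D 0 ⊔ D 1 = ⊤ := by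
    rw [eq_top_iff, ← hD.decomp.iSup_eq_top, iSup_le_iff]
    intro i
    fin_cases i
    · exact le_sup_left
    · exact le_sup_right
  have hperp : ∀ {i j : Fin 2}, i ≠ j → ∀ {x}, x ∈ D i → ∀ {y}, y ∈ D j → f x y = 0 :=
    fun {i j} h {x} hx {y} hy => hD.orthogonal i j h x hx y hy
  have hdec : ∀ x, ∃ a ∈ D 0, ∃ b ∈ D 1, a + b = x := fun x => Submodule.mem_sup.1 (by rw [hsup]; trivial)
  have hnorm : ∀ {a b : Fin 4 → F}, a ∈ D 0 → b ∈ D 1 → ∀ {a' b' : Fin 4 → F}, a' ∈ D 0 → b' ∈ D 1 →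
      f (a + b) (a' + b') = f a a' + f b b' := fun ha hb _ _ ha' hb' => by
    rw [hf.add_left, herm_add_right hf, herm_add_right hf, hperp zero_ne_one ha hb', hperp one_ne_zero hb ha']
    ring
  have hsep : ∀ i, ∀ u ∈ D i, u ≠ 0 → ∃ v ∈ D i, f v u ≠ 0 := fun i u hu hu0 =>
    (hD.nondegenerate i u hu hu0).1
  have hunit : ∀ i, ∀ a ∈ D i, f a a = 1 → ∃ a' ∈ D i, f a' a' = 1 ∧ f a' a = 0 := by
    intro i a ha haa
    have h1 := finrank_le_inf_ker (D i) (hLin hf a)
    rw [hD.decomp.finrank_eq] at h1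
    obtain ⟨u, hu, hu0⟩ := (D i ⊓ LinearMap.ker (hLin hf a)).exists_mem_ne_zero_of_ne_bot (fun e => by
      rw [e, finrank_bot] at h1; omega)
    have hua : f u a = 0 := hu.2
    obtain ⟨v, hv, hvu⟩ := hsep i u hu.1 hu0
    have hv' : f (v + (-f v a) • a) u ≠ 0 := by
      rw [hf.add_left, hf.smul_left, herm_eq_zero_comm hf hua, mul_zero, add_zero]; exact hvu
    obtain ⟨v', hv'e⟩ : ∃ v', v' = v + (-f v a) • a := ⟨_, rfl⟩
    rw [← hv'e] at hv'
    have hv'D : v' ∈ D i ⊓ LinearMap.ker (hLin hf a) := ⟨hv'e ▸ add_mem hv ((D i).smul_mem _ ha), by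
      show f v' a = 0
      rw [hv'e, hf.add_left, hf.smul_left, haa, mul_one, add_neg_cancel]⟩
    by_cases huu : f u u = 0
    · obtain ⟨s, hs⟩ := exists_trace_ne hf
      obtain ⟨z, hz, hzz⟩ : ∃ z ∈ D i ⊓ LinearMap.ker (hLin hf a), f z z ≠ 0 := by
        by_cases hvv : f v' v' = 0
        · refine ⟨(s / f v' u) • v' + u, add_mem ((D i ⊓ LinearMap.ker (hLin hf a)).smul_mem _ hv'D) hu, ?_⟩
          simp only [hf.add_left, hf.smul_left, herm_add_right hf, herm_smul_right hf, huu, hvv, mul_zero,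
            zero_add, add_zero]
          rw [div_mul_cancel₀ _ hv', hf.herm u v', ← map_mul, div_mul_cancel₀ _ hv']
          exact hs
        · exact ⟨v', hv'D, hvv⟩
      obtain ⟨t, ht⟩ := exists_norm_eq hf (e := (f z z)⁻¹) (by rw [map_inv₀, herm_self_fixed hf])
      exact ⟨t • z, (D i).smul_mem _ hz.1, by
        rw [hf.smul_left, herm_smul_right hf, ← mul_assoc, ht, inv_mul_cancel₀ hzz],
        by rw [hf.smul_left, show f z a = 0 from hz.2, mul_zero]⟩
    · obtain ⟨t, ht⟩ := exists_norm_eq hf (e := (f u u)⁻¹) (by rw [map_inv₀, herm_self_fixed hf])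
      exact ⟨t • u, (D i).smul_mem _ hu.1, by
        rw [hf.smul_left, herm_smul_right hf, ← mul_assoc, ht, inv_mul_cancel₀ huu],
        by rw [hf.smul_left, hua, mul_zero]⟩
  have hd : ∀ z, f z z = 0 → ∀ c : F, (c • hDual f z) ⬝ᵥ z = 0 := fun z hz c => by
    rw [smul_dotProduct, hDual_dot hf, hz, smul_zero]
  have hinj : ∀ g : GL (Fin 4) F,
      Function.Injective (Matrix.toLin' (g : Matrix (Fin 4) (Fin 4) F)) := fun g x y e => by
    have := congrArg (((g⁻¹ : GL (Fin 4) F) : Matrix (Fin 4) (Fin 4) F) *ᵥ ·) e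
    simpa [inv_mulVec_mulVec] using this
  have hmem : ∀ g : GL (Fin 4) F, ∀ π : Equiv.Perm (Fin 2),
      (∀ i, ∀ x ∈ D i, (g : Matrix (Fin 4) (Fin 4) F) *ᵥ x ∈ D (π i)) →
      g ∈ Cfsg.Geo.decompositionStabilizer D := by
    intro g π h
    refine ⟨π, fun i => ?_⟩
    refine Submodule.eq_of_le_of_finrank_eq (by rintro _ ⟨x, hx, rfl⟩; exact h i x hx) ?_
    rw [← (Submodule.equivMapOfInjective _ (hinj g) (D i)).finrank_eq, hD.decomp.finrank_eq, hD.decomp.finrank_eq]
  have hiso0 : ∀ i, ∃ s ∈ D i, s ≠ 0 ∧ f s s = 0 := fun i =>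
    exists_isotropic hf (U := D i) (le_of_eq (hD.decomp.finrank_eq i).symm)
  refine isMaximalIn_of_lt (lt_of_le_of_ne inf_le_right fun he => ?_) fun M hM hMS g hg hgH => ?_
  · obtain ⟨s, hs, hs0, hss⟩ := hiso0 0
    obtain ⟨t, ht, ht0, htt⟩ := hiso0 1
    obtain ⟨v, hv, hvs⟩ := hsep 0 s hs hs0
    obtain ⟨ζ, hζ0, hζ⟩ := exists_trace_zero hf
    have hst : f (s + t) (s + t) = 0 := by rw [hnorm hs ht hs ht, hss, htt, add_zero]
    have hmem := uTv_mem_su hF hst hζ (hd _ hst ζ)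
    rw [← he] at hmem
    obtain ⟨π, hπ⟩ := hmem.1
    have him : tvMat (s + t) (ζ • hDual f (s + t)) *ᵥ v ∈ D (π 0) := by
      rw [← hπ 0]; exact ⟨v, hv, rfl⟩
    rw [uTv_mulVec hf, herm_add_right hf, hperp zero_ne_one hv ht, add_zero, smul_add, ← add_assoc] at him
    have hz : ζ * f v s ≠ 0 := mul_ne_zero hζ0 hvs
    have hdis := hD.decomp.indep.pairwiseDisjoint (i := (0 : Fin 2)) (j := 1) zero_ne_one
    rcases Fin.exists_fin_two.1 ⟨π 0, rfl⟩ with h | h <;> rw [h] at him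
    · rw [Submodule.add_mem_iff_right _ (add_mem hv ((D 0).smul_mem _ hs)), (D 0).smul_mem_iff hz] at him
      exact ht0 (Submodule.disjoint_def.1 hdis t him ht)
    · rw [Submodule.add_mem_iff_left _ ((D 1).smul_mem _ ht)] at him
      have := Submodule.disjoint_def.1 hdis _ (add_mem hv ((D 0).smul_mem _ hs)) him
      refine hvs ?_
      have h2 := congrArg (fun x => f x s) this
      simp only [hf.add_left, hf.smul_left, hss, mul_zero, add_zero, herm_zero_left hf] at h2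
      exact h2
  have hiso : ∀ h ∈ M, ∀ a b, f ((h : Matrix (Fin 4) (Fin 4) F) *ᵥ a)
      ((h : Matrix (Fin 4) (Fin 4) F) *ᵥ b) = f a b := fun h hh a b => (hMS hh).1 a b
  have hsq : ∀ x y, f (x + y) (x + y) = f x x + f x y + (f y x + f y y) := fun x y => by
    rw [hf.add_left, herm_add_right hf, herm_add_right hf]
  have hbase : ∀ i z, z ∈ D i → f z z = 0 → UFull (qConj hF) f M z := fun i z hz hzz =>
    ⟨hzz, fun c hc => (hasTv_iff (hd z hzz c)).2 (hM ⟨hmem _ 1 fun j x hx => by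
      rw [coe_tvGL, uTv_mulVec hf, Equiv.Perm.one_apply]
      rcases eq_or_ne j i with rfl | hji
      · exact add_mem hx ((D j).smul_mem _ hz)
      · rw [hperp hji hx hz, mul_zero, zero_smul, add_zero]; exact hx, uTv_mem_su hF hzz hc _⟩)⟩
  -- a seed off both planes
  obtain ⟨x₀, hx₀, hx₀0, hx₀1⟩ : ∃ x₀, UFull (qConj hF) f M x₀ ∧ x₀ ∉ D 0 ∧ x₀ ∉ D 1 := by
    by_contra hno
    push Not at hno
    have himg : ∀ i, ∀ z ∈ D i, f z z = 0 → ∃ j, (g : Matrix (Fin 4) (Fin 4) F) *ᵥ z ∈ D j := fun i z hz hzz => by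
      have h := (hbase i z hz hzz).conj hf hg (hiso g hg)
      by_cases h0 : (g : Matrix (Fin 4) (Fin 4) F) *ᵥ z ∈ D 0
      · exact ⟨0, h0⟩
      · exact ⟨1, hno _ h h0⟩
    have hto : ∀ i, ∃ j, ∀ x ∈ D i, (g : Matrix (Fin 4) (Fin 4) F) *ᵥ x ∈ D j := by
      intro i
      obtain ⟨s, hs, hs0, hss⟩ := hiso0 i
      obtain ⟨z₀, hz₀, hz₀s⟩ := hsep i s hs hs0
      obtain ⟨j, hj⟩ := himg i s hs hss
      refine ⟨j, fun x hx => le_of_isotropic_sep hf (S := (D j).comap (Matrix.toLin' (g : Matrix (Fin 4) (Fin 4) F)))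
        hs hss hz₀ hz₀s (fun z hz hzz => ?_) hx⟩
      obtain ⟨l, hl⟩ := himg i z hz hzz
      rcases eq_or_ne l j with rfl | hlj
      · exact hl
      -- then `z` is orthogonal to `s`, so proportional to it
      have hzs : f z s = 0 := by rw [← hiso g hg]; exact hperp hlj hl hj
      have hle : Submodule.span F {s} ≤ D i ⊓ LinearMap.ker (hLin hf s) := by
        rw [Submodule.span_singleton_le_iff_mem]; exact ⟨hs, hss⟩
      have hlt : D i ⊓ LinearMap.ker (hLin hf s) < D i :=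
        lt_of_le_of_ne inf_le_left fun e => hz₀s (e.ge hz₀).2
      have h2 := Submodule.finrank_lt_finrank_of_lt hlt
      rw [hD.decomp.finrank_eq] at h2
      have he := Submodule.eq_of_le_of_finrank_le hle (by rw [finrank_span_singleton hs0]; omega)
      have hzm : z ∈ Submodule.span F {s} := by rw [he]; exact ⟨hz, hzs⟩
      obtain ⟨c, rfl⟩ := Submodule.mem_span_singleton.1 hzm
      show (g : Matrix (Fin 4) (Fin 4) F) *ᵥ (c • s) ∈ D j
      rw [mulVec_smul]; exact (D j).smul_mem _ hj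
    choose π hπ using hto
    have hπi : Function.Injective π := by
      intro a b e
      by_contra hab
      have htop : (⊤ : Submodule F (Fin 4 → F)).map (Matrix.toLin' (g : Matrix (Fin 4) (Fin 4) F)) ≤ D (π a) := by
        rw [← hsup, Submodule.map_sup]
        refine sup_le ?_ ?_ <;> rintro _ ⟨x, hx, rfl⟩
        · fin_cases a <;> fin_cases b <;> first | exact absurd rfl hab | exact hπ 0 x hx | (rw [e]; exact hπ 0 x hx)
        · fin_cases a <;> fin_cases b <;> first | exact absurd rfl hab | exact hπ 1 x hx | (rw [e]; exact hπ 1 x hx)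
      rw [Submodule.map_top] at htop
      have := Submodule.finrank_mono htop
      rw [LinearMap.finrank_range_of_inj (hinj g), Module.finrank_fin_fun, hD.decomp.finrank_eq] at this
      omega
    exact hgH ⟨hmem g (Equiv.ofBijective π ⟨hπi, Finite.injective_iff_surjective.1 hπi⟩) hπ, hMS hg⟩
  -- vectors with anisotropic components are equivalent
  have hIII : ∀ {a₁ b₁ a₂ b₂ : Fin 4 → F}, a₁ ∈ D 0 → b₁ ∈ D 1 → a₂ ∈ D 0 → b₂ ∈ D 1 →
      UFull (qConj hF) f M (a₁ + b₁) → f a₁ a₁ ≠ 0 → f (a₂ + b₂) (a₂ + b₂) = 0 → f a₂ a₂ ≠ 0 →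
      UFull (qConj hF) f M (a₂ + b₂) := by
    intro a₁ b₁ a₂ b₂ ha₁ hb₁ ha₂ hb₂ h1 hn₁ h2 hn₂
    obtain ⟨τ, hτ⟩ := exists_norm_eq hf (e := (-1 : F)) (by simp)
    have hτ0 : τ ≠ 0 := left_ne_zero_of_mul (hτ ▸ neg_ne_zero.2 one_ne_zero)
    have hnz : ∀ {a b : Fin 4 → F}, a ∈ D 0 → b ∈ D 1 → f (a + b) (a + b) = 0 → f a a ≠ 0 →
        ∃ κ : F, κ ≠ 0 ∧ ∃ a' ∈ D 0, ∃ c ∈ D 0, ∃ b' ∈ D 1,
          κ • (a + b) = a' + τ • b' ∧ Orth q ![a', c, b'] := by
      intro a b ha hb hab hn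
      obtain ⟨κ, hκ⟩ := exists_norm_eq hf (e := (f a a)⁻¹) (by rw [map_inv₀, herm_self_fixed hf])
      have hκ0 : κ ≠ 0 := left_ne_zero_of_mul (hκ ▸ inv_ne_zero hn)
      have haa : f (κ • a) (κ • a) = 1 := by
        rw [hf.smul_left, herm_smul_right hf, ← mul_assoc, hκ, inv_mul_cancel₀ hn]
      obtain ⟨c, hc, hcc, hca⟩ := hunit 0 _ ((D 0).smul_mem κ ha) haa
      have hbb : f ((τ⁻¹ * κ) • b) ((τ⁻¹ * κ) • b) = 1 := by
        rw [hnorm ha hb ha hb] at hab
        rw [hf.smul_left, herm_smul_right hf, map_mul, map_inv₀, show f b b = -f a a by linear_combination hab]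
        have := (map_ne_zero (qConj hF)).2 hτ0
        field_simp
        field_simp at hκ
        linear_combination -hκ - hτ
      have h12 : f (κ • a) ((τ⁻¹ * κ) • b) = 0 := hperp zero_ne_one ((D 0).smul_mem _ ha) ((D 1).smul_mem _ hb)
      have h23 : f c ((τ⁻¹ * κ) • b) = 0 := hperp zero_ne_one hc ((D 1).smul_mem _ hb)
      refine ⟨κ, hκ0, _, (D 0).smul_mem κ ha, c, hc, _, (D 1).smul_mem (τ⁻¹ * κ) hb, ?_, fun i j => ?_⟩
      · rw [smul_add, smul_smul, mul_inv_cancel_left₀ hτ0]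
      · rw [← hfdef]
        fin_cases i <;> fin_cases j <;>
          simp [haa, hcc, hbb, hca, herm_eq_zero_comm hf hca, h12, herm_eq_zero_comm hf h12, h23,
            herm_eq_zero_comm hf h23]
    obtain ⟨κ₁, hκ₁, a₁', ha₁', c₁, hc₁, b₁', hb₁', e₁, ho₁⟩ := hnz ha₁ hb₁ h1.1 hn₁
    obtain ⟨κ₂, hκ₂, a₂', ha₂', c₂, hc₂, b₂', hb₂', e₂, ho₂⟩ := hnz ha₂ hb₂ h2 hn₂
    obtain ⟨h, hh, hhd⟩ := exists_map hF (n := 4) (m := 3) (by norm_num) ho₁ ho₂
    have hA : (h : Matrix (Fin 4) (Fin 4) F) *ᵥ a₁' = a₂' := hhd 0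
    have hC : (h : Matrix (Fin 4) (Fin 4) F) *ᵥ c₁ = c₂ := hhd 1
    have hB : (h : Matrix (Fin 4) (Fin 4) F) *ᵥ b₁' = b₂' := hhd 2
    have hn : ∀ {u v : Fin 4 → F}, Orth q ![u, v, b₁'] → f u u = 1 ∧ f v v = 1 ∧ f u v = 0 := fun {u v} ho =>
      ⟨by simpa [hfdef] using ho 0 0, by simpa [hfdef] using ho 1 1, by simpa [hfdef] using ho 0 1⟩
    obtain ⟨h11, h22, h12⟩ := hn ho₁
    have hspan : D 0 = Submodule.span F {a₁', c₁} := by
      refine (Submodule.eq_of_le_of_finrank_le ?_ ?_).symm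
      · rw [Submodule.span_le]
        rintro _ (rfl | rfl)
        · exact ha₁'
        · exact hc₁
      · rw [hD.decomp.finrank_eq]
        have hli : LinearIndependent F ![a₁', c₁] := by
          rw [LinearIndependent.pair_iff]
          intro s t hst
          constructor
          · simpa [hf.add_left, hf.smul_left, h11, herm_eq_zero_comm hf h12, herm_zero_left hf] using
              congrArg (fun x => f x a₁') hst
          · simpa [hf.add_left, hf.smul_left, h22, h12, herm_zero_left hf] using congrArg (fun x => f x c₁) hst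
        have := finrank_span_eq_card hli
        rw [show Set.range ![a₁', c₁] = {a₁', c₁} by simp [Set.pair_comm], Fintype.card_fin] at this
        rw [this]
    have hM0 : ∀ x ∈ D 0, (h : Matrix (Fin 4) (Fin 4) F) *ᵥ x ∈ D 0 := fun x hx => by
      rw [hspan, Submodule.mem_span_pair] at hx
      obtain ⟨s, t, rfl⟩ := hx
      rw [mulVec_add, mulVec_smul, mulVec_smul, hA, hC]
      exact add_mem ((D 0).smul_mem _ ha₂') ((D 0).smul_mem _ hc₂)
    have hsurj : ∀ y ∈ D 0, ∃ x ∈ D 0, (h : Matrix (Fin 4) (Fin 4) F) *ᵥ x = y := fun y hy => by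
      have he : (D 0).map (Matrix.toLin' (h : Matrix (Fin 4) (Fin 4) F)) = D 0 :=
        Submodule.eq_of_le_of_finrank_eq (by rintro _ ⟨x, hx, rfl⟩; exact hM0 x hx)
          (Submodule.equivMapOfInjective _ (hinj h) (D 0)).finrank_eq.symm
      rw [← he] at hy
      obtain ⟨x, hx, rfl⟩ := hy
      exact ⟨x, hx, rfl⟩
    have hM1 : ∀ x ∈ D 1, (h : Matrix (Fin 4) (Fin 4) F) *ᵥ x ∈ D 1 := fun x hx => by
      obtain ⟨a, ha, b, hb, hab⟩ := hdec ((h : Matrix (Fin 4) (Fin 4) F) *ᵥ x)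
      suffices a = 0 by rw [← hab, this, zero_add]; exact hb
      by_contra ha0
      obtain ⟨v, hv, hva⟩ := hsep 0 a ha ha0
      obtain ⟨y, hy, rfl⟩ := hsurj v hv
      refine hva ?_
      have : f ((h : Matrix (Fin 4) (Fin 4) F) *ᵥ y) ((h : Matrix (Fin 4) (Fin 4) F) *ᵥ x) = f y x := hh.1 y x
      rw [← hab, herm_add_right hf, hperp zero_ne_one hv hb, add_zero] at this
      exact this.trans (hperp zero_ne_one hy hx)
    have hhM : h ∈ M := hM ⟨hmem h 1 fun i x hx => by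
      fin_cases i
      · exact hM0 x hx
      · exact hM1 x hx, hh⟩
    have := ((h1.smul hf κ₁).conj hf hhM (hiso h hhM)).smul hf κ₂⁻¹
    rwa [e₁, mulVec_add, mulVec_smul, hA, hB, ← e₂, inv_smul_smul₀ hκ₂] at this
  -- one vector with anisotropic components
  obtain ⟨a₁, ha₁, b₁, hb₁, hfull₁, hn₁⟩ : ∃ a₁ ∈ D 0, ∃ b₁ ∈ D 1, UFull (qConj hF) f M (a₁ + b₁) ∧ f a₁ a₁ ≠ 0 := by
    obtain ⟨a, ha, b, hb, rfl⟩ := hdec x₀
    by_cases hna : f a a = 0
    swap
    · exact ⟨a, ha, b, hb, hx₀, hna⟩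
    have hnb : f b b = 0 := by have := hx₀.1; rwa [hnorm ha hb ha hb, hna, zero_add] at this
    have ha0 : a ≠ 0 := by rintro rfl; exact hx₀1 (by rw [zero_add]; exact hb)
    have hb0 : b ≠ 0 := by rintro rfl; exact hx₀0 (by rw [add_zero]; exact ha)
    obtain ⟨e, he, hee, hea⟩ := UnitFour.exists_pair hf (U := D 0) ha hna (hsep 0 a ha ha0).choose_spec.1
      (hsep 0 a ha ha0).choose_spec.2
    obtain ⟨d, hdD, hdd, hdb⟩ := UnitFour.exists_pair hf (U := D 1) hb hnb (hsep 1 b hb hb0).choose_spec.1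
      (hsep 1 b hb hb0).choose_spec.2
    obtain ⟨μ, hμ, hμ'⟩ := UFrame.exists_trace_nonfixed hF (a := (1 : F)) (map_one _) one_ne_zero
    have hμ0 : μ ≠ 0 := fun e => hμ' (by simp [e])
    have hμσ : qConj hF μ ≠ 0 := (map_ne_zero _).2 hμ0
    obtain ⟨ζ, hζ0, hζ⟩ := exists_trace_zero hf
    have hσζ : qConj hF ζ = -ζ := by linear_combination hζ
    obtain ⟨h₁, h₁s, h₁d, h₁a, h₁e, h₁f⟩ := UnitFour.exists_torus hf hna hee hea hμ0
    obtain ⟨h₂, h₂s, h₂d, h₂b, h₂e, h₂f⟩ := UnitFour.exists_torus hf hnb hdd hdb (inv_ne_zero hμ0)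
    obtain ⟨k, hk⟩ : ∃ k : GL (Fin 4) F, k = h₁ * h₂ := ⟨_, rfl⟩
    have hspan : ∀ (i : Fin 2) (u w : Fin 4 → F), u ∈ D i → w ∈ D i → f u u = 0 → f w u = 1 →
        ∀ x ∈ D i, ∃ s t : F, x = s • u + t • w := by
      intro i u w hu hw huu hwu x hx
      have hu0 : u ≠ 0 := fun h => by rw [h, herm_zero_right hf] at hwu; exact zero_ne_one hwu
      have hle : Submodule.span F {u, w} ≤ D i := by
        rw [Submodule.span_le]; rintro _ (rfl | rfl)
        · exact hu
        · exact hw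
      have hli : LinearIndependent F ![u, w] := by
        rw [LinearIndependent.pair_iff]
        intro s t hst
        have ht0 : t = 0 := by
          simpa [hf.add_left, hf.smul_left, huu, hwu, herm_zero_left hf] using congrArg (fun x => f x u) hst
        rw [ht0, zero_smul, add_zero] at hst
        exact ⟨(smul_eq_zero.1 hst).resolve_right hu0, ht0⟩
      have h2 := finrank_span_eq_card hli
      rw [show Set.range ![u, w] = {u, w} by simp [Set.pair_comm], Fintype.card_fin] at h2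
      rw [← Submodule.eq_of_le_of_finrank_le hle (by rw [hD.decomp.finrank_eq, h2]), Submodule.mem_span_pair] at hx
      obtain ⟨s, t, h⟩ := hx
      exact ⟨s, t, h.symm⟩
    have hkM : k ∈ M := by
      refine hM ⟨hmem k 1 fun i x hx => ?_, ⟨fun x y => ?_, ?_⟩⟩
      · rw [hk, Units.val_mul, ← mulVec_mulVec, Equiv.Perm.one_apply]
        fin_cases i
        · rw [h₂f x (hperp zero_ne_one hx hb) (hperp zero_ne_one hx hdD)]
          obtain ⟨s, t, rfl⟩ := hspan 0 a e ha he hna hea x hx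
          rw [mulVec_add, mulVec_smul, mulVec_smul, h₁a, h₁e]
          exact add_mem ((D 0).smul_mem _ ((D 0).smul_mem _ ha)) ((D 0).smul_mem _ ((D 0).smul_mem _ he))
        · obtain ⟨s, t, rfl⟩ := hspan 1 b d hb hdD hnb hdb x hx
          rw [mulVec_add, mulVec_smul, mulVec_smul, h₂b, h₂e, mulVec_add, mulVec_smul, mulVec_smul, mulVec_smul,
            mulVec_smul, h₁f b (hperp one_ne_zero hb ha) (hperp one_ne_zero hb he),
            h₁f d (hperp one_ne_zero hdD ha) (hperp one_ne_zero hdD he)]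
          exact add_mem ((D 1).smul_mem _ ((D 1).smul_mem _ hb)) ((D 1).smul_mem _ ((D 1).smul_mem _ hdD))
      · show f ((k : Matrix (Fin 4) (Fin 4) F) *ᵥ x) ((k : Matrix (Fin 4) (Fin 4) F) *ᵥ y) = f x y
        rw [hk, Units.val_mul, ← mulVec_mulVec, ← mulVec_mulVec, h₁s, h₂s]
      · show k ∈ Cfsg.Geo.specialLinear (Fin 4) F
        rw [DecompMax.mem_sl_iff, hk, Units.val_mul, det_mul, h₁d, h₂d, map_inv₀]
        field_simp
    have hkx : (k : Matrix (Fin 4) (Fin 4) F) *ᵥ (a + b) = μ • a + μ⁻¹ • b := by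
      rw [hk, Units.val_mul, ← mulVec_mulVec, mulVec_add, h₂f a (hperp zero_ne_one ha hb) (hperp zero_ne_one ha hdD),
        h₂b, mulVec_add, mulVec_smul, h₁a, h₁f b (hperp one_ne_zero hb ha) (hperp one_ne_zero hb he)]
    have h1 := hx₀.conj hf hkM (hiso k hkM)
    rw [hkx] at h1
    -- shear both components
    have hc' : μ * qConj hF μ * ζ + qConj hF (μ * qConj hF μ * ζ) = 0 := by
      rw [map_mul, map_mul, qConj_qConj, hσζ]; ring
    obtain ⟨T₁, hT₁, hT₁e⟩ := UFrame.tv_move hF (hbase 0 e he hee) (c := ζ) hζ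
    obtain ⟨T₂, hT₂, hT₂e⟩ := UFrame.tv_move hF (hbase 1 d hdD hdd) (c := μ * qConj hF μ * ζ) hc'
    have h2 := (h1.conj hf hT₂ (hiso T₂ hT₂)).conj hf hT₁ (hiso T₁ hT₁)
    have hae : f a e = 1 := by rw [hf.herm, hea, map_one]
    have hbd : f b d = 1 := by rw [hf.herm, hdb, map_one]
    have e1 : (T₁ : Matrix (Fin 4) (Fin 4) F) *ᵥ ((T₂ : Matrix (Fin 4) (Fin 4) F) *ᵥ (μ • a + μ⁻¹ • b)) =
        (μ • a + (μ * ζ) • e) + (μ⁻¹ • b + (qConj hF μ * ζ) • d) := by
      rw [hT₂e, ← hfdef, hf.add_left, hf.smul_left, hf.smul_left, hperp zero_ne_one ha hdD, hbd, hT₁e, ← hfdef]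
      simp only [hf.add_left, hf.smul_left, hae, hperp one_ne_zero hb he, hperp one_ne_zero hdD he]
      match_scalars <;> field_simp <;> ring
    rw [e1] at h2
    have hA' : μ • a + (μ * ζ) • e ∈ D 0 := add_mem ((D 0).smul_mem _ ha) ((D 0).smul_mem _ he)
    have hB' : μ⁻¹ • b + (qConj hF μ * ζ) • d ∈ D 1 := add_mem ((D 1).smul_mem _ hb) ((D 1).smul_mem _ hdD)
    have hfxy : f (a + b) ((μ • a + (μ * ζ) • e) + (μ⁻¹ • b + (qConj hF μ * ζ) • d)) = -ζ := by
      rw [hnorm ha hb hA' hB']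
      simp only [herm_add_right hf, herm_smul_right hf, hna, hnb, hae, hbd, map_mul, qConj_qConj, hσζ]
      linear_combination (-ζ) * hμ
    have hfA : f a (μ • a + (μ * ζ) • e) = -(qConj hF μ * ζ) := by
      simp only [herm_add_right hf, herm_smul_right hf, hna, hae, map_mul, hσζ]; ring
    have hzz : f (a + b + ((μ • a + (μ * ζ) • e) + (μ⁻¹ • b + (qConj hF μ * ζ) • d)))
        (a + b + ((μ • a + (μ * ζ) • e) + (μ⁻¹ • b + (qConj hF μ * ζ) • d))) = 0 := by
      rw [hsq (a + b), hx₀.1, h2.1, hfxy, hf.herm _ (a + b), hfxy, map_neg, hσζ]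
      ring
    refine ⟨_, add_mem ha hA', _, add_mem hb hB', ?_, ?_⟩
    · have h3 := hx₀.add hf h2 (by rw [hfxy]; exact neg_ne_zero.2 hζ0) hzz
      rwa [add_add_add_comm] at h3
    · have hAA : f (μ • a + (μ * ζ) • e) (μ • a + (μ * ζ) • e) = 0 := by
        simp only [hf.add_left, hf.smul_left, herm_add_right hf, herm_smul_right hf, hna, hee, hea, hae, map_mul, hσζ]
        ring
      rw [hsq a, hna, hAA, hfA, hf.herm _ a, hfA, map_neg, map_mul,
        qConj_qConj, hσζ]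
      intro h0
      refine hμ' (sub_eq_zero.1 ((mul_eq_zero.1 (show (qConj hF μ - μ) * ζ = 0 by linear_combination -h0)).resolve_right hζ0))
  have hall3 : ∀ {a b : Fin 4 → F}, a ∈ D 0 → b ∈ D 1 → f (a + b) (a + b) = 0 → f a a ≠ 0 →
      UFull (qConj hF) f M (a + b) := fun ha hb h hn => hIII ha₁ hb₁ ha hb hfull₁ hn₁ h hn
  refine su_le_of_uFull hF le_rfl fun x hxx => ?_
  obtain ⟨a, ha, b, hb, rfl⟩ := hdec x
  by_cases hna : f a a = 0
  swap
  · exact hall3 ha hb hxx hna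
  have hnb : f b b = 0 := by
    have h := hxx
    rw [← hfdef, hnorm ha hb ha hb, hna, zero_add] at h
    exact h
  rcases eq_or_ne a 0 with rfl | ha0
  · rw [zero_add]; exact hbase 1 b hb hnb
  rcases eq_or_ne b 0 with rfl | hb0
  · rw [add_zero]; exact hbase 0 a ha hna
  obtain ⟨e, he, hee, hea⟩ := UnitFour.exists_pair hf (U := D 0) ha hna (hsep 0 a ha ha0).choose_spec.1
    (hsep 0 a ha ha0).choose_spec.2
  obtain ⟨d, hdD, hdd, hdb⟩ := UnitFour.exists_pair hf (U := D 1) hb hnb (hsep 1 b hb hb0).choose_spec.1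
    (hsep 1 b hb hb0).choose_spec.2
  obtain ⟨δ, hδ, hδ'⟩ := UFrame.exists_trace_nonfixed hF (a := (1 : F)) (map_one _) one_ne_zero
  have hδ0 : δ ≠ 0 := fun h => hδ' (by simp [h])
  obtain ⟨ρ, hρ', hρN⟩ : ∃ ρ, qConj hF ρ ≠ ρ ∧ ρ * qConj hF ρ + (ρ + qConj hF ρ) ≠ 0 := by
    by_cases h : δ * qConj hF δ + 1 = 0
    · obtain ⟨k, hk, hk01⟩ := Finset.exists_mem_notMem_of_card_lt_card (s := ({0, 1} : Finset F))
        (t := Finset.univ.filter fun x : F => qConj hF x = x) (Finset.card_le_two.trans_lt (by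
          rw [← Fintype.card_subtype, ← Nat.card_eq_fintype_card]
          exact lt_of_lt_of_eq (by omega) (CfsgLib.Classical.SemiUnitaryClasses.natCard_fixed hF).symm))
      simp only [Finset.mem_filter, Finset.mem_univ, true_and] at hk
      simp only [Finset.mem_insert, Finset.mem_singleton, not_or] at hk01
      refine ⟨k * δ, fun e => hδ' (mul_left_cancel₀ hk01.1 (by rwa [map_mul, hk] at e)), fun e => ?_⟩
      rw [map_mul, hk] at e
      exact mul_ne_zero hk01.1 (sub_ne_zero.2 (Ne.symm hk01.2)) (show k * (1 - k) = 0 by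
        linear_combination e - k * k * h - k * hδ)
    · exact ⟨δ, hδ', fun e => h (by linear_combination e - hδ)⟩
  have hρ0 : ρ ≠ 0 := fun h => hρ' (by simp [h])
  -- split `a + b` on a hyperbolic line
  obtain ⟨s, hs⟩ := exists_trace_eq hf (a := (1 : F)) (map_one _)
  obtain ⟨s', hs'⟩ := exists_trace_eq hf (a := (-1 : F)) (by simp)
  obtain ⟨a', ha'e⟩ : ∃ a', a' = qConj hF ρ • (e + s • a) := ⟨_, rfl⟩
  obtain ⟨b', hb'e⟩ : ∃ b', b' = (-ρ) • (d + s' • b) := ⟨_, rfl⟩
  have hae : f a e = 1 := by rw [hf.herm, hea, map_one]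
  have hbd : f b d = 1 := by rw [hf.herm, hdb, map_one]
  have ha' : a' ∈ D 0 := ha'e ▸ (D 0).smul_mem _ (add_mem he ((D 0).smul_mem _ ha))
  have hb' : b' ∈ D 1 := hb'e ▸ (D 1).smul_mem _ (add_mem hdD ((D 1).smul_mem _ hb))
  have hab : f a a' = ρ := by
    simp [ha'e, herm_add_right hf, herm_smul_right hf, hae, hna, qConj_qConj]
  have hbb : f b b' = -qConj hF ρ := by
    simp only [hb'e, herm_add_right hf, herm_smul_right hf, hbd, hnb, map_neg, mul_zero, add_zero, mul_one]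
  have haa : f a' a' = ρ * qConj hF ρ := by
    simp only [ha'e, hf.add_left, hf.smul_left, herm_add_right hf, herm_smul_right hf, hee, hea, hae, hna,
      qConj_qConj]
    linear_combination (ρ * qConj hF ρ) * hs
  have hbb' : f b' b' = -(ρ * qConj hF ρ) := by
    simp only [hb'e, hf.add_left, hf.smul_left, herm_add_right hf, herm_smul_right hf, hdd, hdb, hbd, hnb, map_neg]
    linear_combination (ρ * qConj hF ρ) * hs'
  have hNa : f (a + a') (a + a') = ρ * qConj hF ρ + (ρ + qConj hF ρ) := by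
    rw [hf.add_left, herm_add_right hf, herm_add_right hf, hna, haa, hab, hf.herm a' a, hab]; ring
  have hNb : f (b + b') (b + b') = -(ρ * qConj hF ρ + (ρ + qConj hF ρ)) := by
    rw [hf.add_left, herm_add_right hf, herm_add_right hf, hnb, hbb', hbb, hf.herm b' b, hbb, map_neg, qConj_qConj]
    ring
  have hu := hall3 ha' hb' (by rw [hnorm ha' hb' ha' hb', haa, hbb', add_neg_cancel])
    (by rw [haa]; exact mul_ne_zero hρ0 ((map_ne_zero _).2 hρ0))
  have hv := hall3 (add_mem ha ha') (add_mem hb hb')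
    (by rw [hnorm (add_mem ha ha') (add_mem hb hb') (add_mem ha ha') (add_mem hb hb'), hNa, hNb, add_neg_cancel])
    (by rw [hNa]; exact hρN)
  have hsum : (a + a' + (b + b')) + (-1 : F) • (a' + b') = a + b := by module
  have := hv.add hf (hu.smul hf (-1)) (by
    rw [herm_smul_right hf, map_neg, map_one, hnorm (add_mem ha ha') (add_mem hb hb') ha' hb', hf.add_left,
      hf.add_left, hab, haa, hbb, hbb']
    intro h0
    exact hρ' (by linear_combination h0)) (by rw [hsum]; exact hxx)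
  rwa [hsum] at this

end CfsgLib.MaxSub.SuFour
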