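import Cfsg.Agent.Lib.MaxSub.SuFour.Tools

/-!
The stabiliser of a non-degenerate point is maximal in the four-dimensional special unitary group.
-/

set_option autoImplicit false
set_option linter.unusedSectionVars false

namespace CfsgLib.MaxSub.SuFour

open Matrix CfsgLib.MaxSub
open scoped MatrixGroups

variable {F : Type*} [Field F] [Fintype F] {q : ℕ}

theorem point_maximal (hF : Fintype.card F = q ^ 2) (W : Submodule F (Fin 4 → F)) (hW0 : W ≠ ⊥)
    (hW : Cfsg.Geo.IsNondegenerateOn (Cfsg.hermForm 4 F q) W) (hdim : 2 * Module.finrank F W < 4) :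
    Cfsg.Geo.IsMaximalIn (Cfsg.GU 4 F q ⊓ Cfsg.Geo.specialLinear (Fin 4) F)
      (Cfsg.Geo.subspaceStabilizer W ⊓ (Cfsg.GU 4 F q ⊓ Cfsg.Geo.specialLinear (Fin 4) F)) := by
  classical
  have hf := isUnitaryForm_hermForm hF 4
  obtain ⟨w₀, hw₀, hw₀0⟩ := W.exists_mem_ne_zero_of_ne_bot hW0
  have hWs : W = Submodule.span F {w₀} := by
    refine (Submodule.eq_of_le_of_finrank_le ?_ ?_).symm
    · rw [Submodule.span_singleton_le_iff_mem]; exact hw₀
    · rw [finrank_span_singleton hw₀0]; omega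
  set f := Cfsg.hermForm 4 F q with hfdef
  have hww₀ : f w₀ w₀ ≠ 0 := fun e => by
    obtain ⟨⟨z, hz, hzw⟩, -⟩ := hW w₀ hw₀ hw₀0
    rw [hWs, Submodule.mem_span_singleton] at hz
    obtain ⟨c, rfl⟩ := hz
    rw [hf.smul_left, e, mul_zero] at hzw
    exact hzw rfl
  obtain ⟨t₀, ht₀⟩ := exists_norm_eq hf (e := (f w₀ w₀)⁻¹) (by rw [map_inv₀, herm_self_fixed hf])
  obtain ⟨w, hwe⟩ : ∃ w, w = t₀ • w₀ := ⟨_, rfl⟩
  have hww : f w w = 1 := by
    rw [hwe, hf.smul_left, herm_smul_right hf, ← mul_assoc, ht₀, inv_mul_cancel₀ hww₀]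
  have hw : w ∈ W := hwe ▸ W.smul_mem _ hw₀
  have hw0 : w ≠ 0 := fun e => by rw [e, herm_zero_left hf] at hww; exact zero_ne_one hww
  have hWw : W = Submodule.span F {w} := by
    refine (Submodule.eq_of_le_of_finrank_le ?_ ?_).symm
    · rw [Submodule.span_singleton_le_iff_mem]; exact hw
    · rw [finrank_span_singleton hw0]; omega
  have hP : ∀ z, z ∈ hPerp hf W ↔ f z w = 0 := fun z => by
    refine ⟨fun h => h w hw, fun h v hv => ?_⟩
    rw [hWw, Submodule.mem_span_singleton] at hv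
    obtain ⟨c, rfl⟩ := hv
    rw [herm_smul_right hf, h, mul_zero]
  obtain ⟨τ, hτ⟩ := exists_norm_eq hf (e := (-1 : F)) (by simp)
  have hτ0 : τ ≠ 0 := left_ne_zero_of_mul (hτ ▸ neg_ne_zero.2 one_ne_zero)
  refine isMaximalIn_of_lt (lt_of_le_of_ne inf_le_right fun he => ?_) fun M hM hMS g hg hgH => ?_
  · obtain ⟨v, hv, hvw⟩ := exists_next hF (n := 4) (m := 1) (by norm_num) (d := ![w]) (fun i j => by
      fin_cases i; fin_cases j; simpa using hww)
    have hvw' : f v w = 0 := hvw 0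
    have hv : f v v = 1 := hv
    have hwv : f w v = 0 := herm_eq_zero_comm hf hvw'
    have hzz : f (w + τ • v) (w + τ • v) = 0 := by
      simp only [hf.add_left, herm_add_right hf, hf.smul_left, herm_smul_right hf, hww, hv, hwv, hvw']
      linear_combination hτ
    obtain ⟨ζ, hζ0, hζ⟩ := exists_trace_zero hf
    have hd : (ζ • hDual f (w + τ • v)) ⬝ᵥ (w + τ • v) = 0 := by
      rw [smul_dotProduct, hDual_dot hf, hzz, smul_zero]
    have hmem := uTv_mem_su hF hzz hζ hd
    rw [← he] at hmem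
    have h := maps_of_mem_subspaceStabilizer hmem.1 hw
    rw [coe_tvGL, uTv_mulVec hf, herm_add_right hf, herm_smul_right hf, hww, hwv, mul_zero, add_zero, mul_one,
      Submodule.add_mem_iff_right _ hw, W.smul_mem_iff hζ0, Submodule.add_mem_iff_right _ hw,
      W.smul_mem_iff hτ0, hWw, Submodule.mem_span_singleton] at h
    obtain ⟨c, hc⟩ := h
    have := hvw'
    rw [← hc, hf.smul_left, hww, mul_one] at this
    rw [← hc, this, zero_smul, herm_zero_left hf] at hv
    exact zero_ne_one hv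
  · have hiso : ∀ h ∈ M, ∀ a b, f ((h : Matrix (Fin 4) (Fin 4) F) *ᵥ a)
        ((h : Matrix (Fin 4) (Fin 4) F) *ᵥ b) = f a b := fun h hh a b => (hMS hh).1 a b
    have hd : ∀ z, f z z = 0 → ∀ c : F, (c • hDual f z) ⬝ᵥ z = 0 := fun z hz c => by
      rw [smul_dotProduct, hDual_dot hf, hz, smul_zero]
    have hbase : ∀ z, f z w = 0 → f z z = 0 → UFull (qConj hF) f M z := fun z hz hzz =>
      ⟨hzz, fun c hc => (hasTv_iff (hd z hzz c)).2 (hM ⟨mem_subspaceStabilizer_of_maps fun x hx => by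
        rw [coe_tvGL, uTv_mulVec hf, herm_eq_zero_comm hf ((hP z).2 hz x hx), mul_zero, zero_smul, add_zero]
        exact hx, uTv_mem_su hF hzz hc _⟩)⟩
    obtain ⟨x₀, hx₀, hx₀w⟩ : ∃ x₀, UFull (qConj hF) f M x₀ ∧ f x₀ w ≠ 0 := by
      by_contra hno
      push Not at hno
      obtain ⟨s, hs, hs0, hss⟩ := exists_isotropic hf (U := hPerp hf W) (by
        have := finrank_le_finrank_hPerp_add hf W; omega)
      obtain ⟨z₀, hz₀, hz₀s⟩ := exists_hPerp_of_notMem hf (W := W) (x := s) (fun hsW => hs0 (by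
        rw [hWw, Submodule.mem_span_singleton] at hsW
        obtain ⟨c, rfl⟩ := hsW
        rw [hf.smul_left, herm_smul_right hf, hww, mul_one, mul_eq_zero] at hss
        rcases hss with h | h
        · rw [h, zero_smul]
        · rw [(map_eq_zero _).1 h, zero_smul]))
      exact hgH ⟨mem_of_map_hPerp hf (hiso g hg)
        (le_of_isotropic_sep hf (S := (hPerp hf W).comap (Matrix.toLin' (g : Matrix (Fin 4) (Fin 4) F))) hs hss
          hz₀ (fun e => hz₀s (herm_eq_zero_comm hf e)) fun z hz hzz =>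
          (hP _).2 (hno _ ((hbase z ((hP z).1 hz) hzz).conj hf hg (hiso g hg)))), hMS hg⟩
    refine su_le_of_uFull hF le_rfl fun x hxx => ?_
    by_cases hxw : f x w = 0
    · exact hbase x hxw hxx
    -- normalise both vectors and move one to the other
    have hnorm : ∀ y, f y y = 0 → f y w ≠ 0 → ∃ (κ : F) (v : Fin 4 → F), κ ≠ 0 ∧ κ • y = w + τ • v ∧
        f v w = 0 ∧ f v v = 1 := by
      intro y hy hyw
      refine ⟨(f y w)⁻¹, τ⁻¹ • ((f y w)⁻¹ • y - w), inv_ne_zero hyw, ?_, ?_, ?_⟩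
      · rw [smul_smul, mul_inv_cancel₀ hτ0, one_smul]; abel
      · rw [hf.smul_left, sub_eq_add_neg, ← neg_one_smul F w, hf.add_left, hf.smul_left, hf.smul_left, hww,
          inv_mul_cancel₀ hyw]
        ring
      · have hwy : f w y = qConj hF (f y w) := hf.herm w y
        simp only [sub_eq_add_neg, ← neg_one_smul F w, hf.add_left, herm_add_right hf, hf.smul_left,
          herm_smul_right hf, hy, hww, hwy, map_inv₀, map_neg, map_one, inv_mul_cancel₀ hyw,
          inv_mul_cancel₀ ((map_ne_zero (qConj hF)).2 hyw)]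
        have hττ : qConj hF τ ≠ 0 := (map_ne_zero _).2 hτ0
        field_simp
        linear_combination (-f y w) * hτ
    obtain ⟨κ₁, v₁, hκ₁, e₁, hv₁w, hv₁⟩ := hnorm x₀ hx₀.1 hx₀w
    obtain ⟨κ₂, v₂, hκ₂, e₂, hv₂w, hv₂⟩ := hnorm x hxx hxw
    obtain ⟨h, hh, hhd⟩ := exists_map hF (n := 4) (m := 2) (by norm_num) (d := ![w, v₁]) (d' := ![w, v₂])
      (fun i j => by
        fin_cases i <;> fin_cases j <;> simp [hww, hv₁, hv₁w, herm_eq_zero_comm hf hv₁w, ← hfdef])
      (fun i j => by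
        fin_cases i <;> fin_cases j <;> simp [hww, hv₂, hv₂w, herm_eq_zero_comm hf hv₂w, ← hfdef])
    have h0 : (h : Matrix (Fin 4) (Fin 4) F) *ᵥ w = w := hhd 0
    have h1 : (h : Matrix (Fin 4) (Fin 4) F) *ᵥ v₁ = v₂ := hhd 1
    have hhM : h ∈ M := hM ⟨mem_subspaceStabilizer_of_maps fun y hy => by
      rw [hWw, Submodule.mem_span_singleton] at hy
      obtain ⟨c, rfl⟩ := hy
      rw [mulVec_smul, h0]; exact W.smul_mem _ hw, hh⟩
    have := ((hx₀.smul hf κ₁).conj hf hhM (hiso h hhM)).smul hf κ₂⁻¹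
    rwa [e₁, mulVec_add, mulVec_smul, h0, h1, ← e₂, inv_smul_smul₀ hκ₂] at this

end CfsgLib.MaxSub.SuFour
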