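import Cfsg.Agent.Lib.MaxSub.SkewIsom
import Cfsg.Agent.Lib.MaxSub.Rational
import Cfsg.Agent.Lib.MaxSub.TFormInvol
import Cfsg.Agent.Lib.Geom.Perp

/-!
Rational structures of a skew-Hermitian form in dimension four: every element of a proper overgroup of
the rational root elements is rational.
-/

set_option autoImplicit false
set_option linter.unusedSectionVars false
set_option linter.style.haveILetI false

namespace CfsgLib.MaxSub.SuFour

variable {F V : Type*} [Field F] {σ : F →+* F} [AddCommGroup V] [Module F V]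
  {B : V →ₛₗ[σ] V →ₗ[F] F}

section identities

variable (hB : IsSkew B)
include hB

theorem iso_smul_vec {x : V} (h : B x x = 0) (c : F) : B (c • x) (c • x) = 0 := by
  rw [bilin_smul_left, bilin_smul_right, h, mul_zero, mul_zero]

theorem tv_split_scalar {x y : V} (hx : B x x = 0) (hy : B y y = 0) (hxy : B x y = 0) {k : F} (hk : σ k = k) :
    sTv B (x + y) k = sEv B x (k • y) * sTv B y k * sTv B x k := sIsoms_ext fun z => by
  have hyx := hB.perp_symm hxy
  have hs : B (x + y) (x + y) = 0 := by simp [map_add, hx, hy, hxy, hyx]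
  simp only [Subgroup.coe_mul, LinearEquiv.mul_apply]
  rw [hB.tv_apply hs hk, hB.tv_apply hx hk, hB.tv_apply hy hk,
    hB.ev_apply hx (iso_smul_vec hB hy k) (by rw [bilin_smul_right, hxy, mul_zero])]
  simp only [map_add, LinearMap.add_apply, bilin_smul_left, bilin_smul_right, hx, hy, hxy, hyx, hk]
  module

theorem ev_shift {w e : V} (hw : B w w = 0) (he : B e e = 0) (hwe : B w e = 0) (c d : F) :
    sEv B (w + d • e) (c • e) = sEv B w (c • e) * sTv B e (σ c * d + σ d * c) := sIsoms_ext fun z => by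
  have hew := hB.perp_symm hwe
  have hk : σ (σ c * d + σ d * c) = σ c * d + σ d * c := by rw [map_add, map_mul, map_mul, hB.inv, hB.inv]; ring
  have hs : B (w + d • e) (w + d • e) = 0 := by
    simp [map_add, bilin_smul_left, bilin_smul_right, hw, he, hwe, hew]
  rw [Subgroup.coe_mul, LinearEquiv.mul_apply, hB.tv_apply he hk,
    hB.ev_apply hw (iso_smul_vec hB he c) (by rw [bilin_smul_right, hwe, mul_zero]),
    hB.ev_apply hs (iso_smul_vec hB he c) (by
      simp [map_add, bilin_smul_left, bilin_smul_right, he, hwe])]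
  simp only [map_add, LinearMap.add_apply, bilin_smul_left, bilin_smul_right, he, hwe, hew]
  module

theorem tv_comm_centre {w e : V} (hw : B w w = 0) (he : B e e = 0) (hwe : B w e = 0) (c : F) {k : F}
    (hk : σ k = k) : sEv B w (c • e) * sTv B e k = sTv B e k * sEv B w (c • e) := by
  have h := hB.tv_conj (sEv B w (c • e)) he hk
  rw [hB.ev_apply hw (iso_smul_vec hB he c) (by rw [bilin_smul_right, hwe, mul_zero]), bilin_smul_left, he,
    hwe, mul_zero, zero_smul, zero_smul, add_zero, add_zero] at h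
  conv_rhs => rw [← h]
  group

end identities

/-- a rational hyperbolic frame -/
structure RatFrame (B : V →ₛₗ[σ] V →ₗ[F] F) (R : AddSubgroup V) (e f a b : V) : Prop where
  me : e ∈ R
  mf : f ∈ R
  ma : a ∈ R
  mb : b ∈ R
  ee : B e e = 0
  ff : B f f = 0
  aa : B a a = 0
  bb : B b b = 0
  fe : B f e = 1
  ba : B b a = 1
  ea : B e a = 0
  eb : B e b = 0
  fa : B f a = 0
  fb : B f b = 0
  expand : ∀ x, x = B f x • e - B e x • f + B b x • a - B a x • b

namespace RatFrame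

variable {R : AddSubgroup V} {e f a b : V} (hB : IsSkew B) (h : RatFrame B R e f a b)
include hB h

theorem ef : B e f = -1 := by rw [hB.skew f e, h.fe, map_one]

theorem ab : B a b = -1 := by rw [hB.skew b a, h.ba, map_one]

theorem ae : B a e = 0 := hB.perp_symm h.ea

theorem be : B b e = 0 := hB.perp_symm h.eb

theorem af : B a f = 0 := hB.perp_symm h.fa

theorem bf : B b f = 0 := hB.perp_symm h.fb

theorem swap : RatFrame B R a b e f :=
  ⟨h.ma, h.mb, h.me, h.mf, h.aa, h.bb, h.ee, h.ff, h.ba, h.fe, ae hB h, af hB h, be hB h, bf hB h,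
    fun x => by conv_lhs => rw [h.expand x]
                abel⟩

theorem turn : RatFrame B R e f b (-a) :=
  ⟨h.me, h.mf, h.mb, neg_mem h.ma, h.ee, h.ff, h.bb, by simp [h.aa], h.fe,
    by rw [map_neg, LinearMap.neg_apply, ab hB h, neg_neg], h.eb, by simp [h.ea], h.fb, by simp [h.fa],
    fun x => by
      conv_lhs => rw [h.expand x]
      rw [map_neg, LinearMap.neg_apply]
      module⟩

theorem e_ne : e ≠ 0 := fun h0 => by
  have := h.fe
  rw [h0, map_zero] at this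
  exact zero_ne_one this

theorem a_ne : a ≠ 0 := fun h0 => by
  have := h.ba
  rw [h0, map_zero] at this
  exact zero_ne_one this

theorem f_ne : f ≠ 0 := fun h0 => by
  have := h.fe
  rw [h0, map_zero, LinearMap.zero_apply] at this
  exact zero_ne_one this

theorem b_ne : b ≠ 0 := fun h0 => by
  have := h.ba
  rw [h0, map_zero, LinearMap.zero_apply] at this
  exact zero_ne_one this

end RatFrame

/-- an overgroup of the root elements of a rational structure -/
structure RatCtx (B : V →ₛₗ[σ] V →ₗ[F] F) (F₀ : Subfield F) (R : AddSubgroup V) (M : Subgroup (sIsoms B)) :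
    Prop where
  base : IsSkew B
  sig : ∀ x ∈ F₀, σ x ∈ F₀
  moved : ∃ a ∈ F₀, σ a ≠ a
  ring : ∀ L : Subring F, (∀ x ∈ F₀, x ∈ L) → ∀ c ∈ L, c ∉ F₀ → ∀ x, x ∈ L
  smul : ∀ c ∈ F₀, ∀ x ∈ R, c • x ∈ R
  rat : ∀ x ∈ R, ∀ y ∈ R, B x y ∈ F₀
  frame : ∀ p ∈ R, B p p = 0 → p ≠ 0 → ∃ f a b, RatFrame B R p f a b
  start : ∃ e f a b, RatFrame B R e f a b
  mem : ∀ p ∈ R, B p p = 0 → ∀ k ∈ F₀, σ k = k → sTv B p k ∈ M

/-- `g` maps the rational vectors to a multiple of themselves -/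
def IsRatl (R : AddSubgroup V) (g : sIsoms B) : Prop :=
  ∃ c : F, c ≠ 0 ∧ ∀ x ∈ R, c • g.1 x ∈ R

namespace RatCtx

variable {F₀ : Subfield F} {R : AddSubgroup V} {M : Subgroup (sIsoms B)} (C : RatCtx B F₀ R M)
include C

theorem mem_of_trace {y : F} (h : ∀ s ∈ F₀, s * y + σ (s * y) ∈ F₀) : y ∈ F₀ := by
  obtain ⟨a, ha, hne⟩ := C.moved
  have hd : a - σ a ≠ 0 := sub_ne_zero.2 (Ne.symm hne)
  have h1 := h 1 (one_mem _)
  have h2 := h a ha
  rw [one_mul] at h1
  rw [map_mul] at h2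
  rw [show y = ((a * y + σ a * σ y) - σ a * (y + σ y)) / (a - σ a) by rw [eq_div_iff hd]; ring]
  exact div_mem (sub_mem h2 (mul_mem (C.sig _ ha) h1)) (sub_mem ha (C.sig _ ha))

theorem exists_trace {k : F} (hk : k ∈ F₀) (hσ : σ k = k) : ∃ s ∈ F₀, s + σ s = k := by
  obtain ⟨a, ha, hne⟩ := C.moved
  have hd : a - σ a ≠ 0 := sub_ne_zero.2 (Ne.symm hne)
  refine ⟨k * a / (a - σ a), div_mem (mul_mem hk ha) (sub_mem ha (C.sig _ ha)), ?_⟩
  rw [map_div₀, map_mul, hσ, map_sub, C.base.inv, show σ a - a = -(a - σ a) by ring, div_neg]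
  field_simp
  ring

theorem ev_mem {x z : V} (hx : x ∈ R) (hz : z ∈ R) (hxx : B x x = 0) (hzz : B z z = 0) (hxz : B x z = 0) :
    sEv B x z ∈ M := by
  have h1 : σ (-1 : F) = -1 := by rw [map_neg, map_one]
  have hm : (-1 : F) ∈ F₀ := neg_mem (one_mem _)
  refine mul_mem (mul_mem (C.mem _ (add_mem hx hz) ?_ 1 (one_mem _) (map_one σ))
    (C.mem _ hx hxx _ hm h1)) (C.mem _ hz hzz _ hm h1)
  simp [map_add, hxx, hzz, hxz, C.base.perp_symm hxz]

theorem move_tv {p r : V} (hp : p ∈ R) (hr : r ∈ R) (hpp : B p p = 0) (hrr : B r r = 0) (hrp : B r p = 1)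
    {k : F} (hk : σ k = k) (h : sTv B p k ∈ M) : sTv B r k ∈ M := by
  have hB := C.base
  have hpr : B p r = -1 := by rw [hB.skew r p, hrp, map_one]
  set g := sTv B p 1 * sTv B r 1 * sTv B p 1
  have hgM : g ∈ M := mul_mem (mul_mem (C.mem p hp hpp 1 (one_mem _) (map_one σ))
    (C.mem r hr hrr 1 (one_mem _) (map_one σ))) (C.mem p hp hpp 1 (one_mem _) (map_one σ))
  have hg : g.1 p = r := by
    simp only [g, Subgroup.coe_mul, LinearEquiv.mul_apply, hB.tv_apply hpp (map_one σ),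
      hB.tv_apply hrr (map_one σ), map_add, bilin_smul_right, hpp, hrp, hpr]
    module
  rw [← hg, ← hB.tv_conj g hpp hk]
  exact mul_mem (mul_mem hgM h) (inv_mem hgM)

theorem move_neg {p r : V} (hp : p ∈ R) (hr : r ∈ R) (hpp : B p p = 0) (hrr : B r r = 0) (hrp : B r p = 1)
    {k : F} (hk : σ k = k) (h : sTv B r k ∈ M) : sTv B p k ∈ M := by
  have h1 := C.move_tv hr (neg_mem hp) hrr (by simp [hpp]) (by
    rw [map_neg, LinearMap.neg_apply, C.base.skew r p, hrp, map_one, neg_neg]) hk h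
  rw [← neg_one_smul F p, C.base.tv_smul hpp _ hk] at h1
  simpa using h1

theorem tv_a {e f a b : V} (h : RatFrame B R e f a b) {k : F} (hk : σ k = k) (he : sTv B e k ∈ M) :
    sTv B a k ∈ M := by
  have hB := C.base
  have hr : B (f + b) (f + b) = 0 := by simp [map_add, h.ff, h.bb, h.fb, h.bf hB]
  have hm := add_mem h.mf h.mb
  refine C.move_neg h.ma hm h.aa hr (by simp [map_add, h.fa, h.ba]) hk
    (C.move_tv h.me hm h.ee hr (by simp [map_add, h.fe, h.be hB]) hk he)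

theorem tv_all {e f a b : V} (h : RatFrame B R e f a b) {k : F} (hk : σ k = k) (he : sTv B e k ∈ M) :
    sTv B f k ∈ M ∧ sTv B a k ∈ M ∧ sTv B b k ∈ M := by
  have ha := C.tv_a h hk he
  exact ⟨C.move_tv h.me h.mf h.ee h.ff h.fe hk he, ha, C.move_tv h.ma h.mb h.aa h.bb h.ba hk ha⟩

theorem split_mem {x e : V} (hxx : B x x = 0) (hee : B e e = 0) (hxe : B x e = 0) {k c : F} (hk : σ k = k)
    (h1 : sTv B x k ∈ M) (h2 : sTv B (x + c • e) k ∈ M) :
    sEv B x ((k * c) • e) * sTv B e (k * (c * σ c)) ∈ M := by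
  have hB := C.base
  rw [tv_split_scalar hB hxx (iso_smul_vec hB hee c) (by rw [bilin_smul_right, hxe, mul_zero]) hk, smul_smul,
    hB.tv_smul hee c hk] at h2
  exact (Subgroup.mul_mem_cancel_right M h1).1 h2

theorem mem_of_shift {x e : V} (hxx : B x x = 0) {k c : F} (hk : σ k = k) (h1 : sTv B x k ∈ M)
    {g : sIsoms B} (hg : g ∈ M) (hgx : g.1 x = x + c • e) : sTv B (x + c • e) k ∈ M := by
  rw [← hgx, ← C.base.tv_conj g hxx hk]
  exact mul_mem (mul_mem hg h1) (inv_mem hg)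

theorem trace_mem {e f a b : V} (h : RatFrame B R e f a b) {k : F} (hk : σ k = k) (hb : sTv B b k ∈ M)
    {l₁ l₂ : F} (h₁ : sEv B a (l₁ • e) ∈ M) (h₂ : sEv B a (l₂ • e) ∈ M) :
    sTv B e (k * (σ l₁ * l₂ + σ l₂ * l₁)) ∈ M := by
  have hB := C.base
  have hiso : ∀ c : F, B (c • e) (c • e) = 0 := iso_smul_vec hB h.ee
  have hperp : ∀ c : F, B a (c • e) = 0 := fun c => by rw [bilin_smul_right, h.ae hB, mul_zero]
  have key : ∀ l, sEv B a (l • e) ∈ M → sEv B b ((k * -l) • e) * sTv B e (k * (-l * σ (-l))) ∈ M := fun l hl =>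
    C.split_mem h.bb h.ee (h.be hB) hk hb (C.mem_of_shift h.bb hk hb hl (by
      rw [hB.ev_apply h.aa (hiso l) (hperp l), bilin_smul_left, h.eb, h.ab hB]
      module))
  have h12 : sEv B a ((l₁ + l₂) • e) ∈ M := by
    rw [add_smul, hB.ev_add h.aa (hiso _) (hiso _) (hperp _) (hperp _)
      (by rw [bilin_smul_left, bilin_smul_right, h.ee, mul_zero, mul_zero])]
    exact mul_mem h₁ h₂
  have fixn : ∀ l : F, σ (k * (-l * σ (-l))) = k * (-l * σ (-l)) := fun l => by
    rw [map_mul, map_mul, hB.inv, hk, mul_comm (σ (-l))]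
  have k1 := key _ h₁
  have k2 := key _ h₂
  have k3 := key _ h12
  rw [show (k * -(l₁ + l₂)) • e = (k * -l₁) • e + (k * -l₂) • e by rw [← add_smul]; congr 1; ring,
    hB.ev_add h.bb (hiso _) (hiso _) (by rw [bilin_smul_right, h.be hB, mul_zero])
      (by rw [bilin_smul_right, h.be hB, mul_zero]) (by rw [bilin_smul_left, bilin_smul_right, h.ee, mul_zero, mul_zero])] at k3
  have hkk : σ (k * (σ l₁ * l₂ + σ l₂ * l₁)) = k * (σ l₁ * l₂ + σ l₂ * l₁) := by
    rw [map_mul, hk, map_add, map_mul, map_mul, hB.inv, hB.inv]; ring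
  have e3 : sTv B e (k * (-(l₁ + l₂) * σ (-(l₁ + l₂)))) =
      sTv B e (k * (-l₁ * σ (-l₁))) * sTv B e (k * (-l₂ * σ (-l₂))) *
        sTv B e (k * (σ l₁ * l₂ + σ l₂ * l₁)) := by
    rw [← hB.tv_add h.ee (fixn _) (fixn _), ← hB.tv_add h.ee (by rw [map_add, fixn, fixn]) hkk]
    congr 1
    simp only [map_neg, map_add]
    ring
  rw [e3] at k3
  have := mul_mem (inv_mem (mul_mem k1 k2)) k3
  rw [show sEv B b ((k * -l₁) • e) * sTv B e (k * (-l₁ * σ (-l₁))) *
      (sEv B b ((k * -l₂) • e) * sTv B e (k * (-l₂ * σ (-l₂)))) =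
      sEv B b ((k * -l₁) • e) * sEv B b ((k * -l₂) • e) *
        (sTv B e (k * (-l₁ * σ (-l₁))) * sTv B e (k * (-l₂ * σ (-l₂)))) by
    rw [mul_assoc, ← mul_assoc (sTv B e (k * (-l₁ * σ (-l₁)))),
      ← tv_comm_centre hB h.bb h.ee (h.be hB) _ (fixn l₁)]
    group] at this
  simpa [mul_assoc] using this

/-- all root elements of a frame vector give all root elements -/
theorem full_of_big {e f a b : V} (h : RatFrame B R e f a b) {k₀ : F} (hσ₀ : σ k₀ = k₀) (h₀ : k₀ ∉ F₀)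
    (hk₀ : sTv B e k₀ ∈ M) : ∀ x k, B x x = 0 → σ k = k → sTv B x k ∈ M := by
  have hB := C.base
  let T : F → Prop := fun k => σ k = k ∧ sTv B e k ∈ M
  have hone : ∀ s ∈ F₀, sEv B a (s • e) ∈ M := fun s hs =>
    C.ev_mem h.ma (C.smul s hs e h.me) h.aa (iso_smul_vec hB h.ee s) (by rw [bilin_smul_right, h.ae hB, mul_zero])
  have T0 : ∀ {k}, k ∈ F₀ → σ k = k → T k := fun hk hs => ⟨hs, C.mem e h.me h.ee _ hk hs⟩
  have Tadd : ∀ {k l}, T k → T l → T (k + l) := fun hk hl =>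
    ⟨by rw [map_add, hk.1, hl.1], by rw [hB.tv_add h.ee hk.1 hl.1]; exact mul_mem hk.2 hl.2⟩
  have Tneg : ∀ {k}, T k → T (-k) := fun hk =>
    ⟨by rw [map_neg, hk.1], by rw [← hB.tv_neg h.ee hk.1]; exact inv_mem hk.2⟩
  have Tscal : ∀ {k m}, T k → m ∈ F₀ → σ m = m → T (k * m) := fun {k m} hk hm hs => by
    refine ⟨by rw [map_mul, hk.1, hs], ?_⟩
    obtain ⟨s, hs0, hst⟩ := C.exists_trace hm hs
    have := C.trace_mem h hk.1 (C.tv_all h hk.1 hk.2).2.2 (hone 1 (one_mem _)) (hone s hs0)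
    rwa [map_one, one_mul, mul_one, hst] at this
  have hA : ∀ {k s}, T k → s ∈ F₀ → sEv B a ((k * s) • e) ∈ M := fun {k s} hk hs => by
    have hs' := C.sig s hs
    have hg : sEv B e (σ s • b) ∈ M := C.ev_mem h.me (C.smul _ hs' _ h.mb) h.ee (iso_smul_vec hB h.bb _)
      (by rw [bilin_smul_right, h.eb, mul_zero])
    have h1 := C.split_mem h.aa h.ee (h.ae hB) hk.1 (C.tv_all h hk.1 hk.2).2.1 (c := s)
      (C.mem_of_shift h.aa hk.1 (C.tv_all h hk.1 hk.2).2.1 hg (by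
        rw [hB.ev_apply h.ee (iso_smul_vec hB h.bb _) (by rw [bilin_smul_right, h.eb, mul_zero]),
          bilin_smul_left, hB.inv, h.ba, h.ea]
        module))
    exact (Subgroup.mul_mem_cancel_right M (Tscal hk (mul_mem hs hs') (by rw [map_mul, hB.inv, mul_comm])).2).1 h1
  have Tmul : ∀ {k l}, T k → T l → T (k * l) := fun {k l} hk hl => by
    refine ⟨by rw [map_mul, hk.1, hl.1], ?_⟩
    obtain ⟨s, hs0, hst⟩ := C.exists_trace (one_mem F₀) (map_one σ)
    have := C.trace_mem h hk.1 (C.tv_all h hk.1 hk.2).2.2 (hone 1 (one_mem _)) (hA hl hs0)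
    rw [map_one, one_mul, mul_one, map_mul, hl.1, ← mul_add, hst, mul_one] at this
    exact this
  obtain ⟨t, ht, htne⟩ := C.moved
  have ht2 : T (t + σ t) ∧ T (-(t * σ t)) :=
    ⟨T0 (add_mem ht (C.sig _ ht)) (by rw [map_add, hB.inv, add_comm]),
      Tneg (T0 (mul_mem ht (C.sig _ ht)) (by rw [map_mul, hB.inv, mul_comm]))⟩
  let L : Subring F :=
    { carrier := {x | ∃ c d, T c ∧ T d ∧ x = c + d * t}
      mul_mem' := by
        rintro _ _ ⟨c, d, hc, hd, rfl⟩ ⟨c', d', hc', hd', rfl⟩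
        refine ⟨c * c' + d * d' * -(t * σ t), c * d' + d * c' + d * d' * (t + σ t),
          Tadd (Tmul hc hc') (Tmul (Tmul hd hd') ht2.2),
          Tadd (Tadd (Tmul hc hd') (Tmul hd hc')) (Tmul (Tmul hd hd') ht2.1), by ring⟩
      one_mem' := ⟨1, 0, T0 (one_mem _) (map_one σ), T0 (zero_mem _) (map_zero σ), by ring⟩
      add_mem' := by
        rintro _ _ ⟨c, d, hc, hd, rfl⟩ ⟨c', d', hc', hd', rfl⟩
        exact ⟨c + c', d + d', Tadd hc hc', Tadd hd hd', by ring⟩
      zero_mem' := ⟨0, 0, T0 (zero_mem _) (map_zero σ), T0 (zero_mem _) (map_zero σ), by ring⟩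
      neg_mem' := by
        rintro _ ⟨c, d, hc, hd, rfl⟩
        exact ⟨-c, -d, Tneg hc, Tneg hd, by ring⟩ }
  have hd : t - σ t ≠ 0 := sub_ne_zero.2 (Ne.symm htne)
  have hF₀ : ∀ x ∈ F₀, x ∈ L := fun x hx => by
    set d := (x - σ x) / (t - σ t) with hddef
    have hdm : d ∈ F₀ := div_mem (sub_mem hx (C.sig _ hx)) (sub_mem ht (C.sig _ ht))
    have hdσ : σ d = d := by
      rw [hddef, map_div₀, map_sub, map_sub, hB.inv, hB.inv, ← neg_sub x, ← neg_sub t, neg_div_neg_eq]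
    have hd' : d * (t - σ t) = x - σ x := div_mul_cancel₀ _ hd
    refine ⟨x - d * t, d, T0 (sub_mem hx (mul_mem hdm ht)) ?_, T0 hdm hdσ, by ring⟩
    rw [map_sub, map_mul, hdσ]
    linear_combination hd'
  have hall := C.ring L hF₀ k₀ ⟨k₀, 0, ⟨hσ₀, hk₀⟩, T0 (zero_mem _) (map_zero σ), by ring⟩ h₀
  have hT : ∀ k, σ k = k → T k := fun k hk => by
    obtain ⟨c, d, hc, hd', he⟩ := hall k
    have e2 := congrArg σ he
    rw [hk, map_add, map_mul, hc.1, hd'.1] at e2
    have hd0 : d = 0 := (mul_eq_zero.1 (show d * (t - σ t) = 0 by linear_combination e2 - he)).resolve_right hd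
    rwa [he, hd0, zero_mul, add_zero]
  have hAll : ∀ l, sEv B a (l • e) ∈ M := fun l => by
    obtain ⟨c, d, hc, hd', rfl⟩ := hall l
    rw [add_smul, hB.ev_add h.aa (iso_smul_vec hB h.ee _) (iso_smul_vec hB h.ee _)
      (by rw [bilin_smul_right, h.ae hB, mul_zero]) (by rw [bilin_smul_right, h.ae hB, mul_zero])
      (by rw [bilin_smul_left, bilin_smul_right, h.ee, mul_zero, mul_zero])]
    refine mul_mem ?_ (hA hd' ht)
    simpa using hA hc (one_mem F₀)
  have hAb : ∀ l, sEv B b (l • e) ∈ M := fun l => by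
    have hb2 : ∀ c s, T c → s ∈ F₀ → sEv B b ((c * s) • e) ∈ M := fun c s hc hs => by
      have hs' := C.sig s hs
      have hg : sEv B e ((-σ s) • a) ∈ M := C.ev_mem h.me (C.smul _ (neg_mem hs') _ h.ma) h.ee
        (iso_smul_vec hB h.aa _) (by rw [bilin_smul_right, h.ea, mul_zero])
      have h1 := C.split_mem h.bb h.ee (h.be hB) hc.1 (C.tv_all h hc.1 hc.2).2.2 (c := s)
        (C.mem_of_shift h.bb hc.1 (C.tv_all h hc.1 hc.2).2.2 hg (by
          rw [hB.ev_apply h.ee (iso_smul_vec hB h.aa _) (by rw [bilin_smul_right, h.ea, mul_zero]),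
            bilin_smul_left, map_neg, hB.inv, h.ab hB, h.eb]
          module))
      exact (Subgroup.mul_mem_cancel_right M (Tscal hc (mul_mem hs hs') (by rw [map_mul, hB.inv, mul_comm])).2).1 h1
    obtain ⟨c, d, hc, hd', rfl⟩ := hall l
    rw [add_smul, hB.ev_add h.bb (iso_smul_vec hB h.ee _) (iso_smul_vec hB h.ee _)
      (by rw [bilin_smul_right, h.be hB, mul_zero]) (by rw [bilin_smul_right, h.be hB, mul_zero])
      (by rw [bilin_smul_left, bilin_smul_right, h.ee, mul_zero, mul_zero])]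
    refine mul_mem ?_ (hb2 _ _ hd' ht)
    simpa using hb2 c 1 hc (one_mem F₀)
  have hfull : ∀ x, B x x = 0 → B e x ≠ 0 → ∀ k, σ k = k → sTv B x k ∈ M := by
    intro x hxx hx k hk
    obtain ⟨γ, hγ⟩ : ∃ γ, γ = B e x := ⟨_, rfl⟩
    have hγ0 : γ ≠ 0 := hγ ▸ hx
    -- kill the coordinates at `b` and `a`
    set g₁ := sEv B b (σ (B a x / γ) • e) with hg₁
    have hg₁x : B e (g₁.1 x) = γ ∧ B a (g₁.1 x) = 0 ∧ B b (g₁.1 x) = B b x := by
      rw [hg₁, hB.ev_apply h.bb (iso_smul_vec hB h.ee _) (by rw [bilin_smul_right, h.be hB, mul_zero])]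
      simp only [map_add, bilin_smul_left, bilin_smul_right, h.eb, h.ee, h.ae hB, h.ab hB, h.bb, h.be hB, hB.inv]
      refine ⟨by rw [hγ]; ring, ?_, by ring⟩
      rw [← hγ]; field_simp; ring
    set x₁ := g₁.1 x
    set g₂ := sEv B a (σ (-(B b x₁) / γ) • e) with hg₂
    have hg₂x : B e (g₂.1 x₁) = γ ∧ B a (g₂.1 x₁) = 0 ∧ B b (g₂.1 x₁) = 0 := by
      rw [hg₂, hB.ev_apply h.aa (iso_smul_vec hB h.ee _) (by rw [bilin_smul_right, h.ae hB, mul_zero])]
      simp only [map_add, bilin_smul_left, bilin_smul_right, h.ea, h.ee, h.ae hB, h.aa, h.be hB, h.ba,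
        hB.inv, hg₁x.1, hg₁x.2.1]
      refine ⟨by ring, by ring, ?_⟩
      field_simp; ring
    set x₂ := g₂.1 x₁
    have hx₂ : x₂ = B f x₂ • e - γ • f := by
      conv_lhs => rw [h.expand x₂, hg₂x.1, hg₂x.2.1, hg₂x.2.2]
      module
    obtain ⟨α, hα⟩ : ∃ α, α = B f x₂ := ⟨_, rfl⟩
    rw [← hα] at hx₂
    have hii : B x₂ x₂ = 0 := by simp only [x₂, x₁, sIsoms_map, hxx]
    have hm : σ (-α / γ) = -α / γ := by
      have h' := hii
      rw [hx₂] at h'
      simp only [map_sub, LinearMap.sub_apply, bilin_smul_left, bilin_smul_right, h.ee, h.ff, h.fe, h.ef hB] at h'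
      rw [map_div₀, map_neg, div_eq_div_iff ((map_ne_zero σ).2 hγ0) hγ0]
      linear_combination -h'
    set g₃ := sTv B e (-α / γ)
    have hg₃x : g₃.1 x₂ = (-γ) • f := by
      rw [hB.tv_apply h.ee hm, hg₂x.1, div_mul_cancel₀ _ hγ0, hx₂]
      module
    have hgM : g₃ * g₂ * g₁ ∈ M := mul_mem (mul_mem (hT _ hm).2 (hAll _)) (hAb _)
    have hgx : (g₃ * g₂ * g₁).1 x = (-γ) • f := by
      simp only [Subgroup.coe_mul, LinearEquiv.mul_apply]; exact hg₃x
    have hm2 : σ (k * (-γ * σ (-γ))) = k * (-γ * σ (-γ)) := by rw [map_mul, map_mul, hB.inv, hk, mul_comm (σ (-γ))]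
    have h1 : sTv B ((g₃ * g₂ * g₁).1 x) k ∈ M := by
      rw [hgx, hB.tv_smul h.ff _ hk]
      exact (C.tv_all h hm2 (hT _ hm2).2).1
    rw [← hB.tv_conj _ hxx hk] at h1
    exact (Subgroup.mul_mem_cancel_left M hgM).1 ((Subgroup.mul_mem_cancel_right M (inv_mem hgM)).1 h1)
  intro x k hxx hk
  by_cases hx : B e x = 0
  swap
  · exact hfull x hxx hx k hk
  have back : ∀ g ∈ M, B e (g.1 x) ≠ 0 → sTv B x k ∈ M := fun g hg hne => by
    have h1 := hfull (g.1 x) (by rw [sIsoms_map, hxx]) hne k hk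
    rw [← hB.tv_conj g hxx hk] at h1
    exact (Subgroup.mul_mem_cancel_left M hg).1 ((Subgroup.mul_mem_cancel_right M (inv_mem hg)).1 h1)
  by_cases hfx : B f x = 0
  swap
  · refine back (sTv B f 1) (C.mem f h.mf h.ff 1 (one_mem _) (map_one σ)) ?_
    rw [hB.tv_apply h.ff (map_one σ), map_add, hx, bilin_smul_right, h.ef hB, one_mul, zero_add,
      mul_neg, mul_one, neg_ne_zero]
    exact hfx
  by_cases hbx : B b x = 0
  swap
  · refine back (sEv B f b) (C.ev_mem h.mf h.mb h.ff h.bb h.fb) ?_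
    rw [hB.ev_apply h.ff h.bb h.fb, map_add, map_add, hx, bilin_smul_right, bilin_smul_right, h.ef hB, h.eb,
      mul_zero, add_zero, zero_add, mul_neg, mul_one, neg_ne_zero]
    exact hbx
  by_cases hax : B a x = 0
  swap
  · refine back (sEv B f a) (C.ev_mem h.mf h.ma h.ff h.aa h.fa) ?_
    rw [hB.ev_apply h.ff h.aa h.fa, map_add, map_add, hx, bilin_smul_right, bilin_smul_right, h.ef hB, h.ea,
      mul_zero, add_zero, zero_add, mul_neg, mul_one, neg_ne_zero]
    exact hax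
  have hx0 : x = 0 := by rw [h.expand x, hx, hfx, hbx, hax]; simp
  rw [hx0, show sTv B (0 : V) k = 1 from sIsoms_ext fun y => by rw [hB.tv_apply (by simp) hk]; simp]
  exact one_mem M

variable (hC : ∀ p ∈ R, B p p = 0 → p ≠ 0 → ∀ k, σ k = k → sTv B p k ∈ M → k ∈ F₀)
include hC

theorem trace_of_ev {e f a b : V} (h : RatFrame B R e f a b) {w : V} (hww : B w w = 0) (hew : B e w = 0)
    {c ν : F} (hν : σ ν = ν) (hX : sEv B w (c • e) * sTv B e ν ∈ M) {z : V} (hz : z ∈ R) (hzz : B z z = 0)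
    (hez : B e z = 0) : σ c * B z w + σ (B z w) * c ∈ F₀ := by
  have hB := C.base
  have hwe := hB.perp_symm hew
  set d := B z w
  set g := sEv B e z
  have hg : g ∈ M := C.ev_mem h.me hz h.ee hzz hez
  have hge : g.1 e = e := by
    rw [hB.ev_apply h.ee hzz hez, h.ee, hB.perp_symm hez, zero_smul, zero_smul, add_zero, add_zero]
  have hgw : g.1 w = w + d • e := by rw [hB.ev_apply h.ee hzz hez, hew, zero_smul, add_zero]
  have hk : σ (σ c * d + σ d * c) = σ c * d + σ d * c := by rw [map_add, map_mul, map_mul, hB.inv, hB.inv]; ring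
  refine hC e h.me h.ee (h.e_ne hB) _ hk ?_
  have h1 := mul_mem (mul_mem hg hX) (inv_mem hg)
  rw [show g * (sEv B w (c • e) * sTv B e ν) * g⁻¹ = (g * sEv B w (c • e) * g⁻¹) * (g * sTv B e ν * g⁻¹) by group,
    hB.ev_conj g hww (iso_smul_vec hB h.ee c) (by rw [bilin_smul_right, hwe, mul_zero]), hB.tv_conj g h.ee hν,
    map_smul, hge, hgw, ev_shift hB hww h.ee hwe] at h1
  have h2 := mul_mem (inv_mem hX) h1
  rw [show (sEv B w (c • e) * sTv B e ν)⁻¹ * (sEv B w (c • e) * sTv B e (σ c * d + σ d * c) * sTv B e ν) =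
    (sTv B e ν)⁻¹ * (sTv B e (σ c * d + σ d * c) * sTv B e ν) by group, ← hB.tv_add h.ee hk hν,
    hB.tv_neg h.ee hν, ← hB.tv_add h.ee (by rw [map_neg, hν]) (by rw [map_add, hk, hν])] at h2
  simpa [add_comm, add_left_comm] using h2

/-- an isotropic point with a root element orthogonal to a rational point is rational -/
theorem point_aux {e f a b : V} (h : RatFrame B R e f a b) {w : V} (hww : B w w = 0) (hw : sTv B w 1 ∈ M)
    (hew : B e w = 0) (hbw : B b w ≠ 0) : ∃ k : F, ∃ r ∈ R, w = k • r := by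
  have hB := C.base
  set α := B b w with hα
  have hzb : B e b = 0 := h.eb
  have hg : sEv B e b ∈ M := C.ev_mem h.me h.mb h.ee h.bb hzb
  have hgw : (sEv B e b).1 w = w + α • e := by rw [hB.ev_apply h.ee h.bb hzb, hew, zero_smul, add_zero]
  have hX := C.split_mem hww h.ee (hB.perp_symm hew) (map_one σ) hw (c := α)
    (C.mem_of_shift hww (map_one σ) hw hg hgw)
  rw [one_mul, one_mul] at hX
  have hν : σ (α * σ α) = α * σ α := by rw [map_mul, hB.inv, mul_comm]
  obtain ⟨s, hs, hst⟩ := C.exists_trace (one_mem F₀) (map_one σ)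
  have hm : α * σ α ∈ F₀ := by
    have h1 := trace_of_ev C hC h hww hew hν hX (z := σ s • b) (C.smul _ (C.sig _ hs) _ h.mb)
      (iso_smul_vec hB h.bb _) (by rw [bilin_smul_right, h.eb, mul_zero])
    rw [bilin_smul_left, hB.inv, ← hα, map_mul] at h1
    rwa [show α * σ α = σ α * (s * α) + σ s * σ α * α by linear_combination -(α * σ α) * hst]
  have hρ : σ α * B a w ∈ F₀ := C.mem_of_trace fun t ht => by
    have h1 := trace_of_ev C hC h hww hew hν hX (z := σ t • a) (C.smul _ (C.sig _ ht) _ h.ma)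
      (iso_smul_vec hB h.aa _) (by rw [bilin_smul_right, h.ea, mul_zero])
    rw [bilin_smul_left, hB.inv, map_mul] at h1
    rw [map_mul, map_mul, hB.inv]
    convert h1 using 1
    ring
  have hm0 : α * σ α ≠ 0 := mul_ne_zero hbw ((map_ne_zero σ).2 hbw)
  set ρ := σ α * B a w / (α * σ α)
  have hρm : ρ ∈ F₀ := div_mem hρ hm
  set r := a - ρ • b with hr
  have hrR : r ∈ R := sub_mem h.ma (C.smul _ hρm _ h.mb)
  set t := B f w / α
  have hwr : w = α • (r + t • e) := by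
    conv_lhs => rw [h.expand w, hew, ← hα]
    rw [hr, smul_add, smul_sub, smul_smul, smul_smul, show α * t = B f w from mul_div_cancel₀ _ hbw,
      show α * ρ = B a w by
        simp only [ρ]
        have := (map_ne_zero σ).2 hbw
        field_simp]
    module
  have her : B e r = 0 := by rw [hr, map_sub, bilin_smul_right, h.ea, h.eb, mul_zero, sub_zero]
  have hre : B r e = 0 := hB.perp_symm her
  have hsum : B (r + t • e) (r + t • e) = 0 := by
    have h' := hww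
    rw [hwr, bilin_smul_left, bilin_smul_right] at h'
    exact ((mul_eq_zero.1 h').resolve_left ((map_ne_zero σ).2 hbw) |> mul_eq_zero.1).resolve_left hbw
  have hrr : B r r = 0 := by
    simpa [map_add, bilin_smul_left, bilin_smul_right, her, hre, h.ee] using hsum
  have htr : t ∈ F₀ := by
    rw [hwr, hB.tv_smul hsum _ (map_one σ), one_mul] at hw
    have hX2 := C.split_mem hrr h.ee hre hν (C.mem r hrR hrr _ hm hν) hw
    have hmt : σ (α * σ α * t) ∈ F₀ := C.mem_of_trace fun u hu => by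
      have h1 := trace_of_ev C hC h hrr her (by rw [map_mul, hν, map_mul, hB.inv, mul_comm (σ t)]) hX2
        (z := σ u • b) (C.smul _ (C.sig _ hu) _ h.mb) (iso_smul_vec hB h.bb _)
        (by rw [bilin_smul_right, h.eb, mul_zero])
      rw [bilin_smul_left, hB.inv, show B b r = 1 by rw [hr, map_sub, bilin_smul_right, h.ba, h.bb]; ring, mul_one] at h1
      rw [map_mul σ u, hB.inv]
      convert h1 using 1
      ring
    have h2 := C.sig _ hmt
    rw [hB.inv] at h2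
    have := div_mem h2 hm
    rwa [mul_div_cancel_left₀ _ hm0] at this
  exact ⟨α, r + t • e, add_mem hrR (C.smul _ htr _ h.me), hwr⟩

theorem point_of_perp {w u : V} (hww : B w w = 0) (hw : sTv B w 1 ∈ M) (hu : u ∈ R) (huu : B u u = 0)
    (hu0 : u ≠ 0) (huw : B u w = 0) : ∃ k : F, ∃ r ∈ R, w = k • r := by
  obtain ⟨f, a, b, h⟩ := C.frame u hu huu hu0
  by_cases hb : B b w = 0
  swap
  · exact point_aux C hC h hww hw huw hb
  by_cases ha : B a w = 0
  swap
  · exact point_aux C hC (h.turn C.base) hww hw huw (by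
      rw [map_neg, LinearMap.neg_apply, neg_ne_zero]; exact ha)
  refine ⟨B f w, u, hu, ?_⟩
  conv_lhs => rw [h.expand w, hb, ha, huw]
  module

/-- an element moving a rational isotropic vector into the orthogonal of another is rational -/
theorem move_rat {g : sIsoms B} (hg : g ∈ M) {p u : V} (hp : p ∈ R) (hpp : B p p = 0) (hp0 : p ≠ 0)
    (hu : u ∈ R) (huu : B u u = 0) (hu0 : u ≠ 0) (hup : B u (g.1 p) = 0) : IsRatl R g := by
  have hB := C.base
  have tvm : ∀ {x}, x ∈ R → B x x = 0 → sTv B (g.1 x) 1 ∈ M := fun {x} hx hxx => by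
    rw [← hB.tv_conj g hxx (map_one σ)]
    exact mul_mem (mul_mem hg (C.mem x hx hxx 1 (one_mem _) (map_one σ))) (inv_mem hg)
  have step : ∀ {x y : V}, x ∈ R → B x x = 0 → x ≠ 0 → (∃ k : F, ∃ r ∈ R, g.1 x = k • r) →
      y ∈ R → B y y = 0 → B x y = 0 → ∃ k : F, ∃ r ∈ R, g.1 y = k • r := by
    rintro x y hx hxx hx0 ⟨k, r, hr, he⟩ hy hyy hxy
    have hne : g.1 x ≠ 0 := fun e => hx0 (g.1.injective (e.trans (map_zero g.1).symm))
    have hk : k ≠ 0 := fun e => hne (by rw [he, e, zero_smul])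
    have hr0 : r ≠ 0 := fun e => hne (by rw [he, e, smul_zero])
    refine point_of_perp C hC (by rw [sIsoms_map, hyy]) (tvm hy hyy) hr ?_ hr0 ?_
    · have h1 := sIsoms_map g x x
      rw [he, hxx, bilin_smul_left, bilin_smul_right] at h1
      exact ((mul_eq_zero.1 h1).resolve_left ((map_ne_zero σ).2 hk) |> mul_eq_zero.1).resolve_left hk
    · have h1 := sIsoms_map g y x
      rw [he, hxy, bilin_smul_left] at h1
      exact (mul_eq_zero.1 h1).resolve_left ((map_ne_zero σ).2 hk)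
  obtain ⟨f, a, b, h⟩ := C.frame p hp hpp hp0
  have gp := point_of_perp C hC (by rw [sIsoms_map, hpp]) (tvm hp hpp) hu huu hu0 hup
  have ga := step hp hpp hp0 gp h.ma h.aa h.ea
  have gb := step hp hpp hp0 gp h.mb h.bb h.eb
  have gf := step h.ma h.aa (h.a_ne hB) ga h.mf h.ff (h.af hB)
  have g1 := step hp hpp hp0 gp (add_mem hp h.ma)
    (by simp [map_add, hpp, h.aa, h.ea, h.ae hB]) (by simp [map_add, hpp, h.ea])
  have g2 := step hp hpp hp0 gp (add_mem hp h.mb)
    (by simp [map_add, hpp, h.bb, h.eb, h.be hB]) (by simp [map_add, hpp, h.eb])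
  have g3 := step h.ma h.aa (h.a_ne hB) ga (add_mem h.mf h.ma)
    (by simp [map_add, h.ff, h.aa, h.fa, h.af hB]) (by simp [map_add, h.aa, h.af hB])
  have ratio : ∀ {x y x' y' : V} {k l : F} {rx ry : V}, x' ∈ R → y' ∈ R → B x' x ≠ 0 → B y' y ≠ 0 →
      B x' y = 0 → B y' x = 0 → rx ∈ R → ry ∈ R → g.1 x = k • rx → g.1 y = l • ry →
      (∃ m : F, ∃ r ∈ R, g.1 (x + y) = m • r) → (∃ m : F, ∃ r ∈ R, g.1 x' = m • r) →
      (∃ m : F, ∃ r ∈ R, g.1 y' = m • r) → l / k ∈ F₀ := by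
    rintro x y x' y' k l rx ry - - hxx' hyy' hxy' hyx' hrx hry ex ey ⟨m, r, hr, er⟩ ⟨m₁, r₁, hr₁, e₁⟩ ⟨m₂, r₂, hr₂, e₂⟩
    rw [map_add, ex, ey] at er
    have t1 := sIsoms_map g x x'
    have t2 := sIsoms_map g y x'
    have t3 := sIsoms_map g y y'
    have t4 := sIsoms_map g x y'
    rw [e₁, ex, bilin_smul_left, bilin_smul_right] at t1
    rw [e₁, ey, bilin_smul_left, bilin_smul_right, hxy'] at t2
    rw [e₂, ey, bilin_smul_left, bilin_smul_right] at t3
    rw [e₂, ex, bilin_smul_left, bilin_smul_right, hyx'] at t4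
    have hm₁ : σ m₁ ≠ 0 := fun e => hxx' (by rw [← t1, e, zero_mul])
    have hm₂ : σ m₂ ≠ 0 := fun e => hyy' (by rw [← t3, e, zero_mul])
    have a1 := congrArg (B r₁) er
    have a2 := congrArg (B r₂) er
    rw [map_add, bilin_smul_right, bilin_smul_right, bilin_smul_right,
      (mul_eq_zero.1 t2).resolve_left hm₁, add_zero] at a1
    rw [map_add, bilin_smul_right, bilin_smul_right, bilin_smul_right,
      (mul_eq_zero.1 t4).resolve_left hm₂, zero_add] at a2
    have hk : k ≠ 0 := fun e => hxx' (by rw [← t1, e]; ring)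
    have hm : m ≠ 0 := fun e => hxx' (by rw [← t1, a1, e]; ring)
    have n2 : B r₂ ry ≠ 0 := fun e => hyy' (by rw [← t3, e]; ring)
    have n1 : B r₁ r ≠ 0 := fun e => hxx' (by rw [← t1, a1, e]; ring)
    rw [show l / k = B r₁ rx / B r₂ ry * (B r₂ r / B r₁ r) by
      have n3 : B r₁ rx ≠ 0 := fun e => hxx' (by rw [← t1, e]; ring)
      rw [div_mul_div_comm, div_eq_div_iff hk (mul_ne_zero n2 n1)]
      linear_combination B r₁ r * a2 - B r₂ r * a1]
    exact mul_mem (div_mem (C.rat _ hr₁ _ hrx) (C.rat _ hr₂ _ hry)) (div_mem (C.rat _ hr₂ _ hr) (C.rat _ hr₁ _ hr))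
  obtain ⟨k₁, r₁, hr₁, e₁⟩ := gp
  obtain ⟨k₂, r₂, hr₂, e₂⟩ := ga
  obtain ⟨k₃, r₃, hr₃, e₃⟩ := gb
  obtain ⟨k₄, r₄, hr₄, e₄⟩ := gf
  have nef : B p f ≠ 0 := by rw [h.ef hB]; exact neg_ne_zero.2 one_ne_zero
  have nfe : B f p ≠ 0 := by rw [h.fe]; exact one_ne_zero
  have nab : B a b ≠ 0 := by rw [h.ab hB]; exact neg_ne_zero.2 one_ne_zero
  have nba : B b a ≠ 0 := by rw [h.ba]; exact one_ne_zero
  have q2 := ratio h.mf h.mb nfe nba h.fa (h.be hB) hr₁ hr₂ e₁ e₂ g1 ⟨k₄, r₄, hr₄, e₄⟩ ⟨k₃, r₃, hr₃, e₃⟩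
  have q3 := ratio h.mf h.ma nfe nab h.fb (h.ae hB) hr₁ hr₃ e₁ e₃ g2 ⟨k₄, r₄, hr₄, e₄⟩ ⟨k₂, r₂, hr₂, e₂⟩
  have q4 := ratio hp h.mb nef nba h.ea (h.bf hB) hr₄ hr₂ e₄ e₂ g3 ⟨k₁, r₁, hr₁, e₁⟩ ⟨k₃, r₃, hr₃, e₃⟩
  have hk₁ : k₁ ≠ 0 := fun e => hp0 (g.1.injective (by rw [e₁, e, zero_smul, map_zero]))
  have hk₂ : k₂ ≠ 0 := fun e => h.a_ne hB (g.1.injective (by rw [e₂, e, zero_smul, map_zero]))
  have hk₄ : k₄ ≠ 0 := fun e => h.f_ne hB (g.1.injective (by rw [e₄, e, zero_smul, map_zero]))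
  have q4' : k₄ / k₁ ∈ F₀ := by
    rw [show k₄ / k₁ = k₂ / k₁ / (k₂ / k₄) by field_simp]
    exact div_mem q2 q4
  refine ⟨k₁⁻¹, inv_ne_zero hk₁, fun x hx => ?_⟩
  have sc : ∀ {k : F} {r : V}, r ∈ R → k / k₁ ∈ F₀ → k₁⁻¹ • k • r ∈ R := fun {k r} hr hk => by
    rw [smul_smul, mul_comm, ← div_eq_mul_inv]; exact C.smul _ hk _ hr
  rw [h.expand x]
  simp only [map_add, map_sub, map_smul, smul_add, smul_sub, smul_comm k₁⁻¹ (B f x), smul_comm k₁⁻¹ (B p x),
    smul_comm k₁⁻¹ (B b x), smul_comm k₁⁻¹ (B a x), e₁, e₂, e₃, e₄]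
  refine sub_mem (add_mem (sub_mem ?_ ?_) ?_) ?_
  · exact C.smul _ (C.rat _ h.mf _ hx) _ (sc hr₁ (by rw [div_self hk₁]; exact one_mem _))
  · exact C.smul _ (C.rat _ hp _ hx) _ (sc hr₄ q4')
  · exact C.smul _ (C.rat _ h.mb _ hx) _ (sc hr₂ q2)
  · exact C.smul _ (C.rat _ h.ma _ hx) _ (sc hr₃ q3)

end RatCtx

end CfsgLib.MaxSub.SuFour
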