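import Cfsg.Agent.Lib.MaxSub.SuFour.RatFour
import Cfsg.Agent.Lib.Geom.FiniteField

/-!
Proper overgroups of rational root elements in dimension four consist of rational elements.
-/

set_option autoImplicit false
set_option linter.unusedSectionVars false
set_option linter.style.haveILetI false

namespace CfsgLib.MaxSub.SuFour

variable {F V : Type*} [Field F] {σ : F →+* F} [AddCommGroup V] [Module F V]
  {B : V →ₛₗ[σ] V →ₗ[F] F}

/-- two root elements on a hyperbolic line generate the negation of the line in odd characteristic -/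
theorem exists_neg_line [Finite F] [FiniteDimensional F V] (hB : IsSkew B) (h2 : (2 : F) ≠ 0) {u w : V}
    (huu : B u u = 0) (hww : B w w = 0) (huw : B u w ≠ 0) {M : Subgroup (sIsoms B)}
    (hu : sTv B u 1 ∈ M) (hw : sTv B w 1 ∈ M) :
    ∃ j ∈ M, j.1 u = -u ∧ ∀ x, ∃ p q : F, j.1 x = x + p • u + q • w := by
  classical
  haveI : Finite V := Module.finite_of_finite F
  haveI : Finite (V ≃ₗ[F] V) := Finite.of_injective _ DFunLike.coe_injective
  haveI : Fintype F := Fintype.ofFinite F
  haveI := ringChar.charP F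
  set ch := ringChar F
  haveI : Fact ch.Prime := ⟨CharP.char_is_prime F _⟩
  have hch : ch ≠ 2 := fun e => h2 (by
    have := CharP.cast_eq_zero F ch
    rw [e] at this
    exact_mod_cast this)
  have hwu : B w u ≠ 0 := fun e => huw (hB.perp_symm e)
  obtain ⟨A', hA'⟩ : ∃ A' : Module.End F V, ∀ x, A' x = B u x • u := ⟨(B u).smulRight u, fun x => rfl⟩
  obtain ⟨B', hB'⟩ : ∃ B' : Module.End F V, ∀ x, B' x = B w x • w := ⟨(B w).smulRight w, fun x => rfl⟩
  have P : TForm.SqPair A' B' :=
    ⟨LinearMap.ext fun x => by simp [Module.End.mul_apply, hA', huu],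
     LinearMap.ext fun x => by simp [Module.End.mul_apply, hB', hww]⟩
  set t := (sTv B u 1).1
  set t' := (sTv B w 1).1
  have ht : ∀ x, t x = x + A' x := fun x => by rw [hA', hB.tv_apply huu (map_one σ), one_mul]
  have ht' : ∀ x, t' x = x + B' x := fun x => by rw [hB', hB.tv_apply hww (map_one σ), one_mul]
  let Q : (V ≃ₗ[F] V) → Prop := fun g => ∃ p q r s : F, p * s - q * r = 1 ∧ g u = p • u + q • w ∧
    g w = r • u + s • w ∧ ∀ x, B u x = 0 → B w x = 0 → g x = x
  have hQ : ∀ g ∈ Subgroup.closure ({t, t'} : Set (V ≃ₗ[F] V)), Q g := by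
    intro g hg
    rw [← Subgroup.mem_toSubmonoid, Subgroup.closure_toSubmonoid_of_finite] at hg
    induction hg using Submonoid.closure_induction with
    | mem s hs =>
        rcases hs with rfl | rfl
        · refine ⟨1, 0, B u w, 1, by ring, ?_, ?_, fun x hx _ => ?_⟩
          · rw [ht, hA', huu]; module
          · rw [ht, hA']; module
          · rw [ht, hA', hx, zero_smul, add_zero]
        · refine ⟨1, B w u, 0, 1, by ring, ?_, ?_, fun x _ hx => ?_⟩
          · rw [ht', hB']; module
          · rw [ht', hB', hww]; module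
          · rw [ht', hB', hx, zero_smul, add_zero]
    | one => exact ⟨1, 0, 0, 1, by ring, by simp, by simp, fun x _ _ => rfl⟩
    | mul g h _ _ hg hh =>
        obtain ⟨p, q, r, s, hd, hgu, hgw, hgx⟩ := hg
        obtain ⟨p', q', r', s', hd', hhu, hhw, hhx⟩ := hh
        refine ⟨p' * p + q' * r, p' * q + q' * s, r' * p + s' * r, r' * q + s' * s, ?_, ?_, ?_, fun x h1 h3 => ?_⟩
        · linear_combination (p * s - q * r) * hd' + hd
        · rw [LinearEquiv.mul_apply, hhu, map_add, map_smul, map_smul, hgu, hgw]; module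
        · rw [LinearEquiv.mul_apply, hhw, map_add, map_smul, map_smul, hgu, hgw]; module
        · rw [LinearEquiv.mul_apply, hhx x h1 h3, hgx x h1 h3]
  have hG : ¬ IsPGroup ch (Subgroup.closure ({t, t'} : Set (V ≃ₗ[F] V))) := by
    intro hp
    obtain ⟨k, hk⟩ := hp ⟨t * t', mul_mem (Subgroup.subset_closure (by simp)) (Subgroup.subset_closure (by simp))⟩
    have hk' : (t * t') ^ ch ^ k = 1 := congrArg Subtype.val hk
    set G : Module.End F V := ((t * t' : V ≃ₗ[F] V) : V →ₗ[F] V) with hGdef
    have hpow : ∀ m, G ^ m = (((t * t') ^ m : V ≃ₗ[F] V) : V →ₗ[F] V) := by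
      intro m
      induction m with
      | zero => rfl
      | succ m ih => rw [pow_succ, pow_succ, ih]; rfl
    haveI : Nontrivial V := ⟨u, 0, fun e => huw (by rw [e, map_zero, LinearMap.zero_apply])⟩
    haveI : CharP (Module.End F V) ch := charP_of_injective_algebraMap (algebraMap F (Module.End F V)).injective ch
    have hz : (G - 1) ^ ch ^ k = 0 := by
      rw [sub_pow_char_pow_of_commute _ _ (Commute.one_right _), one_pow, hpow, hk', sub_eq_zero]
      rfl
    obtain ⟨N, hNdef⟩ : ∃ N : Module.End F V, N = G - 1 := ⟨_, rfl⟩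
    rw [← hNdef] at hz
    have hN : ∀ i, (N ^ i) u ∈ Submodule.span F {u, w} := by
      intro i
      induction i with
      | zero => exact Submodule.subset_span (by simp)
      | succ i ih =>
          rw [pow_succ', Module.End.mul_apply]
          set y := (N ^ i) u
          rw [hNdef]
          show t (t' y) - y ∈ _
          rw [ht, ht', hA', hB', show y + B w y • w + B u (y + B w y • w) • u - y =
            B u (y + B w y • w) • u + B w y • w by abel]
          exact Submodule.mem_span_pair.2 ⟨_, _, rfl⟩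
    have hex : ∃ i, (N ^ i) u = 0 := ⟨ch ^ k, by rw [hz]; rfl⟩
    have hi0 : Nat.find hex ≠ 0 := fun h0 => by
      have := Nat.find_spec hex
      rw [h0] at this
      exact huw (by rw [show u = 0 from this, map_zero, LinearMap.zero_apply])
    obtain ⟨i, hi⟩ := Nat.exists_eq_succ_of_ne_zero hi0
    have hi1 : (N ^ i) u ≠ 0 := Nat.find_min hex (by omega)
    have hi2 : N ((N ^ i) u) = 0 := by
      have := Nat.find_spec hex
      rwa [hi, pow_succ', Module.End.mul_apply] at this
    obtain ⟨p, q, hpq⟩ := Submodule.mem_span_pair.1 (hN i)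
    set x := (N ^ i) u
    have hfix : t (t' x) = x := sub_eq_zero.1 (hNdef ▸ hi2 : (G - 1) x = 0)
    rw [ht, ht', hA', hB', map_add, bilin_smul_right, add_assoc, add_eq_left] at hfix
    have e1 := congrArg (B u) hfix
    simp only [map_add, bilin_smul_right, huu, map_zero, mul_zero, add_zero] at e1
    have hwx : B w x = 0 := (mul_eq_zero.1 e1).resolve_right huw
    have e2 := congrArg (B w) hfix
    rw [hwx] at e2
    simp only [map_add, bilin_smul_right, zero_mul, add_zero, zero_add, map_zero, zero_smul] at e2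
    have hux : B u x = 0 := (mul_eq_zero.1 e2).resolve_right hwu
    rw [← hpq] at hwx hux
    simp only [map_add, bilin_smul_right, hww, huu, mul_zero, add_zero, zero_add, mul_eq_zero, huw, hwu,
      or_false] at hwx hux
    exact hi1 (by rw [← hpq, hwx, hux]; simp)
  obtain ⟨⟨j, hjG⟩, hj⟩ := exists_prime_orderOf_dvd_card' 2 (P.two_dvd_card hch ht ht' hG)
  have hj2 : j * j = 1 := by
    have h1 := pow_orderOf_eq_one (⟨j, hjG⟩ : Subgroup.closure ({t, t'} : Set (V ≃ₗ[F] V)))
    rw [hj, sq] at h1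
    exact congrArg Subtype.val h1
  have hj1 : j ≠ 1 := fun e => by
    have : (⟨j, hjG⟩ : Subgroup.closure ({t, t'} : Set (V ≃ₗ[F] V))) = 1 := Subtype.ext e
    rw [this, orderOf_one] at hj
    exact absurd hj (by norm_num)
  obtain ⟨p, q, r, s, hd, hju, hjw, hjx⟩ := hQ j hjG
  have hind : ∀ a b : F, a • u + b • w = 0 → a = 0 ∧ b = 0 := fun a b h => by
    have e1 := congrArg (B u) h
    have e2 := congrArg (B w) h
    simp only [map_add, bilin_smul_right, huu, hww, map_zero, mul_zero, add_zero, zero_add] at e1 e2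
    exact ⟨(mul_eq_zero.1 e2).resolve_right hwu, (mul_eq_zero.1 e1).resolve_right huw⟩
  have hjj : ∀ x, j (j x) = x := fun x => LinearEquiv.congr_fun hj2 x
  obtain ⟨e1, e2⟩ := hind (p * p + q * r - 1) (p * q + q * s) (by
    have := hjj u
    rw [hju, map_add, map_smul, map_smul, hju, hjw] at this
    linear_combination (norm := module) this)
  obtain ⟨e3, e4⟩ := hind (r * p + s * r) (r * q + s * s - 1) (by
    have := hjj w
    rw [hjw, map_add, map_smul, map_smul, hju, hjw] at this
    linear_combination (norm := module) this)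
  have hsplit : ∀ x, ∃ x₀, B u x₀ = 0 ∧ B w x₀ = 0 ∧ x = (B w x / B w u) • u + (B u x / B u w) • w + x₀ := fun x =>
    ⟨x - (B w x / B w u) • u - (B u x / B u w) • w, by
      simp only [map_sub, bilin_smul_right, huu, mul_zero, sub_zero, div_mul_cancel₀ _ huw, sub_self], by
      simp only [map_sub, bilin_smul_right, hww, mul_zero, sub_zero, div_mul_cancel₀ _ hwu, sub_self],
      by abel⟩
  have hps : p + s ≠ 0 := fun h => h2 (by linear_combination -hd - e1 + p * h)
  have hq : q = 0 := (mul_eq_zero.1 (show q * (p + s) = 0 by linear_combination e2)).resolve_right hps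
  have hr : r = 0 := (mul_eq_zero.1 (show r * (p + s) = 0 by linear_combination e3)).resolve_right hps
  subst hq; subst hr
  have hpp : p = 1 ∨ p = -1 := mul_self_eq_one_iff.1 (by linear_combination e1)
  have hsp : s = p := by
    have : p * (s - p) = 0 := by linear_combination hd - e1
    rcases hpp with rfl | rfl
    · linear_combination this
    · linear_combination -this
  rcases hpp with rfl | rfl
  · exfalso
    refine hj1 (LinearEquiv.ext fun x => ?_)
    obtain ⟨x₀, h1, h3, hx⟩ := hsplit x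
    rw [hx, map_add, map_add, map_smul, map_smul, hju, hjw, hjx x₀ h1 h3, hsp]
    show _ = (B w x / B w u) • u + (B u x / B u w) • w + x₀
    module
  have hle : Subgroup.closure ({t, t'} : Set (V ≃ₗ[F] V)) ≤ M.map (sIsoms B).subtype := by
    rw [Subgroup.closure_le]
    rintro _ (rfl | rfl)
    · exact ⟨_, hu, rfl⟩
    · exact ⟨_, hw, rfl⟩
  obtain ⟨j', hj'M, hj'⟩ := hle hjG
  refine ⟨j', hj'M, ?_, fun x => ?_⟩
  · rw [show j'.1 = j from hj', hju]; module
  · obtain ⟨x₀, h1, h3, hx⟩ := hsplit x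
    refine ⟨-2 * (B w x / B w u), -2 * (B u x / B u w), ?_⟩
    rw [show j'.1 = j from hj']
    conv_lhs => rw [hx, map_add, map_add, map_smul, map_smul, hju, hjw, hjx x₀ h1 h3, hsp]
    conv_rhs => arg 1; arg 1; rw [hx]
    module

namespace RatCtx

variable [Finite F] [FiniteDimensional F V] {F₀ : Subfield F} {R : AddSubgroup V} {M : Subgroup (sIsoms B)}
  (C : RatCtx B F₀ R M)
include C

theorem sqrt_mem (h2 : (2 : F) = 0) {c : F} (h : c * c ∈ F₀) : c ∈ F₀ := by
  obtain ⟨d, hd⟩ := CfsgLib.Geom.isSquare_of_two_eq_zero (F := F₀)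
    (Subtype.ext (show ((2 : F₀) : F) = 0 from h2)) ⟨_, h⟩
  have hd' : c * c = (d : F) * d := congrArg Subtype.val hd
  have h3 : (c - d) * (c - d) = 0 := by
    linear_combination hd' + ((d : F) * d - c * d) * h2
  rw [sub_eq_zero.1 (mul_self_eq_zero.1 h3)]
  exact d.2

theorem even_rational (hC : ∀ p ∈ R, B p p = 0 → p ≠ 0 → ∀ k, σ k = k → sTv B p k ∈ M → k ∈ F₀)
    (h2 : (2 : F) = 0) {g : sIsoms B} (hg : g ∈ M) : IsRatl R g := by
  have hB := C.base
  obtain ⟨e, f, a, b, h⟩ := C.start
  haveI : Finite V := Module.finite_of_finite F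
  haveI : Finite (V ≃ₗ[F] V) := Finite.of_injective _ DFunLike.coe_injective
  haveI : Finite (sIsoms B) := inferInstance
  have hone : (1 : F) + 1 = 0 := one_add_one_eq_two.trans h2
  obtain ⟨w, hw⟩ : ∃ w, w = g.1 e := ⟨_, rfl⟩
  by_cases hew : B e w = 0
  · exact move_rat C hC hg h.me h.ee (h.e_ne hB) h.me h.ee (h.e_ne hB) (hw ▸ hew)
  have hwe : B w e ≠ 0 := fun e' => hew (hB.perp_symm e')
  have hww : B w w = 0 := by rw [hw, sIsoms_map, h.ee]
  have hwM : sTv B w 1 ∈ M := by
    rw [hw, ← hB.tv_conj g h.ee (map_one σ)]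
    exact mul_mem (mul_mem hg (C.mem e h.me h.ee 1 (one_mem _) (map_one σ))) (inv_mem hg)
  set s := sTv B e 1 * sTv B a 1 with hs
  have hsx : ∀ x, s.1 x = x + B a x • a + B e x • e := fun x => by
    rw [hs, Subgroup.coe_mul, LinearEquiv.mul_apply, hB.tv_apply h.aa (map_one σ), hB.tv_apply h.ee (map_one σ),
      map_add, bilin_smul_right, h.ea]
    simp
  have hsM : s ∈ M := mul_mem (C.mem e h.me h.ee 1 (one_mem _) (map_one σ))
    (C.mem a h.ma h.aa 1 (one_mem _) (map_one σ))
  have hs2 : s * s = 1 := sIsoms_ext fun x => by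
    show s.1 (s.1 x) = x
    rw [hsx, hsx]
    simp only [map_add, bilin_smul_right, h.ee, h.aa, h.ea, h.ae hB, mul_zero, add_zero]
    linear_combination (norm := module) (congrArg (fun c : F => c • (B a x • a + B e x • e)) h2)
  set t := sTv B w 1 with ht
  have htx : ∀ x, t.1 x = x + B w x • w := fun x => by rw [ht, hB.tv_apply hww (map_one σ), one_mul]
  have ht2 : t * t = 1 := by
    rw [ht, ← hB.tv_add hww (map_one σ) (map_one σ), hone, hB.tv_zero hww]
  have hst : ¬ IsConj s t := by
    intro hc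
    obtain ⟨k, hk⟩ := isConj_iff.1 hc
    have key : ∀ x, k.1 (B a x • a + B e x • e) = B w (k.1 x) • w := fun x => by
      have h1 : (k * s).1 x = (t * k).1 x := by
        rw [show k * s = t * k by rw [← hk]; group]
      simp only [Subgroup.coe_mul, LinearEquiv.mul_apply, hsx, htx, add_assoc, map_add k.1] at h1
      rw [map_add]
      exact add_left_cancel h1
    have k1 := key f
    have k2 := key b
    rw [h.af hB, h.ef hB] at k1
    rw [h.ab hB, h.eb] at k2
    simp only [zero_smul, zero_add, add_zero, neg_smul, one_smul, map_neg] at k1 k2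
    have hc0 : B w (k.1 f) ≠ 0 := fun e' => by
      rw [e', zero_smul, neg_eq_zero] at k1
      exact h.e_ne hB (k.1.injective (k1.trans (map_zero k.1).symm))
    have : a = (B w (k.1 b) / B w (k.1 f)) • e := k.1.injective (by
      rw [map_smul, show k.1 e = -(B w (k.1 f) • w) by rw [← k1, neg_neg],
        show k.1 a = -(B w (k.1 b) • w) by rw [← k2, neg_neg], smul_neg, smul_smul,
        div_mul_cancel₀ _ hc0])
    have h1 := h.ba
    rw [this, bilin_smul_right, h.be hB, mul_zero] at h1
    exact zero_ne_one h1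
  obtain ⟨j, hjz, hj1, hj2, hjs, hjt, -⟩ := exists_commuting_involution s t hs2 ht2 hst
  have hjM : j ∈ M := (Subgroup.zpowers_le.2 (mul_mem hsM hwM)) hjz
  obtain ⟨c, hc, hcR⟩ := move_rat C hC hjM h.me h.ee (h.e_ne hB) h.me h.ee (h.e_ne hB) (by
    have h1 : (j * s).1 f = (s * j).1 f := by rw [hjs.eq]
    simp only [Subgroup.coe_mul, LinearEquiv.mul_apply, hsx, h.af hB, h.ef hB, zero_smul, add_zero,
      neg_smul, one_smul, map_add, map_neg] at h1
    have h3 := congrArg (B e) h1
    simp only [map_add, map_neg, bilin_smul_right, h.ea, h.ee, mul_zero, add_zero] at h3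
    exact neg_eq_zero.1 (add_eq_left.1 h3))
  have hjj : ∀ x, j.1 (j.1 x) = x := fun x => congrArg (fun k : sIsoms B => k.1 x) hj2
  have hcm : c ∈ F₀ := sqrt_mem C h2 (by
    have h1 := hcR _ (hcR e h.me)
    rw [map_smul, hjj, smul_smul] at h1
    have h3 := C.rat f h.mf _ h1
    rwa [bilin_smul_right, h.fe, mul_one] at h3)
  have hjR : ∀ x ∈ R, j.1 x ∈ R := fun x hx => by
    have := C.smul c⁻¹ (inv_mem hcm) _ (hcR x hx)
    rwa [inv_smul_smul₀ hc] at this
  obtain ⟨x, hx, hxj⟩ : ∃ x ∈ R, j.1 x ≠ x := by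
    by_contra hno
    push Not at hno
    refine hj1 (sIsoms_ext fun y => ?_)
    show j.1 y = y
    conv_lhs => rw [h.expand y]
    simp only [map_add, map_sub, map_smul, hno _ h.me, hno _ h.mf, hno _ h.ma, hno _ h.mb]
    exact (h.expand y).symm
  have hsym : B (j.1 x) x = B x (j.1 x) := by
    conv_lhs => rw [← sIsoms_map j, hjj]
  have hjw : j.1 w = w := by
    have h1 : sTv B (j.1 w) 1 = t := by
      rw [← hB.tv_conj j hww (map_one σ), ← ht, hjt.eq]
      group
    have h3 := congrArg (fun k : sIsoms B => k.1 e) h1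
    simp only [hB.tv_apply (show B (j.1 w) (j.1 w) = 0 by rw [sIsoms_map, hww]) (map_one σ), htx, one_mul,
      add_right_inj] at h3
    obtain ⟨μ, hμ⟩ : ∃ μ, w = μ • j.1 w :=
      ⟨B (j.1 w) e / B w e, by rw [div_eq_inv_mul, mul_smul, h3, inv_smul_smul₀ hwe]⟩
    have h4 := congrArg j.1 hμ
    rw [map_smul, hjj] at h4
    have hjw0 : j.1 w ≠ 0 := fun e' => by
      rw [e', smul_zero] at hμ
      exact hwe (by rw [hμ]; simp)
    have hμμ : μ * μ = 1 := by
      refine smul_left_injective F hjw0 ?_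
      show (μ * μ) • j.1 w = (1 : F) • j.1 w
      rw [one_smul, ← smul_smul, ← hμ, ← h4]
    have hμ1 : μ = 1 := sub_eq_zero.1 (mul_self_eq_zero.1 (show (μ - 1) * (μ - 1) = 0 by
      linear_combination hμμ + (1 - μ) * h2))
    rw [hμ1, one_smul] at hμ
    exact hμ.symm
  refine move_rat C hC hg h.me h.ee (h.e_ne hB) (sub_mem (hjR x hx) hx) ?_ (sub_ne_zero.2 hxj) ?_
  · simp only [map_sub, LinearMap.sub_apply, sIsoms_map, hsym]
    linear_combination (B x x - B x (j.1 x)) * h2
  · rw [← hw, map_sub, LinearMap.sub_apply]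
    conv_lhs => arg 1; rw [← hjw, sIsoms_map]
    exact sub_self _

theorem odd_rational (hC : ∀ p ∈ R, B p p = 0 → p ≠ 0 → ∀ k, σ k = k → sTv B p k ∈ M → k ∈ F₀)
    (h2 : (2 : F) ≠ 0) {g : sIsoms B} (hg : g ∈ M) : IsRatl R g := by
  have hB := C.base
  obtain ⟨e, f, a, b, h⟩ := C.start
  obtain ⟨w, hw⟩ : ∃ w, w = g.1 e := ⟨_, rfl⟩
  by_cases hew : B e w = 0
  · exact move_rat C hC hg h.me h.ee (h.e_ne hB) h.me h.ee (h.e_ne hB) (hw ▸ hew)
  have hwe : B w e ≠ 0 := fun e' => hew (hB.perp_symm e')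
  have hww : B w w = 0 := by rw [hw, sIsoms_map, h.ee]
  have hwM : sTv B w 1 ∈ M := by
    rw [hw, ← hB.tv_conj g h.ee (map_one σ)]
    exact mul_mem (mul_mem hg (C.mem e h.me h.ee 1 (one_mem _) (map_one σ))) (inv_mem hg)
  obtain ⟨j, hjM, hje, hjx⟩ := exists_neg_line hB h2 h.ee hww hew
    (C.mem e h.me h.ee 1 (one_mem _) (map_one σ)) hwM
  obtain ⟨c, hc, hcR⟩ := move_rat C hC hjM h.me h.ee (h.e_ne hB) h.me h.ee (h.e_ne hB)
    (by rw [hje, map_neg, h.ee, neg_zero])
  have hcm : c ∈ F₀ := by
    have h1 := C.rat f h.mf _ (hcR e h.me)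
    rw [hje, bilin_smul_right, map_neg, h.fe, mul_neg, mul_one] at h1
    simpa using neg_mem h1
  have hjf : j.1 f ∈ R := by
    have := C.smul c⁻¹ (inv_mem hcm) _ (hcR f h.mf)
    rwa [inv_smul_smul₀ hc] at this
  set d := j.1 f - f with hd
  have hdR : d ∈ R := sub_mem hjf h.mf
  have hde : B d e = -2 := by
    have h1 := sIsoms_map j e f
    rw [hje, map_neg, h.fe] at h1
    rw [hd, map_sub, LinearMap.sub_apply, h.fe]
    linear_combination -h1
  obtain ⟨p, q, hpq⟩ := hjx f
  have hd' : d = p • e + q • w := by rw [hd, hpq]; abel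
  have hde0 : B d e ≠ 0 := by rw [hde]; exact neg_ne_zero.2 h2
  have hq : q ≠ 0 := fun e' => hde0 (by rw [hd', e']; simp [bilin_smul_left, h.ee])
  set u := a + (-(B d a) / B d e) • e with hu
  have hτ : -(B d a) / B d e ∈ F₀ := div_mem (neg_mem (C.rat d hdR a h.ma)) (C.rat d hdR e h.me)
  have hdu : B d u = 0 := by
    rw [hu, map_add, bilin_smul_right, div_mul_cancel₀ _ hde0, add_neg_cancel]
  have heu : B e u = 0 := by rw [hu, map_add, bilin_smul_right, h.ea, h.ee, mul_zero, add_zero]
  have hwu : B w u = 0 := by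
    have h1 : B d u = σ p * B e u + σ q * B w u := by
      conv_lhs => arg 1; arg 2; rw [hd']
      rw [map_add B, LinearMap.add_apply, bilin_smul_left, bilin_smul_left]
    rw [hdu, heu, mul_zero, zero_add] at h1
    exact (mul_eq_zero.1 h1.symm).resolve_left ((map_ne_zero σ).2 hq)
  refine move_rat C hC hg h.me h.ee (h.e_ne hB) (add_mem h.ma (C.smul _ hτ _ h.me)) ?_ ?_
    (hw ▸ hB.perp_symm hwu)
  · simp [map_add, bilin_smul_left, bilin_smul_right, h.aa, h.ee, h.ea, h.ae hB]
  · intro e'
    have h1 := congrArg (B b) e'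
    rw [map_add, bilin_smul_right, h.ba, h.be hB, mul_zero, add_zero, map_zero] at h1
    exact one_ne_zero h1

/-- every element of a proper overgroup is rational -/
theorem rational (hproper : ¬ ∀ x k, B x x = 0 → σ k = k → sTv B x k ∈ M) {g : sIsoms B} (hg : g ∈ M) :
    IsRatl R g := by
  have hC : ∀ p ∈ R, B p p = 0 → p ≠ 0 → ∀ k, σ k = k → sTv B p k ∈ M → k ∈ F₀ := by
    intro p hp hpp hp0 k hk hkM
    by_contra hk0
    obtain ⟨f, a, b, h⟩ := C.frame p hp hpp hp0
    exact hproper (full_of_big C h hk hk0 hkM)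
  by_cases h2 : (2 : F) = 0
  · exact C.even_rational hC h2 hg
  · exact C.odd_rational hC h2 hg

end RatCtx

end CfsgLib.MaxSub.SuFour
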