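import Cfsg.Agent.Lib.MaxSub.SuFour.Tools
import Cfsg.Agent.Lib.MaxSub.UnitFour

/-!
Two-root shear groups of isotropic lines in a four-dimensional unitary space.
-/

set_option autoImplicit false
set_option linter.unusedSectionVars false

namespace CfsgLib.MaxSub.SuFour

open Matrix CfsgLib.MaxSub
open scoped MatrixGroups

variable {F : Type*} [Field F] [Fintype F] {q : ℕ} (hF : Fintype.card F = q ^ 2)

/-- all shears with centres `a`, `b` lie in `M` -/
def Shear (ζ : F) (M : Subgroup (GL (Fin 4) F)) (a b : Fin 4 → F) : Prop :=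
  ∀ lam : F, ∃ u ∈ M, ∀ x, (u : Matrix (Fin 4) (Fin 4) F) *ᵥ x =
    x + (ζ * lam * Cfsg.hermForm 4 F q x b) • a + (ζ * qConj hF lam * Cfsg.hermForm 4 F q x a) • b

/-- two commuting transvections at `a`, `b` lie in `M` -/
def Diag (q : ℕ) (ζ : F) (M : Subgroup (GL (Fin 4) F)) (a : Fin 4 → F) (α : F) (b : Fin 4 → F) (β : F) : Prop :=
  ∃ u ∈ M, ∀ x, (u : Matrix (Fin 4) (Fin 4) F) *ᵥ x =
    x + (ζ * α * Cfsg.hermForm 4 F q x a) • a + (ζ * β * Cfsg.hermForm 4 F q x b) • b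

variable {M : Subgroup (GL (Fin 4) F)} {ζ : F}

/-- a member acting as a transvection -/
theorem hasTv_of_map (hF : Fintype.card F = q ^ 2) {v : Fin 4 → F}
    (hv : Cfsg.hermForm 4 F q v v = 0) {c : F} {g : GL (Fin 4) F} (hg : g ∈ M)
    (hgx : ∀ x, (g : Matrix (Fin 4) (Fin 4) F) *ᵥ x = x + (c * Cfsg.hermForm 4 F q x v) • v) :
    HasTv M v (c • hDual (Cfsg.hermForm 4 F q) v) := by
  have hf := isUnitaryForm_hermForm hF 4
  refine ⟨by rw [smul_dotProduct, hDual_dot hf, hv, smul_zero], g, hg,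
    Matrix.toLin'.injective (LinearMap.ext fun x => ?_)⟩
  rw [Matrix.toLin'_apply, Matrix.toLin'_apply, hgx, uTv_mulVec hf]

include hF in
theorem inv_iso {g : GL (Fin 4) F}
    (hiso : ∀ x y, Cfsg.hermForm 4 F q ((g : Matrix (Fin 4) (Fin 4) F) *ᵥ x) ((g : Matrix (Fin 4) (Fin 4) F) *ᵥ y) =
      Cfsg.hermForm 4 F q x y) (x b : Fin 4 → F) :
    Cfsg.hermForm 4 F q (((g⁻¹ : GL (Fin 4) F) : Matrix (Fin 4) (Fin 4) F) *ᵥ x) b =
      Cfsg.hermForm 4 F q x ((g : Matrix (Fin 4) (Fin 4) F) *ᵥ b) := by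
  rw [← hiso, mulVec_mulVec, ← Units.val_mul, mul_inv_cancel, Units.val_one, one_mulVec]

theorem Shear.symm {a b : Fin 4 → F} (h : Shear hF ζ M a b) : Shear hF ζ M b a := fun lam => by
  obtain ⟨u, hu, hux⟩ := h (qConj hF lam)
  exact ⟨u, hu, fun x => by rw [hux, qConj_qConj]; abel⟩

theorem Shear.smul {a b : Fin 4 → F} (h : Shear hF ζ M a b) (r : F) : Shear hF ζ M (r • a) b := fun lam => by
  obtain ⟨u, hu, hux⟩ := h (lam * r)
  refine ⟨u, hu, fun x => ?_⟩
  rw [hux, herm_smul_right (isUnitaryForm_hermForm hF 4), map_mul, smul_smul]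
  module

theorem Shear.conj {a b : Fin 4 → F} (h : Shear hF ζ M a b) {g : GL (Fin 4) F} (hg : g ∈ M)
    (hiso : ∀ x y, Cfsg.hermForm 4 F q ((g : Matrix (Fin 4) (Fin 4) F) *ᵥ x) ((g : Matrix (Fin 4) (Fin 4) F) *ᵥ y) =
      Cfsg.hermForm 4 F q x y) :
    Shear hF ζ M ((g : Matrix (Fin 4) (Fin 4) F) *ᵥ a) ((g : Matrix (Fin 4) (Fin 4) F) *ᵥ b) := fun lam => by
  obtain ⟨u, hu, hux⟩ := h lam
  refine ⟨g * u * g⁻¹, M.mul_mem (M.mul_mem hg hu) (M.inv_mem hg), fun x => ?_⟩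
  rw [Units.val_mul, Units.val_mul, ← mulVec_mulVec, ← mulVec_mulVec, hux, mulVec_add, mulVec_add, mulVec_smul,
    mulVec_smul, mulVec_mulVec, ← Units.val_mul, mul_inv_cancel, Units.val_one, one_mulVec, inv_iso hF hiso,
    inv_iso hF hiso]

theorem Diag.conj (hF : Fintype.card F = q ^ 2) {a b : Fin 4 → F} {α β : F} (h : Diag q ζ M a α b β)
    {g : GL (Fin 4) F} (hg : g ∈ M)
    (hiso : ∀ x y, Cfsg.hermForm 4 F q ((g : Matrix (Fin 4) (Fin 4) F) *ᵥ x) ((g : Matrix (Fin 4) (Fin 4) F) *ᵥ y) =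
      Cfsg.hermForm 4 F q x y) {μ ν : F} (ha : (g : Matrix (Fin 4) (Fin 4) F) *ᵥ a = μ • a)
    (hb : (g : Matrix (Fin 4) (Fin 4) F) *ᵥ b = ν • b) :
    Diag q ζ M a (α * (μ * qConj hF μ)) b (β * (ν * qConj hF ν)) := by
  obtain ⟨u, hu, hux⟩ := h
  refine ⟨g * u * g⁻¹, M.mul_mem (M.mul_mem hg hu) (M.inv_mem hg), fun x => ?_⟩
  rw [Units.val_mul, Units.val_mul, ← mulVec_mulVec, ← mulVec_mulVec, hux, mulVec_add, mulVec_add, mulVec_smul,
    mulVec_smul, mulVec_mulVec, ← Units.val_mul, mul_inv_cancel, Units.val_one, one_mulVec, inv_iso hF hiso,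
    inv_iso hF hiso, ha, hb, herm_smul_right (isUnitaryForm_hermForm hF 4),
    herm_smul_right (isUnitaryForm_hermForm hF 4)]
  module

theorem Diag.swap {a b : Fin 4 → F} {α β : F} (h : Diag q ζ M a α b β) : Diag q ζ M b β a α := by
  obtain ⟨u, hu, hux⟩ := h
  exact ⟨u, hu, fun x => by rw [hux]; abel⟩

include hF in
theorem Diag.neg {a b : Fin 4 → F} {α β : F} (h : Diag q ζ M a α b β) (haa : Cfsg.hermForm 4 F q a a = 0)
    (hbb : Cfsg.hermForm 4 F q b b = 0) (hab : Cfsg.hermForm 4 F q a b = 0) :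
    Diag q ζ M a (-α) b (-β) := by
  have hf := isUnitaryForm_hermForm hF 4
  obtain ⟨u, hu, hux⟩ := h
  refine ⟨u⁻¹, M.inv_mem hu, fun x => ?_⟩
  have : (u : Matrix (Fin 4) (Fin 4) F) *ᵥ (x + (ζ * -α * Cfsg.hermForm 4 F q x a) • a +
      (ζ * -β * Cfsg.hermForm 4 F q x b) • b) = x := by
    rw [hux]
    simp only [hf.add_left, hf.smul_left, haa, hbb, hab, herm_eq_zero_comm hf hab, mul_zero, add_zero]
    module
  conv_lhs => rw [← this]
  rw [inv_mulVec_mulVec]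

include hF in
theorem Diag.add {a b : Fin 4 → F} {α β α' β' : F} (h : Diag q ζ M a α b β) (h' : Diag q ζ M a α' b β')
    (haa : Cfsg.hermForm 4 F q a a = 0) (hbb : Cfsg.hermForm 4 F q b b = 0)
    (hab : Cfsg.hermForm 4 F q a b = 0) : Diag q ζ M a (α + α') b (β + β') := by
  have hf := isUnitaryForm_hermForm hF 4
  obtain ⟨u, hu, hux⟩ := h
  obtain ⟨v, hv, hvx⟩ := h'
  refine ⟨u * v, M.mul_mem hu hv, fun x => ?_⟩
  rw [Units.val_mul, ← mulVec_mulVec, hvx, hux]
  simp only [hf.add_left, hf.smul_left, haa, hbb, hab, herm_eq_zero_comm hf hab, mul_zero, add_zero]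
  module

include hF in
/-- a maximal totally isotropic line is its own perpendicular -/
theorem mem_of_perp {a b x : Fin 4 → F} (hli : LinearIndependent F ![a, b]) (haa : Cfsg.hermForm 4 F q a a = 0)
    (hbb : Cfsg.hermForm 4 F q b b = 0) (hab : Cfsg.hermForm 4 F q a b = 0) (hxx : Cfsg.hermForm 4 F q x x = 0)
    (hxa : Cfsg.hermForm 4 F q x a = 0) (hxb : Cfsg.hermForm 4 F q x b = 0) :
    x ∈ Submodule.span F {a, b} := by
  have hf := isUnitaryForm_hermForm hF 4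
  by_contra hx
  have hlt : Submodule.span F {a, b} < Submodule.span F {a, b} ⊔ Submodule.span F {x} :=
    lt_of_le_of_ne le_sup_left fun e => hx (by
      rw [e]; exact Submodule.mem_sup_right (Submodule.mem_span_singleton_self x))
  have h2 := Submodule.finrank_lt_finrank_of_lt hlt
  have h3 := finrank_span_eq_card hli
  rw [show Set.range ![a, b] = {a, b} by simp [Set.pair_comm], Fintype.card_fin] at h3
  have h4 := UnitFour.finrank_add_le_of_orth hf (U := Submodule.span F {a, b} ⊔ Submodule.span F {x})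
    (W := Submodule.span F {a, b} ⊔ Submodule.span F {x}) (fun y hy z hz => by
      simp only [Submodule.mem_sup, Submodule.mem_span_pair, Submodule.mem_span_singleton] at hy hz
      obtain ⟨_, ⟨s, t, rfl⟩, _, ⟨r, rfl⟩, rfl⟩ := hy
      obtain ⟨_, ⟨s', t', rfl⟩, _, ⟨r', rfl⟩, rfl⟩ := hz
      simp only [hf.add_left, hf.smul_left, herm_add_right hf, herm_smul_right hf, haa, hbb, hab,
        herm_eq_zero_comm hf hab, hxx, hxa, hxb, herm_eq_zero_comm hf hxa, herm_eq_zero_comm hf hxb, mul_zero,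
        add_zero])
  omega

/-- two shear groups with a common centre give a full transvection group -/
theorem uFull_of_common (hζ0 : ζ ≠ 0) (hζ : qConj hF ζ = -ζ) {a b b' : Fin 4 → F} (h : Shear hF ζ M a b)
    (h' : Shear hF ζ M a b') (haa : Cfsg.hermForm 4 F q a a = 0) (hbb : Cfsg.hermForm 4 F q b b = 0)
    (hbb' : Cfsg.hermForm 4 F q b' b' = 0) (hab : Cfsg.hermForm 4 F q a b = 0)
    (hab' : Cfsg.hermForm 4 F q a b' = 0) (hne : Cfsg.hermForm 4 F q b b' ≠ 0) :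
    UFull (qConj hF) (Cfsg.hermForm 4 F q) M a := by
  have hf := isUnitaryForm_hermForm hF 4
  refine ⟨haa, fun c hc => ?_⟩
  obtain ⟨φ, hφe⟩ : ∃ φ, φ = Cfsg.hermForm 4 F q b b' := ⟨_, rfl⟩
  have hφ : Cfsg.hermForm 4 F q b' b = qConj hF φ := by rw [hφe]; exact hf.herm b' b
  have hφ0 : qConj hF φ ≠ 0 := (map_ne_zero _).2 (hφe ▸ hne)
  have hcσ : qConj hF c = -c := by linear_combination hc
  obtain ⟨Y, hY⟩ := exists_trace_eq hf (a := c / (ζ * ζ * ζ)) (by
    rw [map_div₀, map_mul, map_mul, hζ, hcσ]; field_simp)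
  obtain ⟨L, hL⟩ : ∃ L, L = ζ * Y / qConj hF φ := ⟨_, rfl⟩
  obtain ⟨u, hu, hux⟩ := h L
  obtain ⟨u', hu', hu'x⟩ := h' 1
  obtain ⟨v, hv, hvx⟩ := h (-L)
  obtain ⟨v', hv', hv'x⟩ := h' (-1)
  refine hasTv_of_map hF haa (M.mul_mem (M.mul_mem (M.mul_mem hu hu') hv) hv') fun x => ?_
  rw [Units.val_mul, Units.val_mul, Units.val_mul, ← mulVec_mulVec, ← mulVec_mulVec, ← mulVec_mulVec, hv'x, hvx,
    hu'x, hux]
  simp only [hf.add_left, hf.smul_left, haa, hbb, hbb', hab, hab', herm_eq_zero_comm hf hab,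
    herm_eq_zero_comm hf hab', hφ, ← hφe, map_neg, map_one, mul_zero, add_zero, zero_add, mul_one]
  have hL1 : L * qConj hF φ = ζ * Y := by rw [hL, div_mul_cancel₀ _ hφ0]
  have hL2 : qConj hF L * φ = -(ζ * qConj hF Y) := by
    have := congrArg (qConj hF) hL1
    rw [map_mul, qConj_qConj, map_mul, hζ] at this
    linear_combination this
  have hc' : c = ζ * ζ * ζ * (Y + qConj hF Y) := by rw [hY]; field_simp
  match_scalars <;> first | ring1 | (rw [hc']; linear_combination (ζ * ζ * Cfsg.hermForm 4 F q x a) * (hL1 - hL2))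

/-- two shear groups on different lines meeting in a centre of the second give a full transvection group -/
theorem uFull_of_share (hζ0 : ζ ≠ 0) (hζ : qConj hF ζ = -ζ)
    (hiso : ∀ h ∈ M, ∀ x y, Cfsg.hermForm 4 F q ((h : Matrix (Fin 4) (Fin 4) F) *ᵥ x)
      ((h : Matrix (Fin 4) (Fin 4) F) *ᵥ y) = Cfsg.hermForm 4 F q x y)
    {a b a' b' : Fin 4 → F} {r s : F} (h : Shear hF ζ M a b) (h' : Shear hF ζ M a' b')
    (haa : Cfsg.hermForm 4 F q a a = 0) (hbb : Cfsg.hermForm 4 F q b b = 0)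
    (hab : Cfsg.hermForm 4 F q a b = 0)
    (haa' : Cfsg.hermForm 4 F q a' a' = 0) (hbb' : Cfsg.hermForm 4 F q b' b' = 0)
    (hab' : Cfsg.hermForm 4 F q a' b' = 0) (hli : LinearIndependent F ![a', b'])
    (hb : b ∉ Submodule.span F {a', b'}) (ha : a = r • a' + s • b') (ha0 : a ≠ 0) :
    UFull (qConj hF) (Cfsg.hermForm 4 F q) M a := by
  have hf := isUnitaryForm_hermForm hF 4
  have hne : Cfsg.hermForm 4 F q b a' ≠ 0 ∨ Cfsg.hermForm 4 F q b b' ≠ 0 := by
    by_contra hno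
    simp only [not_or, not_not] at hno
    exact hb (mem_of_perp hF hli haa' hbb' hab' hbb hno.1 hno.2)
  have he : qConj hF r * Cfsg.hermForm 4 F q b a' + qConj hF s * Cfsg.hermForm 4 F q b b' = 0 := by
    rw [← herm_smul_right hf, ← herm_smul_right hf, ← herm_add_right hf, ← ha]
    exact herm_eq_zero_comm hf hab
  rcases eq_or_ne s 0 with hs | hs
  · rw [hs, zero_smul, add_zero] at ha
    rw [hs, map_zero, zero_mul, add_zero] at he
    have hr : r ≠ 0 := fun e => ha0 (by rw [ha, e, zero_smul])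
    have hba' : Cfsg.hermForm 4 F q b a' = 0 := (mul_eq_zero.1 he).resolve_left ((map_ne_zero _).2 hr)
    refine uFull_of_common hF hζ0 hζ h (ha ▸ h'.smul hF r) haa hbb hbb' hab ?_ (hne.resolve_left (not_not.2 hba'))
    rw [ha, hf.smul_left, hab', mul_zero]
  rcases eq_or_ne r 0 with hr | hr
  · rw [hr, zero_smul, zero_add] at ha
    rw [hr, map_zero, zero_mul, zero_add] at he
    have hbb'' : Cfsg.hermForm 4 F q b b' = 0 := (mul_eq_zero.1 he).resolve_left ((map_ne_zero _).2 hs)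
    refine uFull_of_common hF hζ0 hζ h (ha ▸ (h'.symm hF).smul hF s) haa hbb haa' hab ?_
      (hne.resolve_right (not_not.2 hbb''))
    rw [ha, hf.smul_left, herm_eq_zero_comm hf hab', mul_zero]
  obtain ⟨ha'0, hb'0⟩ : Cfsg.hermForm 4 F q b a' ≠ 0 ∧ Cfsg.hermForm 4 F q b b' ≠ 0 := by
    constructor
    · intro e
      rw [e, mul_zero, zero_add] at he
      exact hne.elim (fun k => k e) (fun k => k ((mul_eq_zero.1 he).resolve_left ((map_ne_zero _).2 hs)))
    · intro e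
      rw [e, mul_zero, add_zero] at he
      exact hne.elim (fun k => k ((mul_eq_zero.1 he).resolve_left ((map_ne_zero _).2 hr))) (fun k => k e)
  obtain ⟨Y, hY⟩ := exists_trace_eq hf (a := (1 : F)) (map_one _)
  obtain ⟨mu, hmu⟩ : ∃ mu, mu * (Cfsg.hermForm 4 F q b b' * qConj hF (Cfsg.hermForm 4 F q b a')) = Y :=
    ⟨Y / (Cfsg.hermForm 4 F q b b' * qConj hF (Cfsg.hermForm 4 F q b a')),
      div_mul_cancel₀ _ (mul_ne_zero hb'0 ((map_ne_zero _).2 ha'0))⟩
  obtain ⟨u, hu, hux⟩ := h' mu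
  have hua : (u : Matrix (Fin 4) (Fin 4) F) *ᵥ a = a := by
    rw [hux, ha]
    simp only [hf.add_left, hf.smul_left, haa', hbb', hab', herm_eq_zero_comm hf hab', mul_zero, add_zero,
      zero_smul]
  have h2 := h.conj hF hu (hiso u hu)
  rw [hua] at h2
  refine uFull_of_common hF hζ0 hζ h h2 haa hbb ((hiso u hu _ _).trans hbb) hab ?_ ?_
  · have := (hiso u hu a b).trans hab
    rwa [hua] at this
  · intro e
    rw [hux, herm_add_right hf, herm_add_right hf, herm_smul_right hf, herm_smul_right hf, hbb] at e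
    have hm := congrArg (qConj hF) hmu
    simp only [map_mul, qConj_qConj] at hm
    simp only [map_mul, qConj_qConj, hζ, zero_add] at e
    refine hζ0 ?_
    linear_combination -e - ζ * hmu - ζ * hm - ζ * hY

/-- two different frames of shears on one line give two commuting transvections -/
theorem diag_of_frames (hζ0 : ζ ≠ 0) {a b : Fin 4 → F} {α β γ δ : F} (h : Shear hF ζ M a b)
    (h' : Shear hF ζ M (α • a + β • b) (γ • a + δ • b)) (haa : Cfsg.hermForm 4 F q a a = 0)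
    (hbb : Cfsg.hermForm 4 F q b b = 0) (hab : Cfsg.hermForm 4 F q a b = 0)
    (hne : α * γ ≠ 0 ∨ β * δ ≠ 0) :
    ∃ A B : F, qConj hF A = A ∧ qConj hF B = B ∧ (A ≠ 0 ∨ B ≠ 0) ∧ Diag q ζ M a A b B := by
  have hf := isUnitaryForm_hermForm hF 4
  obtain ⟨Y, hY⟩ := exists_trace_eq hf (a := (1 : F)) (map_one _)
  obtain ⟨mu, hmu⟩ : ∃ mu : F, mu * α * qConj hF γ = Y ∨ mu * β * qConj hF δ = Y := by
    rcases hne with h1 | h1
    · obtain ⟨h1, h2⟩ := mul_ne_zero_iff.1 h1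
      exact ⟨Y / (α * qConj hF γ), Or.inl (by
        rw [mul_assoc, div_mul_cancel₀ _ (mul_ne_zero h1 ((map_ne_zero _).2 h2))])⟩
    · obtain ⟨h1, h2⟩ := mul_ne_zero_iff.1 h1
      exact ⟨Y / (β * qConj hF δ), Or.inr (by
        rw [mul_assoc, div_mul_cancel₀ _ (mul_ne_zero h1 ((map_ne_zero _).2 h2))])⟩
  obtain ⟨L, hL⟩ : ∃ L, L = mu * α * qConj hF δ + qConj hF mu * γ * qConj hF β := ⟨_, rfl⟩
  obtain ⟨u, hu, hux⟩ := h (-L)
  obtain ⟨v, hv, hvx⟩ := h' mu
  refine ⟨mu * α * qConj hF γ + qConj hF (mu * α * qConj hF γ), mu * β * qConj hF δ + qConj hF (mu * β * qConj hF δ),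
    by rw [map_add, qConj_qConj, add_comm], by rw [map_add, qConj_qConj, add_comm], ?_, u * v, M.mul_mem hu hv,
    fun x => ?_⟩
  · rcases hmu with e | e
    · left; rw [e, hY]; exact one_ne_zero
    · right; rw [e, hY]; exact one_ne_zero
  · rw [Units.val_mul, ← mulVec_mulVec, hvx, hux]
    simp only [hf.add_left, hf.smul_left, herm_add_right hf, herm_smul_right hf, haa, hbb, hab,
      herm_eq_zero_comm hf hab, map_mul, map_add, map_neg, qConj_qConj, hL, mul_zero, add_zero]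
    module

/-- two shear groups on lines meeting away from all centres give two commuting transvections -/
theorem diag_of_meet (hζ0 : ζ ≠ 0) (hζ : qConj hF ζ = -ζ)
    (hiso : ∀ h ∈ M, ∀ x y, Cfsg.hermForm 4 F q ((h : Matrix (Fin 4) (Fin 4) F) *ᵥ x)
      ((h : Matrix (Fin 4) (Fin 4) F) *ᵥ y) = Cfsg.hermForm 4 F q x y)
    {k : F} (hk : qConj hF k = k) (hk0 : k ≠ 0) (hk1 : k ≠ 1) (hk1' : k ≠ -1)
    {a b a' b' y : Fin 4 → F} {r s r' s' : F} (h : Shear hF ζ M a b) (h' : Shear hF ζ M a' b')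
    (haa : Cfsg.hermForm 4 F q a a = 0) (hbb : Cfsg.hermForm 4 F q b b = 0)
    (hab : Cfsg.hermForm 4 F q a b = 0)
    (haa' : Cfsg.hermForm 4 F q a' a' = 0) (hbb' : Cfsg.hermForm 4 F q b' b' = 0)
    (hab' : Cfsg.hermForm 4 F q a' b' = 0) (hli : LinearIndependent F ![a, b])
    (hne : ¬ (a' ∈ Submodule.span F {a, b} ∧ b' ∈ Submodule.span F {a, b}))
    (hy : y = r • a + s • b) (hy' : y = r' • a' + s' • b') (hr : r ≠ 0) (hs : s ≠ 0) (hs' : s' ≠ 0)
    (hr' : r' ≠ 0) :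
    ∃ A B : F, qConj hF A = A ∧ qConj hF B = B ∧ (A ≠ 0 ∨ B ≠ 0) ∧ Diag q ζ M a A b B := by
  have hf := isUnitaryForm_hermForm hF 4
  set f := Cfsg.hermForm 4 F q with hfdef
  have hya : f y a = 0 := by rw [hy, hf.add_left, hf.smul_left, hf.smul_left, haa, herm_eq_zero_comm hf hab]; ring
  have hyb : f y b = 0 := by rw [hy, hf.add_left, hf.smul_left, hf.smul_left, hbb, hab]; ring
  have hya' : f y a' = 0 := by
    rw [hy', hf.add_left, hf.smul_left, hf.smul_left, haa', herm_eq_zero_comm hf hab']; ring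
  have hyb' : f y b' = 0 := by rw [hy', hf.add_left, hf.smul_left, hf.smul_left, hbb', hab']; ring
  obtain ⟨p, hp⟩ : ∃ p, p = f a' a := ⟨_, rfl⟩
  have hpσ : f a a' = qConj hF p := by rw [hp]; exact hf.herm a a'
  have he1 : qConj hF r * p + qConj hF s * f a' b = 0 := by
    rw [hp, ← herm_smul_right hf, ← herm_smul_right hf, ← herm_add_right hf, ← hy]
    exact herm_eq_zero_comm hf hya'
  have he2 : qConj hF r' * qConj hF p + qConj hF s' * f a b' = 0 := by
    rw [← hpσ, ← herm_smul_right hf, ← herm_smul_right hf, ← herm_add_right hf, ← hy']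
    exact herm_eq_zero_comm hf hya
  have hrσ : qConj hF r ≠ 0 := (map_ne_zero _).2 hr
  have hsσ : qConj hF s ≠ 0 := (map_ne_zero _).2 hs
  have hrσ' : qConj hF r' ≠ 0 := (map_ne_zero _).2 hr'
  have hsσ' : qConj hF s' ≠ 0 := (map_ne_zero _).2 hs'
  have hp0 : p ≠ 0 := by
    intro e
    have h1 : f a' b = 0 := by
      rw [e, mul_zero, zero_add] at he1
      exact (mul_eq_zero.1 he1).resolve_left hsσ
    have ha'L := mem_of_perp hF hli haa hbb hab haa' (hp.symm.trans e) h1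
    refine hne ⟨ha'L, ?_⟩
    have : b' = s'⁻¹ • (y + (-r') • a') := by
      rw [hy', show r' • a' + s' • b' + (-r') • a' = s' • b' by module, inv_smul_smul₀ hs']
    rw [this]
    refine Submodule.smul_mem _ _ (add_mem ?_ (Submodule.smul_mem _ _ ha'L))
    rw [hy]
    exact Submodule.mem_span_pair.2 ⟨r, s, rfl⟩
  have hpσ0 : qConj hF p ≠ 0 := (map_ne_zero _).2 hp0
  -- the two projections onto `y⊥/y`
  have hU : ∀ T : F, qConj hF T = T → ∃ u ∈ M, (u : Matrix (Fin 4) (Fin 4) F) *ᵥ y = y ∧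
      (u : Matrix (Fin 4) (Fin 4) F) *ᵥ a = a ∧
      ∃ e : F, (u : Matrix (Fin 4) (Fin 4) F) *ᵥ a' = a' + (-ζ * p * T) • a + e • y := by
    intro T hT
    obtain ⟨N, hN⟩ := exists_trace_eq hf (a := T) hT
    obtain ⟨u, hu, hux⟩ := h (N * qConj hF s / qConj hF r)
    refine ⟨u, hu, ?_, ?_, ζ * qConj hF (N * qConj hF s / qConj hF r) * p / s, ?_⟩
    · rw [hux, ← hfdef, hya, hyb]; simp
    · rw [hux, ← hfdef, haa, hab]; simp
    · rw [hux, ← hfdef, ← hp, hy]
      rw [map_div₀, map_mul, qConj_qConj, qConj_qConj]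
      match_scalars
      · ring
      · field_simp
        linear_combination N * he1 - p * qConj hF r * hN
      · field_simp
  have hU' : ∀ T : F, qConj hF T = T → ∃ u ∈ M, (u : Matrix (Fin 4) (Fin 4) F) *ᵥ y = y ∧
      (u : Matrix (Fin 4) (Fin 4) F) *ᵥ a' = a' ∧
      ∃ e : F, (u : Matrix (Fin 4) (Fin 4) F) *ᵥ a = a + (-ζ * qConj hF p * T) • a' + e • y := by
    intro T hT
    obtain ⟨N, hN⟩ := exists_trace_eq hf (a := T) hT
    obtain ⟨u, hu, hux⟩ := h' (N * qConj hF s' / qConj hF r')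
    refine ⟨u, hu, ?_, ?_, ζ * qConj hF (N * qConj hF s' / qConj hF r') * qConj hF p / s', ?_⟩
    · rw [hux, ← hfdef, hya', hyb']; simp
    · rw [hux, ← hfdef, haa', hab']; simp
    · rw [hux, ← hfdef, hpσ, hy']
      rw [map_div₀, map_mul, qConj_qConj, qConj_qConj]
      match_scalars
      · ring
      · field_simp
        linear_combination N * he2 - qConj hF p * qConj hF r' * hN
      · field_simp
  have hw : ∀ T : F, qConj hF T = T → T ≠ 0 → ∃ w ∈ M, (w : Matrix (Fin 4) (Fin 4) F) *ᵥ y = y ∧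
      (∃ e : F, (w : Matrix (Fin 4) (Fin 4) F) *ᵥ a = (ζ * p * T)⁻¹ • a' + e • y) ∧
      ∃ e : F, (w : Matrix (Fin 4) (Fin 4) F) *ᵥ a' = (-ζ * p * T) • a + e • y := by
    intro T hT hT0
    obtain ⟨u, hu, huy, hua, e, hua'⟩ := hU T hT
    obtain ⟨v, hv, hvy, hva', e', hva⟩ := hU' (-(ζ * ζ * p * qConj hF p * T)⁻¹) (by
      rw [map_neg, map_inv₀]; simp only [map_mul, hζ, qConj_qConj, hT]; ring)
    have hc : -ζ * qConj hF p * -(ζ * ζ * p * qConj hF p * T)⁻¹ = (ζ * p * T)⁻¹ := by field_simp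
    rw [hc] at hva
    refine ⟨u * v * u, M.mul_mem (M.mul_mem hu hv) hu, ?_, ⟨(ζ * p * T)⁻¹ * e + e', ?_⟩,
      ⟨e + -ζ * p * T * e', ?_⟩⟩
    · rw [Units.val_mul, Units.val_mul, ← mulVec_mulVec, ← mulVec_mulVec, huy, hvy, huy]
    · rw [Units.val_mul, Units.val_mul, ← mulVec_mulVec, ← mulVec_mulVec, hua, hva, mulVec_add, mulVec_add,
        mulVec_smul, mulVec_smul, hua, huy, hua']
      match_scalars <;> field_simp <;> ring
    · rw [Units.val_mul, Units.val_mul, ← mulVec_mulVec, ← mulVec_mulVec, hua']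
      simp only [mulVec_add, mulVec_smul, hva', hvy, hva, hua, hua', huy]
      match_scalars <;> field_simp <;> ring
  obtain ⟨w₁, hw₁, hw₁y, ⟨e₁, hw₁a⟩, -⟩ := hw 1 (map_one _) one_ne_zero
  obtain ⟨w₂, hw₂, hw₂y, -, e₂, hw₂a'⟩ := hw k hk hk0
  obtain ⟨e, he⟩ : ∃ e, e = (ζ * p * 1)⁻¹ * e₂ + e₁ := ⟨_, rfl⟩
  have hm : w₂ * w₁ ∈ M := M.mul_mem hw₂ hw₁
  have hma : ((w₂ * w₁ : GL (Fin 4) F) : Matrix (Fin 4) (Fin 4) F) *ᵥ a =
      (-k + e * r) • a + (e * s) • b := by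
    rw [Units.val_mul, ← mulVec_mulVec, hw₁a, mulVec_add, mulVec_smul, mulVec_smul, hw₂a', hw₂y, he, hy]
    match_scalars <;> field_simp <;> ring
  have hmb : ((w₂ * w₁ : GL (Fin 4) F) : Matrix (Fin 4) (Fin 4) F) *ᵥ b =
      (r * (1 + k - e * r) / s) • a + (1 - r * e) • b := by
    have hb' : b = s⁻¹ • (y + (-r) • a) := by
      rw [hy, show r • a + s • b + (-r) • a = s • b by module, inv_smul_smul₀ hs]
    have hmy : ((w₂ * w₁ : GL (Fin 4) F) : Matrix (Fin 4) (Fin 4) F) *ᵥ y = y := by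
      rw [Units.val_mul, ← mulVec_mulVec, hw₁y, hw₂y]
    conv_lhs => rw [hb', mulVec_smul, mulVec_add, mulVec_smul, hma, hmy, hy]
    match_scalars <;> field_simp <;> ring
  have h2 := h.conj hF hm (hiso _ hm)
  rw [hma, hmb] at h2
  refine diag_of_frames hF hζ0 h h2 haa hbb hab ?_
  by_contra hno
  simp only [not_or, not_not] at hno
  obtain ⟨h1, h3⟩ := hno
  rcases mul_eq_zero.1 h1 with hα | hγ
  · have he0 : e ≠ 0 := fun z => hk0 (by rw [z] at hα; linear_combination -hα)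
    have hδ := (mul_eq_zero.1 h3).resolve_left (mul_ne_zero he0 hs)
    exact hk1 (by linear_combination -hα - hδ)
  · have hγ' := (mul_eq_zero.1 ((div_eq_zero_iff.1 hγ).resolve_right hs)).resolve_left hr
    have he0 : e ≠ 0 := fun z => hk1' (by rw [z] at hγ'; linear_combination hγ')
    have hδ := (mul_eq_zero.1 h3).resolve_left (mul_ne_zero he0 hs)
    exact hk0 (by linear_combination hγ' - hδ)

end CfsgLib.MaxSub.SuFour
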