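import Cfsg.Agent.Lib.MaxSub.SuFour.RatFourMain
import Cfsg.Agent.Lib.MaxSub.SkewSubfield
import Cfsg.Agent.Lib.MaxSub.HermFull
import Cfsg.Agent.Lib.Geom.HermNorm

/-!
Subfield groups of odd prime index in four-dimensional special unitary groups are maximal.
-/

set_option autoImplicit false
set_option linter.unusedSectionVars false
set_option linter.style.haveILetI false

namespace CfsgLib.MaxSub.SuFour

open Matrix CfsgLib.MaxSub

section frames

variable {F V V₀ : Type*} [Field F] {σ : F →+* F} [AddCommGroup V] [Module F V] {F₀ : Subfield F}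
  [AddCommGroup V₀] [Module F₀ V₀] {B : V →ₛₗ[σ] V →ₗ[F] F}

/-- rational isotropic vectors lie in hyperbolic frames -/
theorem exists_frame [FiniteDimensional F₀ V₀] [FiniteDimensional F V] (hB : IsSkew B) {inc : V₀ →+ V}
    (hsmul : ∀ (c : F₀) (x : V₀), inc (c • x) = (c : F) • inc x)
    (hspan : Submodule.span F (Set.range inc) = ⊤)
    (hrat : ∀ x y, B (inc x) (inc y) ∈ F₀) (hsig : ∀ x ∈ F₀, σ x ∈ F₀)
    (h4 : Module.finrank F V = 4) (h4' : Module.finrank F₀ V₀ = 4)
    (hiso : ∀ W : Submodule F₀ V₀, 2 ≤ Module.finrank F₀ W → ∃ v ∈ W, v ≠ 0 ∧ B (inc v) (inc v) = 0)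
    (hinj : Function.Injective inc)
    (hshift : ∀ z e : V₀, B (inc e) (inc e) = 0 → B (inc e) (inc z) ≠ 0 →
      ∃ t : F₀, B (inc (z + t • e)) (inc (z + t • e)) = 0)
    {p : V} (hp : p ∈ inc.range) (hpp : B p p = 0) (hp0 : p ≠ 0) :
    ∃ f a b, RatFrame B inc.range p f a b := by
  classical
  obtain ⟨p₀, rfl⟩ := AddMonoidHom.mem_range.1 hp
  have partner : ∀ e : V₀, inc e ≠ 0 → ∃ z, B (inc e) (inc z) ≠ 0 := by
    intro e he
    by_contra hno
    push Not at hno
    refine he (hB.sep _ fun y => ?_)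
    have hle : Submodule.span F (Set.range inc) ≤ LinearMap.ker (B (inc e)) :=
      Submodule.span_le.2 (by rintro _ ⟨z, rfl⟩; exact hno z)
    exact hB.perp_symm (hle (show y ∈ Submodule.span F (Set.range inc) by rw [hspan]; trivial))
  have unit : ∀ e z : V₀, B (inc e) (inc e) = 0 → B (inc e) (inc z) ≠ 0 → ∃ f t s : F₀,
      B (inc (f • (z + t • e))) (inc (f • (z + t • e))) = 0 ∧ B (inc (f • (z + t • e))) (inc e) = 1 ∧ s = f := by
    intro e z he hez
    obtain ⟨t, ht⟩ := hshift z e he hez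
    have hne : B (inc (z + t • e)) (inc e) ≠ 0 := fun h0 => hez (by
      have h1 := hB.perp_symm h0
      rwa [map_add, map_add, hsmul, bilin_smul_right, he, mul_zero, add_zero] at h1)
    refine ⟨⟨σ (B (inc (z + t • e)) (inc e))⁻¹, hsig _ (inv_mem (hrat _ _))⟩, t, _, ?_, ?_, rfl⟩
    · rw [hsmul, bilin_smul_left, bilin_smul_right, ht, mul_zero, mul_zero]
    · rw [hsmul, bilin_smul_left, hB.inv, inv_mul_cancel₀ hne]
  obtain ⟨z, hz⟩ := partner p₀ hp0
  obtain ⟨k, t, -, hff, hfe, -⟩ := unit p₀ z hpp hz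
  set f₀ := k • (z + t • p₀)
  let rb : V₀ → V₀ →ₗ[F₀] F₀ := fun s =>
    { toFun := fun x => ⟨_, hrat s x⟩
      map_add' := fun x y => Subtype.ext (by simp [map_add])
      map_smul' := fun c x => Subtype.ext (by simp [hsmul, bilin_smul_right]) }
  obtain ⟨a₀, haW, ha0, haa⟩ := hiso (LinearMap.ker ((rb p₀).prod (rb f₀))) (by
    have h1 := ((rb p₀).prod (rb f₀)).finrank_range_add_finrank_ker
    have h2 := Submodule.finrank_le (LinearMap.range ((rb p₀).prod (rb f₀)))
    rw [Module.finrank_prod, Module.finrank_self] at h2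
    omega)
  have hW := LinearMap.mem_ker.1 haW
  have hpa : B (inc p₀) (inc a₀) = 0 := congrArg (fun x : F₀ × F₀ => (x.1 : F)) hW
  have hfa : B (inc f₀) (inc a₀) = 0 := congrArg (fun x : F₀ × F₀ => (x.2 : F)) hW
  have hpf : B (inc p₀) (inc f₀) = -1 := by rw [hB.skew (inc f₀) (inc p₀), hfe, map_one]
  obtain ⟨y, hy⟩ := partner a₀ fun e => ha0 (hinj (e.trans inc.map_zero.symm))
  set y' := y - (⟨_, hrat f₀ y⟩ : F₀) • p₀ + (⟨_, hrat p₀ y⟩ : F₀) • f₀ with hy'
  have hy1 : B (inc p₀) (inc y') = 0 := by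
    simp [hy', map_add, map_sub, hsmul, bilin_smul_right, hpp, hpf]
  have hy2 : B (inc f₀) (inc y') = 0 := by
    simp [hy', map_add, map_sub, hsmul, bilin_smul_right, hff, hfe]
  have hy3 : B (inc a₀) (inc y') ≠ 0 := by
    simpa [hy', map_add, map_sub, hsmul, bilin_smul_right, hB.perp_symm hpa, hB.perp_symm hfa] using hy
  obtain ⟨l, t', -, hbb, hba, -⟩ := unit a₀ y' haa hy3
  set b₀ := l • (y' + t' • a₀) with hb₀
  have hpb : B (inc p₀) (inc b₀) = 0 := by
    simp [hb₀, map_add, hsmul, bilin_smul_right, hy1, hpa]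
  have hfb : B (inc f₀) (inc b₀) = 0 := by
    simp [hb₀, map_add, hsmul, bilin_smul_right, hy2, hfa]
  have hab : B (inc a₀) (inc b₀) = -1 := by rw [hB.skew (inc b₀) (inc a₀), hba, map_one]
  have hli : LinearIndependent F ![inc p₀, inc f₀, inc a₀, inc b₀] := by
    rw [Fintype.linearIndependent_iff]
    intro c hc
    simp only [Fin.sum_univ_four, Matrix.cons_val] at hc
    have e1 := congrArg (B (inc f₀)) hc
    have e2 := congrArg (B (inc p₀)) hc
    have e3 := congrArg (B (inc b₀)) hc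
    have e4 := congrArg (B (inc a₀)) hc
    simp only [map_add, bilin_smul_right, hpp, hff, haa, hbb, hfe, hpf, hba, hab, hpa, hfa, hpb, hfb,
      hB.perp_symm hpa, hB.perp_symm hfa, hB.perp_symm hpb, hB.perp_symm hfb, map_zero] at e1 e2 e3 e4
    intro i
    fin_cases i
    · show c 0 = 0; linear_combination e1
    · show c 1 = 0; linear_combination -e2
    · show c 2 = 0; linear_combination e3
    · show c 3 = 0; linear_combination -e4
  have htop := hli.span_eq_top_of_card_eq_finrank' (by rw [Fintype.card_fin, h4])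
  refine ⟨inc f₀, inc a₀, inc b₀, ⟨⟨p₀, rfl⟩, ⟨f₀, rfl⟩, ⟨a₀, rfl⟩, ⟨b₀, rfl⟩, hpp, hff, haa, hbb, hfe, hba, hpa,
    hpb, hfa, hfb, fun x => sub_eq_zero.1 (hB.sep _ fun u => ?_)⟩⟩
  set d := x - (B (inc f₀) x • inc p₀ - B (inc p₀) x • inc f₀ + B (inc b₀) x • inc a₀ - B (inc a₀) x • inc b₀)
  have hle : Submodule.span F (Set.range ![inc p₀, inc f₀, inc a₀, inc b₀]) ≤ LinearMap.ker (B d) := by
    refine Submodule.span_le.2 ?_
    rintro _ ⟨i, rfl⟩
    refine LinearMap.mem_ker.2 (hB.perp_symm ?_)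
    fin_cases i <;>
      simp [d, map_add, map_sub, bilin_smul_right, hpp, hff, haa, hbb, hfe, hpf, hba, hab, hpa, hfa, hpb, hfb,
        hB.perp_symm hpa, hB.perp_symm hfa, hB.perp_symm hpb, hB.perp_symm hfb]
  exact hB.perp_symm (hle (show u ∈ Submodule.span F (Set.range ![inc p₀, inc f₀, inc a₀, inc b₀]) by
    rw [htop]; trivial))

end frames

open scoped MatrixGroups

/-- a subfield group of odd prime index is maximal in the four-dimensional special unitary group -/
theorem subfield_maximal {F : Type*} [Field F] [Fintype F] {q : ℕ} (hF : Fintype.card F = q ^ 2)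
    (F₀ : Subfield F) (r : ℕ) (hr : r.Prime) (hro : Odd r) (hcard : Fintype.card F = Nat.card F₀ ^ r)
    (P : Matrix.GeneralLinearGroup (Fin 4) F)
    (hP : Cfsg.Geo.IsFormRationalStructure (Cfsg.hermForm 4 F q) F₀ 1 P) :
    Cfsg.Geo.IsMaximalIn (Cfsg.GU 4 F q ⊓ Cfsg.Geo.specialLinear (Fin 4) F)
      (Cfsg.Geo.subfieldSubgroup F₀ P ⊓ (Cfsg.GU 4 F q ⊓ Cfsg.Geo.specialLinear (Fin 4) F)) := by
  classical
  have hf := isUnitaryForm_hermForm hF 4
  set σ : F →+* F := (qConj hF).toRingHom with hσdef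
  have hσ : ∀ x, σ x = qConj hF x := fun x => rfl
  have hσσ : ∀ x, σ (σ x) = x := fun x => qConj_qConj hF x
  have hsig : ∀ x ∈ F₀, σ x ∈ F₀ := fun x hx => by rw [hσ, qConj_apply]; exact pow_mem hx q
  have hσne : σ ≠ RingHom.id F := fun h => hf.ne_refl (RingEquiv.ext fun x => RingHom.congr_fun h x)
  -- the involution moves the subfield, the degree being odd
  obtain ⟨a₀, ha₀, ha₀σ⟩ : ∃ a ∈ F₀, σ a ≠ a := by
    by_contra hno
    push Not at hno
    let e : F ≃ₐ[F₀] F := AlgEquiv.ofRingEquiv (f := qConj hF) fun x => hno x.1 x.2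
    have he : e ^ 2 = 1 := AlgEquiv.ext fun x => by rw [sq, AlgEquiv.mul_apply]; exact hσσ x
    have hfin : Module.finrank F₀ F = r := by
      have h1 := Module.natCard_eq_pow_finrank (K := F₀) (V := F)
      rw [Nat.card_eq_fintype_card (α := F), hcard] at h1
      exact (Nat.pow_right_injective (Finite.one_lt_card (α := F₀)) h1).symm
    have h1 : orderOf e ∣ r := by
      have := orderOf_dvd_natCard e
      rwa [IsGalois.card_aut_eq_finrank, hfin] at this
    have h2 : orderOf e ∣ 2 := orderOf_dvd_of_pow_eq_one he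
    have h3 : e = 1 := orderOf_eq_one_iff.1 (Nat.dvd_one.1
      (Nat.Coprime.gcd_eq_one (Nat.coprime_two_right.2 hro) ▸ Nat.dvd_gcd h1 h2))
    exact hσne (RingHom.ext fun x => AlgEquiv.congr_fun h3 x)
  set θ := a₀ - σ a₀ with hθdef
  have hθ0 : θ ≠ 0 := sub_ne_zero.2 (Ne.symm ha₀σ)
  have hθσ : σ θ = -θ := by rw [hθdef, map_sub, hσσ, neg_sub]
  have hθm : θ ∈ F₀ := sub_mem ha₀ (hsig _ ha₀)
  let B : (Fin 4 → F) →ₛₗ[σ] (Fin 4 → F) →ₗ[F] F :=
    LinearMap.mk₂'ₛₗ σ (RingHom.id F) (fun v x => θ * Cfsg.hermForm 4 F q x v)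
      (fun a b x => by simp only [herm_add_right hf]; ring)
      (fun c a x => by simp only [herm_smul_right hf, smul_eq_mul, hσ]; ring)
      (fun a b x => by simp only [hf.add_left]; ring)
      (fun c a x => by simp only [hf.smul_left, RingHom.id_apply, smul_eq_mul]; ring)
  have hBv : ∀ v x, B v x = θ * Cfsg.hermForm 4 F q x v := fun v x => rfl
  have hskew : ∀ x y, B y x = -σ (B x y) := fun x y => by
    rw [hBv, hBv, map_mul, hθσ, hσ, ← hf.herm x y]; ring
  have hB : IsSkew B := ⟨hσσ, hskew, fun x hx => by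
    by_contra hx0
    obtain ⟨-, y, hy⟩ := hf.nondegenerate x hx0
    exact mul_ne_zero hθ0 hy (by rw [← hBv]; exact hx y)⟩
  have hrat : ∀ u v, B (incP F₀ P u) (incP F₀ P v) ∈ F₀ := fun u v => by
    have := hP (fun i => (v i : F)) (fun i => (u i : F)) (fun i => (v i).2) fun i => (u i).2
    rw [one_mul] at this
    exact mul_mem hθm this
  -- traces and norms inside the subfield
  let σ₀ : F₀ →+* F₀ := (σ.comp F₀.subtype).codRestrict F₀ fun x => hsig x.1 x.2
  have hσ₀ : ∀ x : F₀, ((σ₀ x : F₀) : F) = σ (x : F) := fun x => rfl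
  have hne₀ : σ₀ ≠ RingHom.id F₀ := fun h => ha₀σ (by
    rw [← hσ₀ ⟨a₀, ha₀⟩, h]; rfl)
  have hiso : ∀ W : Submodule F₀ (Fin 4 → F₀), 2 ≤ Module.finrank F₀ W →
      ∃ v ∈ W, v ≠ 0 ∧ B (incP F₀ P v) (incP F₀ P v) = 0 := by
    intro W hW
    obtain ⟨a, haW, ha0⟩ := Submodule.exists_mem_ne_zero_of_ne_bot (p := W) fun e => by
      rw [e, finrank_bot] at hW; omega
    by_cases hqa : B (incP F₀ P a) (incP F₀ P a) = 0
    · exact ⟨a, haW, ha0, hqa⟩
    let L : (Fin 4 → F₀) →ₗ[F₀] F₀ :=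
      { toFun := fun x => ⟨_, hrat a x⟩
        map_add' := fun x y => Subtype.ext (by simp [map_add])
        map_smul' := fun c x => Subtype.ext (by simp [incP_smul, bilin_smul_right]) }
    obtain ⟨⟨b, hbW⟩, hb, hb0⟩ := Submodule.exists_mem_ne_zero_of_ne_bot
      (p := LinearMap.ker (L ∘ₗ W.subtype)) fun e => by
        have h1 := (L ∘ₗ W.subtype).finrank_range_add_finrank_ker
        have h2 := Submodule.finrank_le (LinearMap.range (L ∘ₗ W.subtype))
        rw [e, finrank_bot, add_zero] at h1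
        rw [Module.finrank_self] at h2
        omega
    have hab : B (incP F₀ P a) (incP F₀ P b) = 0 := congrArg Subtype.val hb
    have hb0' : b ≠ 0 := fun h => hb0 (Subtype.ext h)
    by_cases hqb : B (incP F₀ P b) (incP F₀ P b) = 0
    · exact ⟨b, hbW, hb0', hqb⟩
    obtain ⟨t, ht⟩ := CfsgLib.Geom.exists_norm_eq hne₀ (fun x => Subtype.ext (hσσ x.1))
      (c := ⟨-B (incP F₀ P a) (incP F₀ P a) / B (incP F₀ P b) (incP F₀ P b),
        div_mem (neg_mem (hrat a a)) (hrat b b)⟩) (Subtype.ext (by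
          have e1 : σ (B (incP F₀ P a) (incP F₀ P a)) = -B (incP F₀ P a) (incP F₀ P a) := by
            linear_combination hskew (incP F₀ P a) (incP F₀ P a)
          have e2 : σ (B (incP F₀ P b) (incP F₀ P b)) = -B (incP F₀ P b) (incP F₀ P b) := by
            linear_combination hskew (incP F₀ P b) (incP F₀ P b)
          rw [hσ₀]
          show σ (-_ / _) = _
          rw [map_div₀, map_neg, e1, e2, neg_div_neg_eq]))
    have ht' : (t : F) * σ (t : F) = -B (incP F₀ P a) (incP F₀ P a) / B (incP F₀ P b) (incP F₀ P b) :=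
      congrArg Subtype.val ht
    refine ⟨a + t • b, add_mem haW (W.smul_mem t hbW), fun h => ?_, ?_⟩
    · refine hqa ?_
      have e := congrArg (B (incP F₀ P a)) (congrArg (incP F₀ P) h)
      rwa [map_add, map_add, incP_smul, bilin_smul_right, hab, mul_zero, add_zero, map_zero, map_zero] at e
    · simp only [map_add, LinearMap.add_apply, incP_smul, bilin_smul_left, bilin_smul_right, hab,
        hB.perp_symm hab, mul_zero, add_zero, zero_add]
      rw [← mul_assoc, ht', div_mul_cancel₀ _ hqb, add_neg_cancel]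
  have hshift : ∀ z e, B (incP F₀ P e) (incP F₀ P e) = 0 → B (incP F₀ P e) (incP F₀ P z) ≠ 0 →
      ∃ t : F₀, B (incP F₀ P (z + t • e)) (incP F₀ P (z + t • e)) = 0 := by
    intro z e he hez
    -- making a vector isotropic along an isotropic one
    set d := -B (incP F₀ P z) (incP F₀ P z) with hd
    set b := B (incP F₀ P e) (incP F₀ P z) with hb
    have hdσ : σ d = -d := by rw [hd, map_neg, ← hskew, neg_neg]
    set w := d * a₀ / θ with hw
    have hwd : w - σ w = d := by
      rw [hw, map_div₀, map_mul, hdσ, hθσ, hθdef]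
      have := hθ0
      rw [hθdef] at this
      field_simp
    have hwm : σ (w / b) ∈ F₀ :=
      hsig _ (div_mem (div_mem (mul_mem (neg_mem (hrat z z)) ha₀) hθm) (hrat e z))
    refine ⟨⟨_, hwm⟩, ?_⟩
    simp only [map_add, LinearMap.add_apply, incP_smul, bilin_smul_left, bilin_smul_right, he, mul_zero,
      add_zero, hσσ, hskew (incP F₀ P e) (incP F₀ P z)]
    rw [div_mul_cancel₀ _ hez, ← hb, map_div₀, mul_neg, div_mul_cancel₀ _ (fun h => hez ((map_eq_zero σ).1 h))]
    linear_combination hwd - hd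
  set inc := incP F₀ P with hincdef
  have hinj : Function.Injective inc := fun u v h => by
    have h1 := congrArg (fun v => ((P⁻¹ : GL (Fin 4) F) : Matrix (Fin 4) (Fin 4) F) *ᵥ v) h
    simp only [hincdef, incP_apply, inv_mulVec_mulVec] at h1
    exact funext fun i => Subtype.ext (congrFun h1 i)
  have hspan : Submodule.span F (Set.range inc) = ⊤ := by
    rw [eq_top_iff]
    intro x _
    rw [← mulVec_mulVec_inv P x, pi_eq_sum_univ' (((P⁻¹ : GL (Fin 4) F) : Matrix (Fin 4) (Fin 4) F) *ᵥ x),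
      mulVec_sum]
    refine Submodule.sum_mem _ fun i _ => ?_
    rw [mulVec_smul]
    refine Submodule.smul_mem _ _ (Submodule.subset_span ⟨Pi.single i 1, ?_⟩)
    rw [hincdef, incP_apply]
    congr 1
    funext j
    simp only [Pi.single_apply]; split <;> simp
  have hframe := fun {p} hp hpp hp0 => exists_frame (p := p) hB (incP_smul F₀ P) hspan hrat hsig
    (by rw [Module.finrank_fintype_fun_eq_card, Fintype.card_fin])
    (by rw [Module.finrank_fintype_fun_eq_card, Fintype.card_fin]) hiso hinj hshift hp hpp hp0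
  obtain ⟨e₀, -, he0, hee⟩ := hiso ⊤ (by
    rw [finrank_top, Module.finrank_fintype_fun_eq_card, Fintype.card_fin]; norm_num)
  obtain ⟨f, a, b, hfr⟩ := hframe ⟨e₀, rfl⟩ hee fun h => he0 (hinj (h.trans inc.map_zero.symm))
  set e := inc e₀
  set G := Cfsg.GU 4 F q ⊓ Cfsg.Geo.specialLinear (Fin 4) F
  let Φ : sIsoms B →* GL (Fin 4) F := CfsgLib.Geom.glOfEquiv.comp (sIsoms B).subtype
  have hΦ : ∀ (g : sIsoms B) v, (Φ g : Matrix (Fin 4) (Fin 4) F) *ᵥ v = g.1 v := fun g v =>
    CfsgLib.Geom.glOfEquiv_mulVec g.1 v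
  have hiff : ∀ g : sIsoms B, Φ g ∈ Cfsg.Geo.subfieldSubgroup F₀ P ↔ IsRatl inc.range g := fun g => by
    rw [mem_subfieldSubgroup_iff]
    simp only [hΦ, IsRatl, AddMonoidHom.mem_range, forall_exists_index, forall_apply_eq_imp_iff]
    simp only [hincdef, eq_comm]
  have htvG : ∀ x k, B x x = 0 → σ k = k → Φ (sTv B x k) ∈ G := by
    intro x k hx hk
    have hx' : Cfsg.hermForm 4 F q x x = 0 := (mul_eq_zero.1 (hBv x x ▸ hx)).resolve_left hθ0
    have hc : k * θ + qConj hF (k * θ) = 0 := by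
      rw [← hσ, map_mul, hk, hθσ]; ring
    convert uTv_mem_su hF hx' hc (by rw [smul_dotProduct, hDual_dot hf, hx', smul_zero]) using 1
    refine Units.ext (Matrix.ext_of_mulVec_single fun i => ?_)
    rw [coe_tvGL, uTv_mulVec hf, hΦ, hB.tv_apply hx hk, hBv, mul_assoc]
  refine ⟨lt_of_le_not_ge inf_le_right fun hle => ?_, fun M hHM hMG => ?_⟩
  · obtain ⟨u, hu⟩ : ∃ u : F, u ∉ F₀ := by
      by_contra hno
      push Not at hno
      have h1 : Nat.card F ≤ Nat.card F₀ :=
        Nat.card_le_card_of_injective (fun x : F => (⟨x, hno x⟩ : F₀)) fun a b h => congrArg Subtype.val h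
      rw [Nat.card_eq_fintype_card (α := F), hcard] at h1
      have h2 := Nat.pow_lt_pow_right (Finite.one_lt_card (α := F₀)) hr.one_lt
      rw [pow_one] at h2
      omega
    have hua : B (u • a) (u • a) = 0 := iso_smul_vec hB hfr.aa u
    have heua : B e (u • a) = 0 := by rw [bilin_smul_right, hfr.ea, mul_zero]
    have h1 : σ (-1 : F) = -1 := by rw [map_neg, map_one]
    have hs : B (e + u • a) (e + u • a) = 0 := by
      simp only [map_add, LinearMap.add_apply, hfr.ee, hua, heua, hB.perp_symm heua, add_zero]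
    have hmem : Φ (sEv B e (u • a)) ∈ G := by
      rw [sEv, map_mul, map_mul]
      exact mul_mem (mul_mem (htvG _ _ hs (map_one σ)) (htvG _ _ hfr.ee h1)) (htvG _ _ hua h1)
    obtain ⟨c, hc, h⟩ := (hiff _).1 (hle hmem).1
    have hR : ∀ x ∈ inc.range, ∀ y ∈ inc.range, B x y ∈ F₀ := by
      rintro _ ⟨x, rfl⟩ _ ⟨y, rfl⟩; exact hrat x y
    have hcm : c ∈ F₀ := by
      have := hR f hfr.mf _ (h e hfr.me)
      rwa [hB.ev_apply hfr.ee hua heua, hfr.ee, bilin_smul_left, hfr.ae hB, mul_zero, zero_smul, zero_smul,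
        add_zero, add_zero, bilin_smul_right, hfr.fe, mul_one] at this
    have := hR f hfr.mf _ (h b hfr.mb)
    rw [hB.ev_apply hfr.ee hua heua, hfr.eb, bilin_smul_left, hfr.ab hB, zero_smul, add_zero, bilin_smul_right,
      map_add, bilin_smul_right, hfr.fb, hfr.fe, zero_add, mul_one, mul_neg, mul_one, mul_neg] at this
    have h2 := div_mem (neg_mem this) hcm
    rw [neg_neg, mul_div_cancel_left₀ _ hc] at h2
    exact hu (by simpa only [hσσ] using hsig _ h2)
  by_cases hex : ∀ g ∈ M, g ∈ Cfsg.Geo.subfieldSubgroup F₀ P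
  · exact Or.inl (le_antisymm (fun g hg => ⟨hex g hg, hMG hg⟩) hHM)
  refine Or.inr (le_antisymm hMG ?_)
  by_contra hle
  refine hex fun g hg => ?_
  have C : RatCtx B F₀ inc.range (M.comap Φ) := by
    refine ⟨hB, hsig, ⟨a₀, ha₀, ha₀σ⟩, fun L hL c hc hc0 => ?_, ?_, ?_, fun p hp hpp hp0 => hframe hp hpp hp0,
      ⟨e, f, a, b, hfr⟩, ?_⟩
    · have hfin : Module.finrank F₀ F = r := by
        have h1 := Module.natCard_eq_pow_finrank (K := F₀) (V := F)
        rw [Nat.card_eq_fintype_card (α := F), hcard] at h1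
        exact (Nat.pow_right_injective (Finite.one_lt_card (α := F₀)) h1).symm
      let S : Subalgebra F₀ F :=
        { toSubsemiring := L.toSubsemiring
          algebraMap_mem' := fun x => hL _ x.2 }
      haveI := Subalgebra.isSimpleOrder_of_finrank_prime F₀ F (hfin.symm ▸ hr)
      rcases IsSimpleOrder.eq_bot_or_eq_top S with h | h
      · exfalso
        have hmem : c ∈ S := hc
        rw [h, Algebra.mem_bot] at hmem
        obtain ⟨y, rfl⟩ := hmem
        exact hc0 y.2
      · intro x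
        have : x ∈ S := by rw [h]; trivial
        exact this
    · rintro c hc _ ⟨x, rfl⟩
      exact ⟨(⟨c, hc⟩ : F₀) • x, incP_smul F₀ P _ x⟩
    · rintro _ ⟨x, rfl⟩ _ ⟨y, rfl⟩; exact hrat x y
    · rintro _ ⟨u, rfl⟩ hu k hk hkσ
      refine hHM ⟨(hiff _).2 ⟨1, one_ne_zero, ?_⟩, htvG _ _ hu hkσ⟩
      rintro _ ⟨z, rfl⟩
      refine ⟨z + (⟨k * B (inc u) (inc z), mul_mem hk (hrat u z)⟩ : F₀) • u, ?_⟩
      rw [one_smul, hB.tv_apply hu hkσ, map_add]
      exact congrArg (inc z + ·) (incP_smul F₀ P _ u)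
  obtain ⟨g', rfl⟩ := (CfsgLib.Geom.glOfEquiv_bijective (F := F) (ι := Fin 4)).2 g
  have he : g' ∈ sIsoms B := fun x y => by
    rw [hBv, hBv, ← CfsgLib.Geom.glOfEquiv_mulVec g', ← CfsgLib.Geom.glOfEquiv_mulVec g']
    exact congrArg (θ * ·) ((hMG hg).1 x y)
  refine (hiff ⟨g', he⟩).2 (C.rational (fun hall => hle (su_le_of_uFull hF le_rfl fun v hv =>
    ⟨hv, fun c hc => ?_⟩)) (g := ⟨g', he⟩) hg)
  have hk : σ (c / θ) = c / θ := by
    rw [map_div₀, hθσ, hσ, eq_neg_of_add_eq_zero_right hc, neg_div_neg_eq]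
  have hm : Φ (sTv B v (c / θ)) ∈ M := hall v (c / θ) (by rw [hBv, hv, mul_zero]) hk
  rw [hasTv_iff (show (c • hDual (Cfsg.hermForm 4 F q) v) ⬝ᵥ v = 0 by
    rw [smul_dotProduct, hDual_dot hf, hv, smul_zero])]
  convert hm using 1
  refine Units.ext (Matrix.ext_of_mulVec_single fun i => ?_)
  rw [coe_tvGL, uTv_mulVec hf, hΦ, hB.tv_apply (by rw [hBv, hv, mul_zero]) hk, hBv, ← mul_assoc,
    div_mul_cancel₀ _ hθ0]

end CfsgLib.MaxSub.SuFour
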