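import Cfsg.Agent.Lib.AschU.MonoFrame

/-!
Special unitary groups act transitively on short orthonormal families; closure from two totally isotropic halves.
-/

set_option autoImplicit false
set_option linter.unusedSectionVars false

namespace CfsgLib.MaxSub.SuFour

open Matrix CfsgLib.MaxSub
open scoped MatrixGroups

variable {F : Type*} [Field F] [Fintype F] {q n : ℕ} (hF : Fintype.card F = q ^ 2)

/-- an orthonormal family -/
def Orth (q : ℕ) {m : ℕ} (d : Fin m → Fin n → F) : Prop :=
  ∀ i j, Cfsg.hermForm n F q (d i) (d j) = if i = j then 1 else 0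

include hF

/-- one more orthonormal vector -/
theorem exists_next {m : ℕ} (hm : m < n) {d : Fin m → Fin n → F} (hd : Orth q d) :
    ∃ v, Cfsg.hermForm n F q v v = 1 ∧ ∀ i, Cfsg.hermForm n F q v (d i) = 0 := by
  classical
  have hf := isUnitaryForm_hermForm hF n
  set f := Cfsg.hermForm n F q
  obtain ⟨v, hv, hvv⟩ : ∃ v, (∀ i, f v (d i) = 0) ∧ f v v ≠ 0 := by
    by_contra hno
    push Not at hno
    have hti : ∀ x y, (∀ i, f x (d i) = 0) → (∀ i, f y (d i) = 0) → f x y = 0 := by
      intro x y hx hy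
      by_contra hxy
      obtain ⟨s, hs⟩ := exists_trace_ne hf
      have h := hno ((s / f x y) • x + y) fun i => by rw [hf.add_left, hf.smul_left, hx, hy, mul_zero, add_zero]
      simp only [hf.add_left, hf.smul_left, herm_add_right hf, herm_smul_right hf, hno x hx, hno y hy,
        mul_zero, zero_add, add_zero] at h
      rw [div_mul_cancel₀ _ hxy, hf.herm y x, ← map_mul, div_mul_cancel₀ _ hxy] at h
      exact hs h
    let P := hPerp hf (Submodule.span F (Set.range d))
    have h1 := finrank_le_finrank_hPerp_add hf (Submodule.span F (Set.range d))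
    have h2 : Module.finrank F (Submodule.span F (Set.range d)) ≤ m := by
      simpa [Set.finrank] using finrank_range_le_card (R := F) d
    obtain ⟨u, hu, hu0⟩ := P.exists_mem_ne_zero_of_ne_bot (by
      intro e
      rw [show hPerp hf (Submodule.span F (Set.range d)) = ⊥ from e, finrank_bot] at h1
      omega)
    have hud : ∀ i, f u (d i) = 0 := fun i => hu _ (Submodule.subset_span ⟨i, rfl⟩)
    obtain ⟨⟨x, hx⟩, -⟩ := hf.nondegenerate u hu0
    apply hx
    let φ := hLin hf u
    have hx' : ∀ j, f (x - ∑ i, f x (d i) • d i) (d j) = 0 := fun j => by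
      show hLin hf (d j) _ = 0
      rw [map_sub, map_sum, Finset.sum_eq_single j]
      · rw [map_smul]; show f x (d j) - f x (d j) * f (d j) (d j) = 0; rw [show f (d j) (d j) = 1 from (hd j j).trans (if_pos rfl), mul_one, sub_self]
      · intro i _ hij
        rw [map_smul]; show f x (d i) * f (d i) (d j) = 0; rw [show f (d i) (d j) = 0 from (hd i j).trans (if_neg hij), mul_zero]
      · simp
    have := hti _ u hx' hud
    change hLin hf u _ = 0 at this
    rw [map_sub, map_sum, Finset.sum_eq_zero, sub_zero] at this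
    · exact this
    · intro i _
      rw [map_smul]; show f x (d i) * f (d i) u = 0
      rw [herm_eq_zero_comm hf (hud i), mul_zero]
  obtain ⟨t, ht⟩ := exists_norm_eq hf (e := (f v v)⁻¹) (by rw [map_inv₀, herm_self_fixed hf])
  refine ⟨t • v, ?_, fun i => by rw [hf.smul_left, hv, mul_zero]⟩
  rw [hf.smul_left, herm_smul_right hf, ← mul_assoc, ht, inv_mul_cancel₀ hvv]

/-- orthonormal families extend to bases -/
theorem exists_full : ∀ k m : ℕ, m + k = n → ∀ d : Fin m → Fin n → F, Orth q d →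
    ∃ d' : Fin n → Fin n → F, Orth q d' ∧ ∀ i : Fin m, ∀ j : Fin n, (i : ℕ) = j → d' j = d i := by
  intro k
  induction k with
  | zero =>
    intro m hm d hd
    obtain rfl : m = n := hm
    exact ⟨d, hd, fun i j h => by rw [Fin.ext h]⟩
  | succ k ih =>
    intro m hm d hd
    have hf := isUnitaryForm_hermForm hF n
    obtain ⟨v, hv, hvd⟩ := exists_next hF (by omega) hd
    obtain ⟨d', hd', he⟩ := ih (m + 1) (by omega) (Fin.snoc d v) (fun i j => by
      refine Fin.lastCases ?_ (fun i => ?_) i <;> refine Fin.lastCases ?_ (fun j => ?_) j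
      · simp [hv]
      · simp [hvd, (Fin.castSucc_lt_last j).ne']
      · simp [herm_eq_zero_comm hf (hvd i), (Fin.castSucc_lt_last i).ne]
      · simp [hd i j])
    exact ⟨d', hd', fun i j h => by rw [he i.castSucc j (by simpa using h), Fin.snoc_castSucc]⟩

/-- short orthonormal families are conjugate under the special unitary group -/
theorem exists_map {m : ℕ} (hm : m < n) {d d' : Fin m → Fin n → F} (hd : Orth q d) (hd' : Orth q d') :
    ∃ g ∈ Cfsg.GU n F q ⊓ Cfsg.Geo.specialLinear (Fin n) F,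
      ∀ i, (g : Matrix (Fin n) (Fin n) F) *ᵥ d i = d' i := by
  classical
  have hf := isUnitaryForm_hermForm hF n
  obtain ⟨e, he, hed⟩ := exists_full hF (n - m) m (by omega) d hd
  obtain ⟨e', he', hed'⟩ := exists_full hF (n - m) m (by omega) d' hd'
  obtain ⟨G, hG, hGe⟩ := CfsgLib.AschU.exists_GU_of_orth hF he
  obtain ⟨G', hG', hGe'⟩ := CfsgLib.AschU.exists_GU_of_orth hF he'
  obtain ⟨δ, hδ⟩ : ∃ δ, δ = ((G' * G⁻¹ : GL (Fin n) F) : Matrix (Fin n) (Fin n) F).det := ⟨_, rfl⟩
  have hδN : δ * qConj hF δ = 1 := by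
    have := CfsgLib.AschU.adjM_of_mem_GU hF (mul_mem hG' (inv_mem hG))
    have h2 := congrArg Matrix.det this
    rw [CfsgLib.AschU.adjM, det_transpose, show ((G' * G⁻¹ : GL (Fin n) F) : Matrix (Fin n) (Fin n) F).map (qConj hF) =
      (qConj hF : F →+* F).mapMatrix ((G' * G⁻¹ : GL (Fin n) F) : Matrix (Fin n) (Fin n) F) from rfl,
      ← RingHom.map_det, ← hδ] at h2
    have h3 : ((G' * G⁻¹ : GL (Fin n) F) : Matrix (Fin n) (Fin n) F).det *
        (((G' * G⁻¹ : GL (Fin n) F)⁻¹ : GL (Fin n) F) : Matrix (Fin n) (Fin n) F).det = 1 := by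
      rw [← det_mul, ← Units.val_mul, mul_inv_cancel, Units.val_one, det_one]
    rw [← hδ, ← h2] at h3
    exact h3
  obtain ⟨e'', he''⟩ : ∃ e'', e'' = Function.update e' ⟨n - 1, by omega⟩ (δ⁻¹ • e' ⟨n - 1, by omega⟩) := ⟨_, rfl⟩
  have hN : δ⁻¹ * qConj hF δ⁻¹ = 1 := by rw [map_inv₀, ← mul_inv, hδN, inv_one]
  obtain ⟨G'', hG'', hGe''⟩ := CfsgLib.AschU.exists_GU_of_orth hF (d := e'') fun i j => by
    rw [he'']
    by_cases hi : i = ⟨n - 1, by omega⟩ <;> by_cases hj : j = ⟨n - 1, by omega⟩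
    · subst hi; subst hj
      rw [Function.update_self, hf.smul_left, herm_smul_right hf, he', if_pos rfl, mul_one, hN]
    · subst hi
      rw [Function.update_self, Function.update_of_ne hj, hf.smul_left, he', if_neg (Ne.symm hj), mul_zero]
    · subst hj
      rw [Function.update_self, Function.update_of_ne hi, herm_smul_right hf, he', if_neg hi, mul_zero]
    · rw [Function.update_of_ne hi, Function.update_of_ne hj, he']
  have hcol : ∀ (A : GL (Fin n) F) (v : Fin n → Fin n → F),
      (∀ i, (A : Matrix (Fin n) (Fin n) F) *ᵥ Pi.single i 1 = v i) →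
      (A : Matrix (Fin n) (Fin n) F) = Matrix.of fun r c => v c r := fun A v h => by
    ext r c
    rw [Matrix.of_apply, ← h c, mulVec_single_one]; rfl
  refine ⟨G'' * G⁻¹, Subgroup.mem_inf.2 ⟨(Cfsg.GU n F q).mul_mem hG'' ((Cfsg.GU n F q).inv_mem hG), ?_⟩, fun i => ?_⟩
  · rw [CfsgLib.MaxSub.DecompMax.mem_sl_iff, Units.val_mul, det_mul]
    rw [Units.val_mul, det_mul] at hδ
    have : (G'' : Matrix (Fin n) (Fin n) F).det = δ⁻¹ * (G' : Matrix (Fin n) (Fin n) F).det := by
      rw [hcol G'' _ hGe'', hcol G' _ hGe', ← det_transpose]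
      conv_rhs => rw [← det_transpose]
      rw [he'']
      have := Matrix.det_updateRow_smul (Matrix.of e') ⟨n - 1, by omega⟩ δ⁻¹ (e' ⟨n - 1, by omega⟩)
      exact this.trans (congrArg (fun A => δ⁻¹ * Matrix.det A)
        (Matrix.updateRow_eq_self (Matrix.of e') ⟨n - 1, by omega⟩))
    rw [this, mul_assoc, ← hδ, inv_mul_cancel₀ (left_ne_zero_of_mul_eq_one hδN)]
  · have hi : (i : ℕ) < n := lt_trans i.2 hm
    rw [← hed i ⟨i, hi⟩ rfl, Units.val_mul, ← mulVec_mulVec, ← hGe, inv_mulVec_mulVec, hGe'', he'',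
      Function.update_of_ne (by intro h; have := congrArg Fin.val h; simp at this; omega), hed' i ⟨i, hi⟩ rfl]

/-- two totally isotropic halves with full transvection groups give the whole group -/
theorem su_le_of_halves (hn : 4 ≤ n) {M : Subgroup (GL (Fin n) F)} {A B : Submodule F (Fin n → F)}
    (hA : ∀ x ∈ A, UFull (qConj hF) (Cfsg.hermForm n F q) M x)
    (hB : ∀ x ∈ B, UFull (qConj hF) (Cfsg.hermForm n F q) M x)
    (hsup : A ⊔ B = ⊤) (htiA : ∀ x ∈ A, ∀ y ∈ A, Cfsg.hermForm n F q x y = 0)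
    (htiB : ∀ x ∈ B, ∀ y ∈ B, Cfsg.hermForm n F q x y = 0) :
    Cfsg.GU n F q ⊓ Cfsg.Geo.specialLinear (Fin n) F ≤ M := by
  have hf := isUnitaryForm_hermForm hF n
  refine su_le_of_uFull hF hn fun x hxx => ?_
  set f := Cfsg.hermForm n F q
  obtain ⟨a, ha, b, hb, rfl⟩ := Submodule.mem_sup.1 (show x ∈ A ⊔ B by rw [hsup]; trivial)
  by_cases h : f a b = 0
  swap
  · exact (hA a ha).add hf (hB b hb) h hxx
  rcases eq_or_ne b 0 with rfl | hb0
  · rw [add_zero]; exact hA a ha
  obtain ⟨y, hy, hyb⟩ : ∃ y ∈ A, f y b ≠ 0 := by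
    by_contra hno
    push Not at hno
    obtain ⟨⟨z, hz⟩, -⟩ := hf.nondegenerate b hb0
    obtain ⟨a', ha', b', hb', rfl⟩ := Submodule.mem_sup.1 (show z ∈ A ⊔ B by rw [hsup]; trivial)
    exact hz (by rw [hf.add_left, hno a' ha', htiB b' hb' b hb, add_zero])
  obtain ⟨ζ, hζ0, hζ⟩ := exists_trace_zero hf
  have hσζ : qConj hF ζ = -ζ := by linear_combination hζ
  obtain ⟨y', hy'⟩ : ∃ y', y' = (ζ / f y b) • y := ⟨_, rfl⟩
  have hy'A : y' ∈ A := hy' ▸ A.smul_mem _ hy
  have hy'b : f y' b = ζ := by rw [hy', hf.smul_left, div_mul_cancel₀ _ hyb]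
  have hby' : f b y' = -ζ := by rw [hf.herm, hy'b, hσζ]
  have e1 : f (a - y') b = -ζ := by
    rw [sub_eq_add_neg, ← neg_one_smul F y', hf.add_left, hf.smul_left, h, hy'b]; ring
  have e2 : f b (a - y') = ζ := by rw [hf.herm, e1, map_neg, hσζ, neg_neg]
  have h1 : UFull (qConj hF) f M (a - y' + b) := (hA _ (sub_mem ha hy'A)).add hf (hB b hb)
    (by rw [e1]; exact neg_ne_zero.2 hζ0) (by
      rw [hf.add_left, herm_add_right hf, herm_add_right hf, htiA _ (sub_mem ha hy'A) _ (sub_mem ha hy'A),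
        htiB b hb b hb, e1, e2]
      ring)
  have h2 := h1.add hf (hA y' hy'A) (by
    rw [hf.add_left, htiA _ (sub_mem ha hy'A) y' hy'A, zero_add, hby']; exact neg_ne_zero.2 hζ0)
    (by rw [show a - y' + b + y' = a + b by abel]; exact hxx)
  rwa [show a - y' + b + y' = a + b by abel] at h2

end CfsgLib.MaxSub.SuFour
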